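/-
helper72: S4330 piece SUB (`sub_goal`): transport of the induction hypothesis to an
invariant subgroup `M₁ ≤ M`.
-/
import Mathlib
import Cfsg.Prelude.Def_Solvable
import Cfsg.Agent.Lib.helper38.RO1

set_option autoImplicit false
open Pointwise

namespace Cfsg.Agent.Lib.helper38.RO

universe u v

/-! ## Piece SUB : transport of the induction hypothesis -/
theorem sub_goal (p : ℕ) [Fact p.Prime] {M : Type v} [CommGroup M] [Finite M]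
    (hcop : ¬ p ∣ Nat.card M) (ih : IHyp p M)
    (N₁ Q₁ X : Subgroup (MulAut M)) (hQN : Q₁ ≤ N₁)
    (hnorm : ∀ n ∈ N₁, ∀ q ∈ Q₁, n * q * n⁻¹ ∈ Q₁) (hQ : IsPGroup p ↥Q₁) (hXQ : X ≤ Q₁)
    (M₁ : Subgroup M) (hinv : ∀ n ∈ N₁, ∀ m ∈ M₁, n m ∈ M₁)
    (hlt : Nat.card ↥M₁ < Nat.card M)
    (hX : ∃ x ∈ X, ∃ m ∈ M₁, x m ≠ m) :
    ∃ u ∈ M₁, ∀ n ∈ N₁, ∃ x ∈ X, (n * x * n⁻¹) u ≠ u := by
  let ρ := restrictHom N₁ M₁ hinv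
  have hcop₁ : ¬ p ∣ Nat.card ↥M₁ :=
    fun h => hcop (h.trans (Subgroup.card_subgroup_dvd_card M₁))
  have hgoal := ih ↥M₁ hlt hcop₁
  have h1 : (Q₁.subgroupOf N₁).map ρ ≤ ρ.range := Subgroup.map_le_range _ _
  have h2 : ∀ n ∈ ρ.range, ∀ q ∈ (Q₁.subgroupOf N₁).map ρ,
      n * q * n⁻¹ ∈ (Q₁.subgroupOf N₁).map ρ := by
    rintro _ ⟨n, rfl⟩ _ ⟨q, hq, rfl⟩
    refine ⟨n * q * n⁻¹, ?_, by simp⟩
    rw [SetLike.mem_coe, Subgroup.mem_subgroupOf] at hq ⊢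
    exact hnorm n n.2 q hq
  have h3 : IsPGroup p ↥((Q₁.subgroupOf N₁).map ρ) := (hQ.comap_subtype).map ρ
  have h4 : (X.subgroupOf N₁).map ρ ≤ (Q₁.subgroupOf N₁).map ρ :=
    Subgroup.map_mono (Subgroup.comap_mono hXQ)
  have h5 : (X.subgroupOf N₁).map ρ ≠ ⊥ := by
    obtain ⟨x, hx, m, hm, hxm⟩ := hX
    intro hbot
    have hxN : x ∈ N₁ := hQN (hXQ hx)
    have hmem : ρ ⟨x, hxN⟩ ∈ (X.subgroupOf N₁).map ρ :=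
      ⟨⟨x, hxN⟩, by rw [SetLike.mem_coe, Subgroup.mem_subgroupOf]; exact hx, rfl⟩
    rw [hbot, Subgroup.mem_bot] at hmem
    apply hxm
    have h6 := congrArg (fun f : MulAut ↥M₁ => ((f ⟨m, hm⟩ : ↥M₁) : M)) hmem
    exact h6
  obtain ⟨u, hu⟩ := hgoal ρ.range ((Q₁.subgroupOf N₁).map ρ) ((X.subgroupOf N₁).map ρ)
    h1 h2 h3 h4 h5
  refine ⟨u, u.2, ?_⟩
  intro n hn
  obtain ⟨_, ⟨xs, hxs, rfl⟩, hne⟩ := hu (ρ ⟨n, hn⟩) ⟨⟨n, hn⟩, rfl⟩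
  refine ⟨xs, by rw [SetLike.mem_coe, Subgroup.mem_subgroupOf] at hxs; exact hxs, ?_⟩
  intro e
  apply hne
  apply Subtype.ext
  have h7 : ρ ⟨n, hn⟩ * ρ xs * (ρ ⟨n, hn⟩)⁻¹ = ρ (⟨n, hn⟩ * xs * ⟨n, hn⟩⁻¹) := by simp
  rw [h7, restrictHom_apply]
  exact e

end Cfsg.Agent.Lib.helper38.RO
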