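import Mathlib

/-!
# S4441 SP-B piece J1: eigenbasis of an endomorphism with `S^(p-1) = 1` over `F_p` (helper72)
-/

set_option autoImplicit false

namespace Cfsg.Agent.Lib.helper72.TBJ

open Polynomial

theorem j1_ker_prod {K : Type*} [Field K] {W : Type*} [AddCommGroup W] [Module K W]
    (S : W →ₗ[K] W) (s : Finset K) :
    LinearMap.ker (aeval S (∏ a ∈ s, (X - C a))) ≤ ⨆ μ : K, Module.End.eigenspace S μ := by
  classical
  induction s using Finset.induction_on with
  | empty =>
    intro v hv
    have hv' : v = 0 := by simpa using hv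
    rw [hv']
    exact zero_mem _
  | insert a s ha ih =>
    rw [Finset.prod_insert ha]
    have hcop : IsCoprime (X - C a) (∏ b ∈ s, (X - C b)) := by
      apply IsCoprime.prod_right
      intro b hb
      apply isCoprime_X_sub_C_of_isUnit_sub
      exact (sub_ne_zero.mpr (fun h => ha (by rw [h]; exact hb))).isUnit
    rw [← sup_ker_aeval_eq_ker_aeval_mul_of_coprime S hcop]
    apply sup_le
    · intro v hv
      have hmem : v ∈ Module.End.eigenspace S a := by
        rw [Module.End.mem_eigenspace_iff]
        rw [LinearMap.mem_ker] at hv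
        have h2 : aeval S (X - C a) v = S v - a • v := by
          simp
        rw [h2, sub_eq_zero] at hv
        exact hv
      exact (le_iSup (fun μ => Module.End.eigenspace S μ) a) hmem
    · exact ih

end Cfsg.Agent.Lib.helper72.TBJ

namespace Cfsg.Agent.Lib.helper74.TB

open Polynomial

/-- PIECE J1 (eigenbasis). `S^(p-1) = 1` on a finite-dimensional `F_p`-space: `S` is diagonalizable
(`X^(p-1) - 1 = ∏_{a ≠ 0} (X - a)` splits with simple roots). -/
theorem tb_eigenbasis (p : ℕ) [Fact p.Prime] {W : Type*} [AddCommGroup W] [Module (ZMod p) W]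
    [Module.Finite (ZMod p) W] (S : W →ₗ[ZMod p] W) (hS : S ^ (p - 1) = 1) :
    ∃ (n : ℕ) (b : Module.Basis (Fin n) (ZMod p) W) (a : Fin n → ZMod p),
      ∀ i, S (b i) = a i • b i := by
  classical
  have hp : p.Prime := Fact.out
  have hprod : (∏ a : ZMod p, (X - C a)) = (X ^ p - X : (ZMod p)[X]) := by
    have hroots : (X ^ p - X : (ZMod p)[X]).roots = Finset.univ.val := by
      have := FiniteField.roots_X_pow_card_sub_X (ZMod p)
      rwa [ZMod.card] at this
    have hmonic : (X ^ p - X : (ZMod p)[X]).Monic := by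
      apply monic_X_pow_sub
      rw [degree_X]
      exact_mod_cast hp.one_lt
    have hdeg : (X ^ p - X : (ZMod p)[X]).natDegree = p :=
      FiniteField.X_pow_card_sub_X_natDegree_eq _ hp.one_lt
    have h := prod_multiset_X_sub_C_of_monic_of_roots_card_eq hmonic
      (by rw [hroots, hdeg]; simp [ZMod.card])
    rw [hroots] at h
    rw [← h]
    rfl
  have htop : (⨆ μ : ZMod p, Module.End.eigenspace S μ) = ⊤ := by
    rw [eq_top_iff]
    refine le_trans ?_ (Cfsg.Agent.Lib.helper72.TBJ.j1_ker_prod S Finset.univ)
    rw [hprod]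
    intro v _
    rw [LinearMap.mem_ker]
    have h0 : aeval S (X ^ p - X : (ZMod p)[X]) = 0 := by
      rw [map_sub, map_pow, aeval_X]
      have h1 : S ^ p = S := by
        have h2 : S ^ ((p - 1) + 1) = S := by rw [pow_succ, hS, one_mul]
        rwa [Nat.sub_add_cancel hp.one_lt.le] at h2
      rw [h1, sub_self]
    rw [h0]
    rfl
  let eigenDecomp := DirectSum.isInternal_submodule_of_iSupIndep_of_iSup_eq_top
    (Module.End.eigenspaces_iSupIndep S) htop
  let I := (ν : ZMod p) × Fin (Module.finrank (ZMod p) (Module.End.eigenspace S ν))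
  let v : Module.Basis I (ZMod p) W :=
    eigenDecomp.collectedBasis fun μ => Module.finBasis (ZMod p) (Module.End.eigenspace S μ)
  have hsv : ∀ i : I, S (v i) = i.1 • v i := fun i =>
    Module.End.mem_eigenspace_iff.mp (eigenDecomp.collectedBasis_mem _ i)
  refine ⟨Fintype.card I, v.reindex (Fintype.equivFin I),
    fun j => ((Fintype.equivFin I).symm j).1, ?_⟩
  intro j
  rw [Module.Basis.reindex_apply]
  exact hsv _

end Cfsg.Agent.Lib.helper74.TB
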