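import Mathlib

/-!
# S4441 SP-B piece J2: a cyclic endomorphism commuting with a diagonalizable one (helper72)

Given an eigenbasis `b i` of `S` with eigenvalues `a i`, we enumerate each class
`{i | a i = α}` (rank function `rk`), let `J (b i)` be the basis vector of the same class and
rank one more (zero if there is none) and put `T = S + J`.  For a polynomial `q` with
`q(T) = 0` the `rk i`-th Taylor coefficient of `q` at `a i` vanishes for every `i`, so the root
multiplicity of `a i` is larger than every rank in its class; counting roots gives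
`n ≤ deg q`.
-/

set_option autoImplicit false

namespace Cfsg.Agent.Lib.helper72.TBJ

open Polynomial

open scoped Classical

section

variable {k : Type*} [Field k] {n : ℕ} (a : Fin n → k)

/-- The rank of `i` within the class `{i | a i = α}`, through an arbitrary enumeration. -/
noncomputable def rkAux (α : k) (i : {i : Fin n // a i = α}) : ℕ :=
  (Fintype.equivFin {i : Fin n // a i = α} i : ℕ)

/-- The rank of `i` within its class. -/
noncomputable def rk (i : Fin n) : ℕ := rkAux a (a i) ⟨i, rfl⟩

theorem rk_eq (i : Fin n) (α : k) (h : a i = α) : rk a i = rkAux a α ⟨i, h⟩ := by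
  subst h
  rfl

theorem rk_inj (i j : Fin n) (h : a i = a j) (hr : rk a i = rk a j) : i = j := by
  rw [rk_eq a i (a j) h, rk_eq a j (a j) rfl] at hr
  unfold rkAux at hr
  have h2 := (Fintype.equivFin {i : Fin n // a i = a j}).injective (Fin.val_injective hr)
  exact congrArg Subtype.val h2

theorem rk_down (j : Fin n) (l : ℕ) (hl : l < rk a j) : ∃ i, a i = a j ∧ rk a i = l := by
  have hlt : rk a j < Fintype.card {i : Fin n // a i = a j} := by
    unfold rk rkAux
    exact Fin.is_lt _
  refine ⟨((Fintype.equivFin {i : Fin n // a i = a j}).symm ⟨l, hl.trans hlt⟩).1,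
    ((Fintype.equivFin {i : Fin n // a i = a j}).symm ⟨l, hl.trans hlt⟩).2, ?_⟩
  rw [rk_eq a _ (a j) ((Fintype.equivFin {i : Fin n // a i = a j}).symm ⟨l, hl.trans hlt⟩).2]
  unfold rkAux
  simp

variable {W : Type*} [AddCommGroup W] [Module k W] (b : Module.Basis (Fin n) k W)

/-- The shift: `b i ↦` the basis vector of the same class and rank one more. -/
noncomputable def jJ : W →ₗ[k] W :=
  b.constr k (fun i => ∑ j, if (a j = a i ∧ rk a j = rk a i + 1) then b j else 0)

theorem jJ_apply (i : Fin n) :
    jJ a b (b i) = ∑ j, if (a j = a i ∧ rk a j = rk a i + 1) then b j else 0 := by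
  unfold jJ
  rw [Module.Basis.constr_basis]

/-- The basis vector of class `α` and rank `l` (zero if there is none). -/
noncomputable def jB (α : k) (l : ℕ) : W := ∑ i, if (a i = α ∧ rk a i = l) then b i else 0

theorem jB_step (S : W →ₗ[k] W) (hS : ∀ i, S (b i) = a i • b i) (α : k) (l : ℕ) :
    (S + jJ a b - α • (1 : W →ₗ[k] W)) (jB a b α l) = jB a b α (l + 1) := by
  unfold jB
  rw [map_sum]
  have hterm : ∀ i, (S + jJ a b - α • (1 : W →ₗ[k] W))
      (if (a i = α ∧ rk a i = l) then b i else 0)
      = ∑ j, if (a i = α ∧ rk a i = l) ∧ (a j = α ∧ rk a j = l + 1) then b j else 0 := by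
    intro i
    by_cases h : a i = α ∧ rk a i = l
    · rw [if_pos h]
      simp only [LinearMap.sub_apply, LinearMap.add_apply, LinearMap.smul_apply,
        Module.End.one_apply]
      rw [hS, jJ_apply, h.1, add_sub_cancel_left]
      apply Finset.sum_congr rfl
      intro j _
      rw [h.2]
      simp
    · rw [if_neg h, map_zero]
      symm
      apply Finset.sum_eq_zero
      intro j _
      rw [if_neg (fun hh => h hh.1)]
  rw [Finset.sum_congr rfl (fun i _ => hterm i), Finset.sum_comm]
  apply Finset.sum_congr rfl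
  intro j _
  by_cases hj : a j = α ∧ rk a j = l + 1
  · rw [if_pos hj]
    obtain ⟨i₀, hi1, hi2⟩ := rk_down a j l (by omega)
    rw [Finset.sum_eq_single i₀]
    · rw [if_pos ⟨⟨hi1.trans hj.1, hi2⟩, hj⟩]
    · intro i _ hne
      rw [if_neg]
      rintro ⟨⟨h1, h2⟩, -⟩
      exact hne (rk_inj a i i₀ (h1.trans (hi1.trans hj.1).symm) (h2.trans hi2.symm))
    · intro h
      exact absurd (Finset.mem_univ _) h
  · rw [if_neg hj]
    apply Finset.sum_eq_zero
    intro i _
    rw [if_neg (fun hh => hj hh.2)]

theorem jB_pow (S : W →ₗ[k] W) (hS : ∀ i, S (b i) = a i • b i) (α : k) (l : ℕ) :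
    ((S + jJ a b - α • (1 : W →ₗ[k] W)) ^ l) (jB a b α 0) = jB a b α l := by
  induction l with
  | zero => simp
  | succ l ih => rw [pow_succ', Module.End.mul_apply, ih, jB_step a b S hS]

theorem jB_repr (α : k) (l : ℕ) (i : Fin n) :
    b.repr (jB a b α l) i = if (a i = α ∧ rk a i = l) then 1 else 0 := by
  unfold jB
  rw [map_sum, Finsupp.finsetSum_apply, Finset.sum_eq_single i]
  · split_ifs with h
    · simp
    · simp
  · intro j _ hne
    split_ifs with h
    · rw [Module.Basis.repr_self, Finsupp.single_apply, if_neg hne]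
    · simp
  · intro h
    exact absurd (Finset.mem_univ _) h

theorem j2_coeff_zero (S : W →ₗ[k] W) (hS : ∀ i, S (b i) = a i • b i) (q : k[X])
    (hq : aeval (S + jJ a b) q = 0) (i : Fin n) :
    (taylor (a i) q).coeff (rk a i) = 0 := by
  have h1 : aeval (S + jJ a b) q = ∑ l ∈ (taylor (a i) q).support,
      (taylor (a i) q).coeff l • (S + jJ a b - a i • (1 : W →ₗ[k] W)) ^ l := by
    conv_lhs => rw [← sum_taylor_eq q (a i)]
    rw [Polynomial.sum_def, map_sum]
    apply Finset.sum_congr rfl
    intro l _
    rw [map_mul, aeval_C, map_pow, map_sub, aeval_X, aeval_C, Algebra.algebraMap_eq_smul_one,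
      Algebra.algebraMap_eq_smul_one, smul_mul_assoc, one_mul]
  have h3 : ∀ l ∈ (taylor (a i) q).support,
      b.repr (((taylor (a i) q).coeff l • (S + jJ a b - a i • (1 : W →ₗ[k] W)) ^ l)
        (jB a b (a i) 0)) i
      = if rk a i = l then (taylor (a i) q).coeff l else 0 := by
    intro l _
    rw [LinearMap.smul_apply, jB_pow a b S hS, map_smul, Finsupp.smul_apply, jB_repr,
      smul_eq_mul]
    by_cases h : rk a i = l
    · simp [h]
    · simp [h]
  have h4 : b.repr ((aeval (S + jJ a b) q) (jB a b (a i) 0)) i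
      = ∑ l ∈ (taylor (a i) q).support, if rk a i = l then (taylor (a i) q).coeff l else 0 := by
    rw [h1, LinearMap.sum_apply, map_sum, Finsupp.finsetSum_apply]
    exact Finset.sum_congr rfl h3
  rw [hq, LinearMap.zero_apply, map_zero, Finsupp.zero_apply, Finset.sum_ite_eq] at h4
  by_cases hmem : rk a i ∈ (taylor (a i) q).support
  · rw [if_pos hmem] at h4
    exact h4.symm
  · exact Polynomial.notMem_support_iff.mp hmem

theorem j2_rk_lt (S : W →ₗ[k] W) (hS : ∀ i, S (b i) = a i • b i) (q : k[X]) (hq0 : q ≠ 0)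
    (hq : aeval (S + jJ a b) q = 0) (i : Fin n) :
    rk a i < rootMultiplicity (a i) q := by
  by_contra hcon
  rw [not_lt] at hcon
  obtain ⟨i', hi1, hi2⟩ : ∃ i', a i' = a i ∧ rk a i' = rootMultiplicity (a i) q := by
    rcases hcon.lt_or_eq with h | h
    · exact rk_down a i _ h
    · exact ⟨i, rfl, h.symm⟩
  have h0 := j2_coeff_zero a b S hS q hq i'
  rw [hi1, hi2, rootMultiplicity_eq_natTrailingDegree, taylor_apply] at h0
  have hne : q.comp (X + C (a i)) ≠ 0 := by
    rw [← taylor_apply]
    exact fun h => hq0 (taylor_injective _ (by rw [h, map_zero]))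
  exact (trailingCoeff_nonzero_iff_nonzero.mpr hne) h0

theorem j2_degree (S : W →ₗ[k] W) (hS : ∀ i, S (b i) = a i • b i) (q : k[X]) (hq0 : q ≠ 0)
    (hq : aeval (S + jJ a b) q = 0) : n ≤ q.natDegree := by
  have h1 : ∀ α ∈ (Finset.univ.image a),
      (Finset.univ.filter (fun i => a i = α)).card ≤ q.roots.count α := by
    intro α _
    rw [count_roots]
    have h : (Finset.univ.filter (fun i => a i = α)).card
        ≤ (Finset.range (rootMultiplicity α q)).card := by
      apply Finset.card_le_card_of_injOn (rk a)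
      · intro i hi
        simp only [Finset.coe_filter, Finset.mem_univ, true_and, Set.mem_ofPred_eq] at hi
        rw [Finset.mem_coe, Finset.mem_range, ← hi]
        exact j2_rk_lt a b S hS q hq0 hq i
      · intro i hi j hj hij
        simp only [Finset.coe_filter, Finset.mem_univ, true_and, Set.mem_ofPred_eq] at hi hj
        exact rk_inj a i j (hi.trans hj.symm) hij
    rwa [Finset.card_range] at h
  have h2 : n = ∑ α ∈ Finset.univ.image a, (Finset.univ.filter (fun i => a i = α)).card := by
    have h := Finset.card_eq_sum_card_image a (Finset.univ : Finset (Fin n))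
    simpa using h
  have h3 : ∑ α ∈ Finset.univ.image a, q.roots.count α ≤ Multiset.card q.roots := by
    have hsub : Finset.univ.image a ⊆ q.roots.toFinset := by
      intro α hα
      obtain ⟨i, -, rfl⟩ := Finset.mem_image.mp hα
      rw [Multiset.mem_toFinset, ← Multiset.count_pos, count_roots]
      exact lt_of_le_of_lt (Nat.zero_le _) (j2_rk_lt a b S hS q hq0 hq i)
    calc ∑ α ∈ Finset.univ.image a, q.roots.count α
        ≤ ∑ α ∈ q.roots.toFinset, q.roots.count α :=
          Finset.sum_le_sum_of_subset hsub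
      _ = Multiset.card q.roots := Multiset.toFinset_sum_count_eq _
  calc n = ∑ α ∈ Finset.univ.image a, (Finset.univ.filter (fun i => a i = α)).card := h2
    _ ≤ ∑ α ∈ Finset.univ.image a, q.roots.count α := Finset.sum_le_sum h1
    _ ≤ Multiset.card q.roots := h3
    _ ≤ q.natDegree := card_roots' q

theorem j2_comm (S : W →ₗ[k] W) (hS : ∀ i, S (b i) = a i • b i) :
    (S + jJ a b) ∘ₗ S = S ∘ₗ (S + jJ a b) := by
  apply b.ext
  intro i
  simp only [LinearMap.comp_apply, LinearMap.add_apply]
  rw [hS, map_smul, map_smul, hS, jJ_apply, map_add, map_smul, hS, map_sum, Finset.smul_sum]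
  congr 1
  apply Finset.sum_congr rfl
  intro j _
  split_ifs with h
  · rw [hS, h.1]
  · rw [map_zero, smul_zero]

end

end Cfsg.Agent.Lib.helper72.TBJ

namespace Cfsg.Agent.Lib.helper74.TB

/-- PIECE J2 (Jordan). Given an eigenbasis of `S`, there is `T` commuting with `S` that is killed by
no nonzero polynomial of degree `≤ D < dim W`. -/
theorem tb_jordan {k : Type*} [Field k] {W : Type*} [AddCommGroup W] [Module k W] {n : ℕ}
    (b : Module.Basis (Fin n) k W) (a : Fin n → k) (S : W →ₗ[k] W) (hS : ∀ i, S (b i) = a i • b i)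
    (D : ℕ) (hD : D < n) :
    ∃ T : W →ₗ[k] W, T ∘ₗ S = S ∘ₗ T ∧
      ∀ q : Polynomial k, q ≠ 0 → q.natDegree ≤ D → Polynomial.aeval T q ≠ 0 := by
  refine ⟨S + Cfsg.Agent.Lib.helper72.TBJ.jJ a b, Cfsg.Agent.Lib.helper72.TBJ.j2_comm a b S hS, ?_⟩
  intro q hq0 hdeg hq
  have h := Cfsg.Agent.Lib.helper72.TBJ.j2_degree a b S hS q hq0 hq
  omega

end Cfsg.Agent.Lib.helper74.TB
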