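import Mathlib
import Cfsg.Prelude.Def_Classical
import Cfsg.Agent.Lib.helper99.UGen1
import Cfsg.Agent.Lib.helper44.SUWDefs

/-!
Definitions for the S2334 split project (Landazuri–Seitz–Zalesskii bound for `SU_n(q)`, `n` odd):
the Siegel elements of `SU_{2m}` embedded in dimension `2m + 1`, the isotropic vectors `F w`,
the anisotropic vector `e₀`, the matrices of the Eichler (Heisenberg) elements, and their
commutator matrices.
-/

set_option autoImplicit false

namespace Cfsg.Agent.Lib.helper72.SUO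

open Matrix Cfsg Cfsg.Agent.Lib.helper44.SUW

variable {K : Type*} [Field K]

/-- A `(m+m) × (m+m)` matrix in dimension `m + m + 1`: block diagonal with last entry `c`. -/
def embMat {m : ℕ} (M : Matrix (Fin (m + m)) (Fin (m + m)) K) (c : K) :
    Matrix (Fin (m + m + 1)) (Fin (m + m + 1)) K :=
  (Matrix.fromBlocks M 0 0 (c • (1 : Matrix (Fin 1) (Fin 1) K))).submatrix finSumFinEquiv.symm
    finSumFinEquiv.symm

/-- The Siegel element `u(C)` of `SU_{2m}` in dimension `2m + 1`. -/
def uhMat (σ : K →+* K) (ε : K) {m : ℕ} (C : Matrix (Fin m) (Fin m) K) :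
    Matrix (Fin (m + m + 1)) (Fin (m + m + 1)) K :=
  embMat (uMat σ ε C) 1

/-- The vector `F w = (w, ε w, 0)` (isotropic when `ε * σ ε = -1`). -/
def fvec (ε : K) {m : ℕ} (w : Fin m → K) : Fin (m + m + 1) → K :=
  fun i => Sum.elim (fun j => Sum.elim w (fun a => ε * w a) (finSumFinEquiv.symm j))
    (fun _ => 0) (finSumFinEquiv.symm i)

/-- The last basis vector `e₀ = (0, 0, 1)`. -/
def e0 (K : Type*) [Field K] (m : ℕ) : Fin (m + m + 1) → K :=
  fun i => Sum.elim (fun _ => 0) (fun _ => 1) (finSumFinEquiv.symm i)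

/-- The matrix of the Eichler element `x(w)`:
`v ↦ v + h(v, e₀) F w - h(v, F w) e₀ + β h(v, F w) F w`. -/
def xMat (q : ℕ) (ε β : K) {m : ℕ} (w : Fin m → K) :
    Matrix (Fin (m + m + 1)) (Fin (m + m + 1)) K :=
  Cfsg.Agent.Lib.helper17.eichlerU (m + m + 1) q (fvec ε w) (-e0 K m) β

/-- The commutator matrix `w' w† - w w'†`. -/
def commC (σ : K →+* K) {m : ℕ} (w w' : Fin m → K) : Matrix (Fin m) (Fin m) K :=
  Matrix.vecMulVec w' (fun j => σ (w j)) - Matrix.vecMulVec w (fun j => σ (w' j))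

end Cfsg.Agent.Lib.helper72.SUO
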