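import Mathlib
import Cfsg.Agent.Lib.helper44.SL3Defs

/-! S2287 piece MATs (racing copy, prefixed names): the Steinberg relators and `r11` hold for
the explicit matrices of `SL₃(F)`. -/

set_option autoImplicit false

namespace Cfsg.Agent.Lib.helper44.SL3

section

variable {F : Type*} [Field F]

theorem h72_sl3_ext {A B : Matrix.SpecialLinearGroup (Fin 3) F} (h : A.val = B.val) : A = B :=
  Subtype.ext h

theorem h72_val_inv {A : Matrix.SpecialLinearGroup (Fin 3) F}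
    {M N : Matrix (Fin 3) (Fin 3) F} (hA : A.val = M) (h : M * N = 1) : (A⁻¹).val = N := by
  have h1 : (A⁻¹).val * (A.val * N) = N := by
    rw [← Matrix.mul_assoc, ← Matrix.SpecialLinearGroup.coe_mul, inv_mul_cancel]
    simp
  rw [hA, h, Matrix.mul_one] at h1
  exact h1

theorem h72_val_mul {A B : Matrix.SpecialLinearGroup (Fin 3) F}
    {M N P : Matrix (Fin 3) (Fin 3) F} (hA : A.val = M) (hB : B.val = N) (h : M * N = P) :
    (A * B).val = P := by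
  rw [Matrix.SpecialLinearGroup.coe_mul, hA, hB, h]

theorem h72_val_conj {A B : Matrix.SpecialLinearGroup (Fin 3) F}
    {M M' N P : Matrix (Fin 3) (Fin 3) F} (hA : A.val = M) (hA' : M * M' = 1) (hB : B.val = N)
    (h : M * N * M' = P) : (A * B * A⁻¹).val = P := by
  rw [Matrix.SpecialLinearGroup.coe_mul, Matrix.SpecialLinearGroup.coe_mul, hA, hB,
    h72_val_inv hA hA', h]

theorem h72_val_cm {A B : Matrix.SpecialLinearGroup (Fin 3) F}
    {M M' N N' P : Matrix (Fin 3) (Fin 3) F} (hA : A.val = M) (hA' : M * M' = 1)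
    (hB : B.val = N) (hB' : N * N' = 1)
    (h : M * N * M' * N' = P) : (cm A B).val = P := by
  unfold cm
  rw [Matrix.SpecialLinearGroup.coe_mul, Matrix.SpecialLinearGroup.coe_mul,
    Matrix.SpecialLinearGroup.coe_mul, hA, hB, h72_val_inv hA hA', h72_val_inv hB hB', h]

theorem h72_val_mX01 (a : F) : (mX01 F a).val = !![1, a, 0; 0, 1, 0; 0, 0, 1] := by
  unfold mX01
  rw [Matrix.SpecialLinearGroup.transvection_coe]
  ext i j
  fin_cases i <;> fin_cases j <;> simp [Matrix.single]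

theorem h72_val_mC : (mC F).val = !![0, 0, 1; 1, 0, 0; 0, 1, 0] := rfl

theorem h72_val_mH3 (ω : Fˣ) :
    (mH3 ω).val = !![(ω : F), 0, 0; 0, 1, 0; 0, 0, (ω : F)⁻¹] := by
  unfold mH3
  simp

theorem h72_mC_inv : (!![0, 0, 1; 1, 0, 0; 0, 1, 0] : Matrix (Fin 3) (Fin 3) F) *
    !![0, 1, 0; 0, 0, 1; 1, 0, 0] = 1 := by
  simp [Matrix.one_fin_three]

theorem h72_mCC_inv : (!![0, 1, 0; 0, 0, 1; 1, 0, 0] : Matrix (Fin 3) (Fin 3) F) *
    !![0, 0, 1; 1, 0, 0; 0, 1, 0] = 1 := by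
  simp [Matrix.one_fin_three]

theorem h72_val_mCC : (mC F * mC F).val = !![0, 1, 0; 0, 0, 1; 1, 0, 0] :=
  h72_val_mul h72_val_mC h72_val_mC (by simp)

/-- `wy = x₂₃(1)`. -/
theorem h72_val_wy : (wy (mX01 F 1) (mC F)).val = !![1, 0, 0; 0, 1, 1; 0, 0, 1] := by
  unfold wy
  exact h72_val_conj h72_val_mC h72_mC_inv (h72_val_mX01 1) (by simp)

/-- `wz = x₁₃(1)`. -/
theorem h72_val_wz : (wz (mX01 F 1) (mC F)).val = !![1, 0, 1; 0, 1, 0; 0, 0, 1] := by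
  unfold wz
  exact h72_val_cm (M' := !![1, -1, 0; 0, 1, 0; 0, 0, 1]) (N' := !![1, 0, 0; 0, 1, -1; 0, 0, 1])
    (h72_val_mX01 1) (by simp [Matrix.one_fin_three])
    h72_val_wy (by simp [Matrix.one_fin_three])
    (by simp)

/-- `c² wz c⁻² = x₃₂(1)`. -/
theorem h72_val_ww : (mC F * mC F * wz (mX01 F 1) (mC F) * (mC F * mC F)⁻¹).val =
    !![1, 0, 0; 0, 1, 0; 0, 1, 1] :=
  h72_val_conj h72_val_mCC h72_mCC_inv h72_val_wz (by simp)

/-- S2287 piece MATs (racing copy of `mat_steinberg`). -/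
theorem h72_mat_steinberg {F : Type*} [Field F] :
    cm (mX01 F 1) (wz (mX01 F 1) (mC F)) = 1 ∧
    cm (wy (mX01 F 1) (mC F)) (wz (mX01 F 1) (mC F)) = 1 ∧
    cm (wz (mX01 F 1) (mC F)) (mC F * mC F * wz (mX01 F 1) (mC F) * (mC F * mC F)⁻¹) =
      mX01 F 1 := by
  refine ⟨?_, ?_, ?_⟩
  · apply h72_sl3_ext
    rw [h72_val_cm (M' := !![1, -1, 0; 0, 1, 0; 0, 0, 1]) (N' := !![1, 0, -1; 0, 1, 0; 0, 0, 1])
      (P := 1) (h72_val_mX01 1) (by simp [Matrix.one_fin_three])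
      h72_val_wz (by simp [Matrix.one_fin_three]) (by simp [Matrix.one_fin_three])]
    rfl
  · apply h72_sl3_ext
    rw [h72_val_cm (M' := !![1, 0, 0; 0, 1, -1; 0, 0, 1]) (N' := !![1, 0, -1; 0, 1, 0; 0, 0, 1])
      (P := 1) h72_val_wy (by simp [Matrix.one_fin_three])
      h72_val_wz (by simp [Matrix.one_fin_three]) (by simp [Matrix.one_fin_three])]
    rfl
  · apply h72_sl3_ext
    rw [h72_val_cm (M' := !![1, 0, -1; 0, 1, 0; 0, 0, 1]) (N' := !![1, 0, 0; 0, 1, 0; 0, -1, 1])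
      (P := !![1, 1, 0; 0, 1, 0; 0, 0, 1]) h72_val_wz (by simp [Matrix.one_fin_three])
      h72_val_ww (by simp [Matrix.one_fin_three]) (by simp), h72_val_mX01]

theorem h72_val_wk (ω : Fˣ) :
    (wk (mH3 ω) (mC F)).val = !![(ω : F)⁻¹, 0, 0; 0, (ω : F), 0; 0, 0, 1] := by
  unfold wk
  exact h72_val_conj h72_val_mC h72_mC_inv (h72_val_mH3 ω) (by simp)

theorem h72_val_wk' (ω : Fˣ) :
    (wk' (mH3 ω) (mC F)).val = !![1, 0, 0; 0, (ω : F)⁻¹, 0; 0, 0, (ω : F)] := by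
  unfold wk'
  exact h72_val_conj h72_val_mCC h72_mCC_inv (h72_val_mH3 ω) (by simp)

/-- S2287 piece MATs (racing copy of `mat_r11`). -/
theorem h72_mat_r11 {F : Type*} [Field F] (ω : Fˣ) :
    cm (wk' (mH3 ω) (mC F) * (wk (mH3 ω) (mC F))⁻¹) (wz (mX01 F 1) (mC F)) = 1 := by
  have hω : (ω : F) ≠ 0 := ω.ne_zero
  have h2 : (ω : F)⁻¹ * (ω : F)⁻¹ * ((ω : F) * (ω : F)) = 1 := by field_simp
  have hk : ((wk (mH3 ω) (mC F))⁻¹).val = !![(ω : F), 0, 0; 0, (ω : F)⁻¹, 0; 0, 0, 1] :=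
    h72_val_inv (h72_val_wk ω) (by simp [Matrix.one_fin_three, hω])
  have hd : (wk' (mH3 ω) (mC F) * (wk (mH3 ω) (mC F))⁻¹).val =
      !![(ω : F), 0, 0; 0, (ω : F)⁻¹ * (ω : F)⁻¹, 0; 0, 0, (ω : F)] :=
    h72_val_mul (h72_val_wk' ω) hk (by simp)
  apply h72_sl3_ext
  rw [h72_val_cm (M' := !![(ω : F)⁻¹, 0, 0; 0, (ω : F) * (ω : F), 0; 0, 0, (ω : F)⁻¹])
      (N' := !![1, 0, -1; 0, 1, 0; 0, 0, 1])
      (P := 1) hd (by simp [Matrix.one_fin_three, hω, h2])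
      h72_val_wz (by simp [Matrix.one_fin_three]) (by simp [Matrix.one_fin_three, hω, h2])]
  rfl

end

end Cfsg.Agent.Lib.helper44.SL3
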