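import Mathlib
import Cfsg.Prelude.Def_OddOrderLocal
import Cfsg.Prelude.Def_Solvable
import Cfsg.Agent.Lib.helper75.FpfRank
import Cfsg.Agent.Lib.helper1.Coprime

/-!
# Frobenius complements from fixed-point-free sections (helper72)

* `mem_sup_of_le_normalizer`, `card_sup_dvd_of_le_normalizer`, `le_normalizer_sup`: products of a
  subgroup with a subgroup normalizing it.
* `exists_frobenius_of_section`: if `A` normalizes `D ≤ T` (with `D` normal in `T`, `D ≠ T`) and
  no non-identity element of `A` fixes a coset of `D` in `T` other than `D`, then `A` is isomorphic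
  to a Frobenius complement (of the group `(T ⊔ A) / D`).
* `exists_frobenius_of_pgroup`: the same conclusion from an `A`-invariant `r`-group `R` such that
  the fixed points on `R` of every non-identity element of `A` lie in a subgroup
  `K₀` whose intersection with `R` is centralized by `A`, when `R` is not inside `K₀`.
-/

set_option autoImplicit false

namespace Cfsg.Agent.Lib.helper72

open Cfsg
open scoped Pointwise

universe u

variable {G : Type u} [Group G]

/-- If `A` normalizes `T`, every element of `T ⊔ A` is a product `t * a`. -/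
theorem mem_sup_of_le_normalizer {T A : Subgroup G}
    (hAT : A ≤ Subgroup.normalizer (T : Set G)) {y : G} (hy : y ∈ T ⊔ A) :
    ∃ t ∈ T, ∃ a ∈ A, y = t * a := by
  have hn : ∀ a ∈ A, ∀ t ∈ T, a * t * a⁻¹ ∈ T := Subgroup.le_normalizer_iff.mp hAT
  rw [Subgroup.sup_eq_closure] at hy
  induction hy using Subgroup.closure_induction with
  | mem x hx =>
    rcases hx with hx | hx
    · exact ⟨x, hx, 1, A.one_mem, by simp⟩
    · exact ⟨1, T.one_mem, x, hx, by simp⟩
  | one => exact ⟨1, T.one_mem, 1, A.one_mem, by simp⟩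
  | mul x y _ _ ihx ihy =>
    obtain ⟨t, ht, a, ha, rfl⟩ := ihx
    obtain ⟨t', ht', a', ha', rfl⟩ := ihy
    exact ⟨t * (a * t' * a⁻¹), T.mul_mem ht (hn a ha t' ht'), a * a', A.mul_mem ha ha', by group⟩
  | inv x _ ih =>
    obtain ⟨t, ht, a, ha, rfl⟩ := ih
    exact ⟨a⁻¹ * t⁻¹ * a⁻¹⁻¹, hn a⁻¹ (A.inv_mem ha) t⁻¹ (T.inv_mem ht), a⁻¹, A.inv_mem ha,
      by group⟩

/-- If `A` normalizes `T`, the order of `T ⊔ A` divides `|T| * |A|`. -/
theorem card_sup_dvd_of_le_normalizer [Finite G] {T A : Subgroup G}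
    (hAT : A ≤ Subgroup.normalizer (T : Set G)) :
    Nat.card ↥(T ⊔ A) ∣ Nat.card T * Nat.card A := by
  have hTS : T ≤ T ⊔ A := le_sup_left
  have hAS : A ≤ T ⊔ A := le_sup_right
  have : (T.subgroupOf (T ⊔ A)).Normal :=
    (Subgroup.normal_subgroupOf_iff_le_normalizer hTS).mpr (sup_le Subgroup.le_normalizer hAT)
  let φ : A →* ↥(T ⊔ A) ⧸ T.subgroupOf (T ⊔ A) :=
    (QuotientGroup.mk' (T.subgroupOf (T ⊔ A))).comp (Subgroup.inclusion hAS)
  have hsurj : Function.Surjective φ := by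
    intro q
    obtain ⟨y, rfl⟩ := QuotientGroup.mk'_surjective _ q
    obtain ⟨t, ht, a, ha, hya⟩ := mem_sup_of_le_normalizer hAT y.2
    refine ⟨⟨a, ha⟩, ?_⟩
    show QuotientGroup.mk' (T.subgroupOf (T ⊔ A)) (Subgroup.inclusion hAS ⟨a, ha⟩) =
      QuotientGroup.mk' (T.subgroupOf (T ⊔ A)) y
    rw [QuotientGroup.mk'_apply, QuotientGroup.mk'_apply, QuotientGroup.eq,
      Subgroup.mem_subgroupOf]
    have h1 : a⁻¹ * t * a⁻¹⁻¹ ∈ T := Subgroup.le_normalizer_iff.mp hAT a⁻¹ (A.inv_mem ha) t ht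
    have h2 : ((Subgroup.inclusion hAS ⟨a, ha⟩)⁻¹ * y : ↥(T ⊔ A)) = (a⁻¹ * y : G) := rfl
    rw [h2, hya]
    have h3 : a⁻¹ * (t * a) = a⁻¹ * t * a⁻¹⁻¹ := by group
    rw [h3]
    exact h1
  have h1 : Nat.card (↥(T ⊔ A) ⧸ T.subgroupOf (T ⊔ A)) ∣ Nat.card A :=
    Subgroup.card_dvd_of_surjective φ hsurj
  have h2 : Nat.card ↥(T ⊔ A) =
      Nat.card (↥(T ⊔ A) ⧸ T.subgroupOf (T ⊔ A)) * Nat.card (T.subgroupOf (T ⊔ A)) :=
    Subgroup.card_eq_card_quotient_mul_card_subgroup _
  have h3 : Nat.card (T.subgroupOf (T ⊔ A)) = Nat.card T :=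
    Nat.card_congr (Subgroup.subgroupOfEquivOfLe hTS).toEquiv
  rw [h2, h3, mul_comm]
  exact Nat.mul_dvd_mul_left _ h1

/-- A subgroup normalizing two subgroups normalizes their join. -/
theorem le_normalizer_sup {X A B : Subgroup G} (hA : X ≤ Subgroup.normalizer (A : Set G))
    (hB : X ≤ Subgroup.normalizer (B : Set G)) :
    X ≤ Subgroup.normalizer ((A ⊔ B : Subgroup G) : Set G) := by
  rw [Subgroup.le_normalizer_iff]
  intro x hx y hy
  have hnA := Subgroup.le_normalizer_iff.mp hA x hx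
  have hnB := Subgroup.le_normalizer_iff.mp hB x hx
  rw [Subgroup.sup_eq_closure] at hy
  induction hy using Subgroup.closure_induction with
  | mem z hz =>
    rcases hz with hz | hz
    · exact Subgroup.mem_sup_left (hnA z hz)
    · exact Subgroup.mem_sup_right (hnB z hz)
  | one => simp
  | mul a b _ _ iha ihb =>
    have : x * (a * b) * x⁻¹ = (x * a * x⁻¹) * (x * b * x⁻¹) := by group
    rw [this]; exact Subgroup.mul_mem _ iha ihb
  | inv a _ iha =>
    have : x * a⁻¹ * x⁻¹ = (x * a * x⁻¹)⁻¹ := by group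
    rw [this]; exact Subgroup.inv_mem _ iha

/-- **Frobenius complement from a fixed-point-free section.** -/
theorem exists_frobenius_of_section [Finite G] (A T D : Subgroup G)
    (hDT : D ≤ T) (hTD : T ≤ Subgroup.normalizer (D : Set G)) (hne : ¬ T ≤ D)
    (hAT : A ≤ Subgroup.normalizer (T : Set G)) (hAD : A ≤ Subgroup.normalizer (D : Set G))
    (hA1 : A ≠ ⊥)
    (hfpf : ∀ a ∈ A, a ≠ 1 → ∀ t ∈ T, a * t * a⁻¹ * t⁻¹ ∈ D → t ∈ D) :
    ∃ (F : Type u) (_ : Group F) (_ : Finite F) (C : Subgroup F),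
      Cfsg.IsFrobeniusComplement C ∧ Nonempty (A ≃* C) := by
  classical
  obtain ⟨t₀, ht₀, ht₀D⟩ := SetLike.not_le_iff_exists.mp hne
  have hnTD := Subgroup.le_normalizer_iff.mp hTD
  -- A ⊓ T = ⊥
  have hATbot : ∀ a ∈ A, a ∈ T → a = 1 := by
    intro a ha haT
    by_contra h1
    have haD : a ∈ D := hfpf a ha h1 a haT (by simp [D.one_mem])
    have h3 : a * t₀ * a⁻¹ * t₀⁻¹ ∈ D := by
      have h2 : t₀ * a⁻¹ * t₀⁻¹ ∈ D := hnTD t₀ ht₀ a⁻¹ (D.inv_mem haD)
      have h4 : a * t₀ * a⁻¹ * t₀⁻¹ = a * (t₀ * a⁻¹ * t₀⁻¹) := by group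
      rw [h4]; exact D.mul_mem haD h2
    exact ht₀D (hfpf a ha h1 t₀ ht₀ h3)
  have hTY : T ≤ T ⊔ A := le_sup_left
  have hAY : A ≤ T ⊔ A := le_sup_right
  have hDY : D ≤ T ⊔ A := hDT.trans hTY
  have hYD : T ⊔ A ≤ Subgroup.normalizer (D : Set G) := sup_le hTD hAD
  have hDn : (D.subgroupOf (T ⊔ A)).Normal :=
    (Subgroup.normal_subgroupOf_iff_le_normalizer hDY).mpr hYD
  let f : A →* ↥(T ⊔ A) ⧸ D.subgroupOf (T ⊔ A) :=
    (QuotientGroup.mk' (D.subgroupOf (T ⊔ A))).comp (Subgroup.inclusion hAY)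
  let g : T →* ↥(T ⊔ A) ⧸ D.subgroupOf (T ⊔ A) :=
    (QuotientGroup.mk' (D.subgroupOf (T ⊔ A))).comp (Subgroup.inclusion hTY)
  have hf1 : ∀ a : A, f a = 1 ↔ (a : G) ∈ D := by
    intro a
    show (QuotientGroup.mk' (D.subgroupOf (T ⊔ A))) (Subgroup.inclusion hAY a) = 1 ↔ _
    rw [QuotientGroup.mk'_apply, QuotientGroup.eq_one_iff, Subgroup.mem_subgroupOf]
    rfl
  have hg1 : ∀ t : T, g t = 1 ↔ (t : G) ∈ D := by
    intro t
    show (QuotientGroup.mk' (D.subgroupOf (T ⊔ A))) (Subgroup.inclusion hTY t) = 1 ↔ _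
    rw [QuotientGroup.mk'_apply, QuotientGroup.eq_one_iff, Subgroup.mem_subgroupOf]
    rfl
  have hfinj : Function.Injective f := by
    rw [injective_iff_map_eq_one]
    intro a ha
    exact Subtype.ext (hATbot a a.2 (hDT ((hf1 a).mp ha)))
  have hKn : (g.range).Normal := by
    constructor
    intro k hk γ
    obtain ⟨t, rfl⟩ := hk
    obtain ⟨y, rfl⟩ := QuotientGroup.mk'_surjective (D.subgroupOf (T ⊔ A)) γ
    have hyT : (y : G) * t * (y : G)⁻¹ ∈ T :=
      Subgroup.le_normalizer_iff.mp (sup_le Subgroup.le_normalizer hAT) y y.2 t t.2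
    refine ⟨⟨_, hyT⟩, ?_⟩
    show QuotientGroup.mk' (D.subgroupOf (T ⊔ A)) (Subgroup.inclusion hTY ⟨_, hyT⟩) =
      QuotientGroup.mk' (D.subgroupOf (T ⊔ A)) y *
        QuotientGroup.mk' (D.subgroupOf (T ⊔ A)) (Subgroup.inclusion hTY t) *
        (QuotientGroup.mk' (D.subgroupOf (T ⊔ A)) y)⁻¹
    rw [← map_inv, ← map_mul, ← map_mul]
    rfl
  have hdisj : Disjoint g.range f.range := by
    rw [Subgroup.disjoint_def]
    intro x hxK hxC
    obtain ⟨t, rfl⟩ := hxK
    obtain ⟨a, ha⟩ := hxC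
    have h1 : ((a : G))⁻¹ * (t : G) ∈ D := by
      have h0 : QuotientGroup.mk' (D.subgroupOf (T ⊔ A)) (Subgroup.inclusion hAY a) =
          QuotientGroup.mk' (D.subgroupOf (T ⊔ A)) (Subgroup.inclusion hTY t) := ha
      rw [QuotientGroup.mk'_apply, QuotientGroup.mk'_apply, QuotientGroup.eq,
        Subgroup.mem_subgroupOf] at h0
      exact h0
    have haT : (a : G) ∈ T := by
      have h2 : (a : G) = (t : G) * ((a : G)⁻¹ * t)⁻¹ := by group
      rw [h2]; exact T.mul_mem t.2 (T.inv_mem (hDT h1))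
    have ha1 : a = 1 := Subtype.ext (hATbot a a.2 haT)
    rw [← ha, ha1, map_one]
  have hmul : (g.range : Set (↥(T ⊔ A) ⧸ D.subgroupOf (T ⊔ A))) *
      (f.range : Set (↥(T ⊔ A) ⧸ D.subgroupOf (T ⊔ A))) = Set.univ := by
    rw [Set.eq_univ_iff_forall]
    intro γ
    obtain ⟨y, rfl⟩ := QuotientGroup.mk'_surjective (D.subgroupOf (T ⊔ A)) γ
    obtain ⟨t, ht, a, ha, hya⟩ := mem_sup_of_le_normalizer hAT y.2
    refine Set.mem_mul.mpr ⟨g ⟨t, ht⟩, ⟨_, rfl⟩, f ⟨a, ha⟩, ⟨_, rfl⟩, ?_⟩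
    show QuotientGroup.mk' (D.subgroupOf (T ⊔ A)) (Subgroup.inclusion hTY ⟨t, ht⟩) *
      QuotientGroup.mk' (D.subgroupOf (T ⊔ A)) (Subgroup.inclusion hAY ⟨a, ha⟩) =
      QuotientGroup.mk' (D.subgroupOf (T ⊔ A)) y
    rw [← map_mul]
    congr 1
    exact Subtype.ext hya.symm
  have hc : Subgroup.IsComplement' g.range f.range :=
    Subgroup.isComplement'_of_disjoint_and_mul_eq_univ hdisj hmul
  have hK : g.range ≠ ⊥ := by
    intro h
    have h1 : g ⟨t₀, ht₀⟩ ∈ g.range := ⟨_, rfl⟩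
    rw [h, Subgroup.mem_bot, hg1] at h1
    exact ht₀D h1
  have hC : f.range ≠ ⊥ := by
    intro h
    obtain ⟨a, ha⟩ := (Subgroup.ne_bot_iff_exists_ne_one).mp hA1
    have h1 : f a ∈ f.range := ⟨_, rfl⟩
    rw [h, Subgroup.mem_bot] at h1
    exact ha (hfinj (by rw [h1, map_one]))
  have hfpf' : ∀ h ∈ f.range, h ≠ 1 → g.range ⊓ Subgroup.centralizer {h} = ⊥ := by
    intro h hh h1
    obtain ⟨a, rfl⟩ := hh
    rw [eq_bot_iff]
    intro k hk
    obtain ⟨⟨t, rfl⟩, hcomm0⟩ := hk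
    have hcomm : g t ∈ Subgroup.centralizer {f a} := hcomm0
    rw [Subgroup.mem_centralizer_singleton_iff] at hcomm
    rw [Subgroup.mem_bot, hg1]
    have ha1 : (a : G) ≠ 1 := fun h => h1 (by rw [show a = 1 from Subtype.ext h, map_one])
    apply hfpf a a.2 ha1 t t.2
    have h2 : f a * g t * (f a)⁻¹ * (g t)⁻¹ = 1 := by rw [← hcomm]; group
    have h3 : (QuotientGroup.mk' (D.subgroupOf (T ⊔ A)))
        (Subgroup.inclusion hAY a * Subgroup.inclusion hTY t * (Subgroup.inclusion hAY a)⁻¹ *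
          (Subgroup.inclusion hTY t)⁻¹) = 1 := by
      rw [map_mul, map_mul, map_mul, map_inv, map_inv]; exact h2
    rw [QuotientGroup.mk'_apply, QuotientGroup.eq_one_iff, Subgroup.mem_subgroupOf] at h3
    exact h3
  exact ⟨_, inferInstance, inferInstance, f.range,
    Cfsg.Agent.Lib.helper75.isFrobeniusComplement_of_fpf_complement g.range f.range hc hK hC hfpf',
    ⟨MonoidHom.ofInjective hfinj⟩⟩

/-- **Frobenius complement from an invariant `r`-group.** -/
theorem exists_frobenius_of_pgroup [Finite G] (A R K₀ : Subgroup G) (r : ℕ) [Fact r.Prime]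
    (hR : IsPGroup r R) (hAR : A ≤ Subgroup.normalizer (R : Set G))
    (hcent : ∀ a ∈ A, a ≠ 1 → ∀ t ∈ R, a * t = t * a → t ∈ K₀)
    (hcomm : ∀ a ∈ A, ∀ d ∈ R ⊓ K₀, a * d = d * a)
    (hcop : (Nat.card A).Coprime r) (hRK : ¬ R ≤ K₀) (hA1 : A ≠ ⊥) :
    ∃ (F : Type u) (_ : Group F) (_ : Finite F) (C : Subgroup F),
      Cfsg.IsFrobeniusComplement C ∧ Nonempty (A ≃* C) := by
  classical
  have hnAR := Subgroup.le_normalizer_iff.mp hAR
  have hAD : A ≤ Subgroup.normalizer ((R ⊓ K₀ : Subgroup G) : Set G) := by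
    rw [Subgroup.le_normalizer_iff]
    intro a ha d hd
    have h1 : a * d * a⁻¹ = d := by rw [hcomm a ha d hd]; group
    rw [h1]; exact hd
  have hDT : R ⊓ K₀ ≤ R ⊓ Subgroup.normalizer ((R ⊓ K₀ : Subgroup G) : Set G) :=
    le_inf inf_le_left Subgroup.le_normalizer
  have hne : ¬ R ⊓ Subgroup.normalizer ((R ⊓ K₀ : Subgroup G) : Set G) ≤ R ⊓ K₀ := by
    have : Group.IsNilpotent R := hR.isNilpotent
    have hD1 : (R ⊓ K₀).subgroupOf R ≠ ⊤ := by
      rw [Ne, Subgroup.subgroupOf_eq_top]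
      intro h
      exact hRK (h.trans inf_le_right)
    have hnc := Group.normalizerCondition_of_isNilpotent (G := R) ((R ⊓ K₀).subgroupOf R)
      (lt_top_iff_ne_top.mpr hD1)
    obtain ⟨y, hyN, hyD⟩ := SetLike.exists_of_lt hnc
    rw [← Subgroup.subgroupOf_normalizer_eq inf_le_left, Subgroup.mem_subgroupOf] at hyN
    intro hle
    exact hyD (Subgroup.mem_subgroupOf.mpr (hle ⟨y.2, hyN⟩))
  have hAT : A ≤ Subgroup.normalizer
      ((R ⊓ Subgroup.normalizer ((R ⊓ K₀ : Subgroup G) : Set G) : Subgroup G) : Set G) := by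
    rw [Subgroup.le_normalizer_iff]
    intro a ha t ht
    refine ⟨hnAR a ha t ht.1, ?_⟩
    exact Subgroup.mul_mem _ (Subgroup.mul_mem _ (hAD ha) ht.2) (Subgroup.inv_mem _ (hAD ha))
  refine exists_frobenius_of_section A _ (R ⊓ K₀) hDT inf_le_right hne hAT hAD hA1 ?_
  intro a ha ha1 t ht hd
  have htR : t ∈ R := ht.1
  -- d = a t a⁻¹ t⁻¹ commutes with a
  have hda := hcomm a ha _ hd
  have hpow : ∀ k : ℕ, a ^ k * t * (a ^ k)⁻¹ = (a * t * a⁻¹ * t⁻¹) ^ k * t := by
    intro k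
    induction k with
    | zero => simp
    | succ k ih =>
      have hdk : a * (a * t * a⁻¹ * t⁻¹) ^ k = (a * t * a⁻¹ * t⁻¹) ^ k * a :=
        (Commute.pow_right (show Commute a (a * t * a⁻¹ * t⁻¹) from hda) k).eq
      calc a ^ (k + 1) * t * (a ^ (k + 1))⁻¹ = a * (a ^ k * t * (a ^ k)⁻¹) * a⁻¹ := by
            rw [pow_succ']; group
        _ = a * ((a * t * a⁻¹ * t⁻¹) ^ k * t) * a⁻¹ := by rw [ih]
        _ = (a * (a * t * a⁻¹ * t⁻¹) ^ k) * (t * a⁻¹) := by group
        _ = (a * t * a⁻¹ * t⁻¹) ^ k * a * (t * a⁻¹) := by rw [hdk]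
        _ = (a * t * a⁻¹ * t⁻¹) ^ k * ((a * t * a⁻¹ * t⁻¹) * t) := by group
        _ = (a * t * a⁻¹ * t⁻¹) ^ (k + 1) * t := by rw [pow_succ]; group
  have h1 := hpow (orderOf a)
  rw [pow_orderOf_eq_one, one_mul, inv_one, mul_one] at h1
  have h2 : (a * t * a⁻¹ * t⁻¹) ^ orderOf a = 1 := by
    have : (a * t * a⁻¹ * t⁻¹) ^ orderOf a * t = 1 * t := by rw [← h1, one_mul]
    exact mul_right_cancel this
  have h3 : orderOf (a * t * a⁻¹ * t⁻¹) ∣ orderOf a := orderOf_dvd_of_pow_eq_one h2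
  obtain ⟨j, hj⟩ := hR ⟨_, hd.1⟩
  have h4 : (a * t * a⁻¹ * t⁻¹) ^ r ^ j = 1 := by
    have := congrArg Subtype.val hj
    simpa using this
  have h5 : orderOf (a * t * a⁻¹ * t⁻¹) ∣ r ^ j := orderOf_dvd_of_pow_eq_one h4
  have h6 : (orderOf a).Coprime (r ^ j) :=
    Nat.Coprime.pow_right j (Nat.Coprime.coprime_dvd_left (Subgroup.orderOf_dvd_natCard A ha) hcop)
  have h7 : orderOf (a * t * a⁻¹ * t⁻¹) = 1 := Nat.eq_one_of_dvd_coprimes h6 h3 h5
  rw [orderOf_eq_one_iff] at h7
  have h8 : a * t = t * a := by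
    have : a * t = (a * t * a⁻¹ * t⁻¹) * (t * a) := by group
    rw [this, h7, one_mul]
  exact ⟨htR, hcent a ha ha1 t htR h8⟩

/-! ### TI subgroups that are Hall subgroups of their normalizer -/

/-- TI: an element conjugating a non-identity element of `H` into `H` normalizes `H`. -/
theorem ti_mem_normalizer {H : Subgroup G} (hTI : Cfsg.IsTISubset (H : Set G)) {g x : G}
    (hx : x ∈ H) (hx1 : x ≠ 1) (hg : g * x * g⁻¹ ∈ H) : g ∈ Subgroup.normalizer (H : Set G) := by
  by_contra h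
  exact hx1 (hTI g h x hx hg)

/-- TI: the centralizer of a non-identity element of `H` normalizes `H`. -/
theorem ti_centralizer_le {H : Subgroup G} (hTI : Cfsg.IsTISubset (H : Set G)) {x : G}
    (hx : x ∈ H) (hx1 : x ≠ 1) :
    Subgroup.centralizer ({x} : Set G) ≤ Subgroup.normalizer (H : Set G) := by
  intro g hg
  rw [Subgroup.mem_centralizer_singleton_iff] at hg
  apply ti_mem_normalizer hTI hx hx1
  have : g * x * g⁻¹ = x := by rw [hg]; group
  rw [this]; exact hx

/-- TI: the normalizer of a non-trivial subgroup of `H` normalizes `H`. -/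
theorem ti_normalizer_le {H P : Subgroup G} (hTI : Cfsg.IsTISubset (H : Set G)) (hP : P ≤ H)
    (hP1 : P ≠ ⊥) : Subgroup.normalizer (P : Set G) ≤ Subgroup.normalizer (H : Set G) := by
  intro g hg
  obtain ⟨x, hx1⟩ := (Subgroup.ne_bot_iff_exists_ne_one).mp hP1
  have h1 : g * (x : G) * g⁻¹ ∈ P := (Subgroup.mem_normalizer_iff.mp hg x).mp x.2
  exact ti_mem_normalizer hTI (hP x.2) (fun h => hx1 (Subtype.ext h)) (hP h1)

/-- `|O| * |M : O| = |M|` for `O ≤ M`. -/
theorem card_mul_relIndex' [Finite G] {O M : Subgroup G} (h : O ≤ M) :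
    Nat.card O * O.relIndex M = Nat.card M := by
  have := Subgroup.relIndex_mul_relIndex (⊥ : Subgroup G) O M bot_le h
  rwa [Subgroup.relIndex_bot_left, Subgroup.relIndex_bot_left] at this

/-- For a normal subgroup `M`, `|M : M ∩ H|` divides `|G : H|`. -/
theorem relIndex_dvd_index_of_normal_right [Finite G] (H M : Subgroup G) [M.Normal] :
    H.relIndex M ∣ H.index := by
  have e1 : Nat.card M * M.relIndex (H ⊔ M) = Nat.card ↥(H ⊔ M) := card_mul_relIndex' le_sup_right
  have e2 : M.relIndex (H ⊔ M) = M.relIndex H := Subgroup.relIndex_sup_right H M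
  have e3 : Nat.card ↥(H ⊓ M) * (H ⊓ M).relIndex H = Nat.card H := card_mul_relIndex' inf_le_left
  have e4 : (H ⊓ M).relIndex H = M.relIndex H := Subgroup.inf_relIndex_left H M
  have e5 : Nat.card H * H.relIndex (H ⊔ M) = Nat.card ↥(H ⊔ M) := card_mul_relIndex' le_sup_left
  have e6 : Nat.card ↥(H ⊓ M) * (H ⊓ M).relIndex M = Nat.card M := card_mul_relIndex' inf_le_right
  have e7 : (H ⊓ M).relIndex M = H.relIndex M := Subgroup.inf_relIndex_right H M
  have ha : 0 < Nat.card ↥(H ⊓ M) := Nat.card_pos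
  have hh : 0 < Nat.card H := Nat.card_pos
  rw [e2] at e1
  rw [e4] at e3
  rw [e7] at e6
  have key : H.relIndex M = H.relIndex (H ⊔ M) := by
    have h1 : Nat.card ↥(H ⊓ M) * M.relIndex H * H.relIndex M =
        Nat.card ↥(H ⊓ M) * M.relIndex H * H.relIndex (H ⊔ M) := by
      calc Nat.card ↥(H ⊓ M) * M.relIndex H * H.relIndex M
          = (Nat.card ↥(H ⊓ M) * H.relIndex M) * M.relIndex H := by ring
        _ = Nat.card ↥(H ⊔ M) := by rw [e6, e1]
        _ = Nat.card ↥(H ⊓ M) * M.relIndex H * H.relIndex (H ⊔ M) := by rw [e3, e5]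
    have h2 : 0 < Nat.card ↥(H ⊓ M) * M.relIndex H := by rw [e3]; exact hh
    exact Nat.eq_of_mul_eq_mul_left h2 h1
  rw [key]
  exact Subgroup.relIndex_dvd_index_of_le le_sup_left

/-- A TI subgroup whose order is coprime to its index in its normalizer is a Hall subgroup. -/
theorem ti_hall [Finite G] {H : Subgroup G} (hTI : Cfsg.IsTISubset (H : Set G))
    (hHall : (Nat.card H).Coprime (H.subgroupOf (Subgroup.normalizer (H : Set G))).index) :
    (Nat.card H).Coprime H.index := by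
  by_contra hcon
  obtain ⟨q, hq, hqH, hqI⟩ := Nat.Prime.not_coprime_iff_dvd.mp hcon
  have : Fact q.Prime := ⟨hq⟩
  obtain ⟨S₀⟩ : Nonempty (Sylow q H) := inferInstance
  have hSH : (S₀ : Subgroup H).map H.subtype ≤ H := Subgroup.map_subtype_le _
  have hcardS : Nat.card ((S₀ : Subgroup H).map H.subtype) =
      q ^ (Nat.card H).factorization q := by
    rw [Subgroup.card_map_of_injective H.subtype_injective, Sylow.card_eq_multiplicity]
  have hn : 0 < (Nat.card H).factorization q :=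
    hq.factorization_pos_of_dvd Nat.card_pos.ne' hqH
  have hS1 : (S₀ : Subgroup H).map H.subtype ≠ ⊥ := by
    intro h
    rw [h, Subgroup.card_bot] at hcardS
    have := Nat.one_lt_pow hn.ne' hq.one_lt
    omega
  have hdvd : q ^ ((Nat.card H).factorization q + 1) ∣ Nat.card G := by
    rw [← Subgroup.card_mul_index H, pow_succ]
    exact mul_dvd_mul (Nat.ordProj_dvd _ _) hqI
  have h1 : q ∣ ((S₀ : Subgroup H).map H.subtype).relIndex
      (Subgroup.normalizer (((S₀ : Subgroup H).map H.subtype : Subgroup G) : Set G)) :=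
    Sylow.prime_dvd_card_quotient_normalizer hdvd hcardS
  have hNL := ti_normalizer_le hTI hSH hS1
  have h2 : ((S₀ : Subgroup H).map H.subtype).relIndex
      (Subgroup.normalizer (((S₀ : Subgroup H).map H.subtype : Subgroup G) : Set G)) ∣
      ((S₀ : Subgroup H).map H.subtype).relIndex (Subgroup.normalizer (H : Set G)) :=
    Dvd.intro _ (Subgroup.relIndex_mul_relIndex _ _ _ Subgroup.le_normalizer hNL)
  have h3 : ((S₀ : Subgroup H).map H.subtype).relIndex H *
      H.relIndex (Subgroup.normalizer (H : Set G)) =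
      ((S₀ : Subgroup H).map H.subtype).relIndex (Subgroup.normalizer (H : Set G)) :=
    Subgroup.relIndex_mul_relIndex _ _ _ hSH Subgroup.le_normalizer
  have h4 : ((S₀ : Subgroup H).map H.subtype).relIndex H = (S₀ : Subgroup H).index := by
    rw [Subgroup.relIndex, Subgroup.subgroupOf,
      Subgroup.comap_map_eq_self_of_injective H.subtype_injective]
  have h5 : ¬ q ∣ (S₀ : Subgroup H).index := S₀.not_dvd_index
  have h6 : ¬ q ∣ H.relIndex (Subgroup.normalizer (H : Set G)) := by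
    intro h
    exact hq.one_lt.ne' (Nat.eq_one_of_dvd_coprimes hHall hqH h)
  rw [← h3, h4] at h2
  rcases (hq.dvd_mul).mp (h1.trans h2) with h | h
  · exact h5 h
  · exact h6 h

/-- From a `π`-separable chain (with `π` the primes dividing `m`): a normal `π'`-subgroup `O` and
a normal subgroup `M > O` with `M / O` a `π`-group. -/
theorem exists_step_of_chain [Finite G] (m : ℕ) (hm : ¬ (Nat.card G).Coprime m)
    (hsep : ∃ (n : ℕ) (M : Fin (n + 1) → Subgroup G), M 0 = ⊥ ∧ M (Fin.last n) = ⊤ ∧ Monotone M ∧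
      (∀ i, (M i).Normal) ∧ ∀ i : Fin n,
        (∀ q : ℕ, q.Prime → q ∣ (M i.castSucc).relIndex (M i.succ) → q ∣ m) ∨
        ((M i.castSucc).relIndex (M i.succ)).Coprime m) :
    ∃ O M : Subgroup G, O.Normal ∧ M.Normal ∧ O ≤ M ∧ (Nat.card O).Coprime m ∧
      (∀ q : ℕ, q.Prime → q ∣ O.relIndex M → q ∣ m) ∧ O.relIndex M ≠ 1 := by
  obtain ⟨n, M, h0, hlast, hmono, hnorm, hstep⟩ := hsep
  have key : ∀ i : Fin (n + 1), (Nat.card (M i)).Coprime m ∨
      ∃ O M : Subgroup G, O.Normal ∧ M.Normal ∧ O ≤ M ∧ (Nat.card O).Coprime m ∧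
        (∀ q : ℕ, q.Prime → q ∣ O.relIndex M → q ∣ m) ∧ O.relIndex M ≠ 1 := by
    intro i
    induction i using Fin.induction with
    | zero => left; rw [h0, Subgroup.card_bot]; exact Nat.coprime_one_left m
    | succ i ih =>
      rcases ih with ih | ih
      · have hle : M i.castSucc ≤ M i.succ := hmono (Fin.castSucc_lt_succ).le
        have hcard := card_mul_relIndex' hle
        rcases hstep i with h | h
        · by_cases h1 : (M i.castSucc).relIndex (M i.succ) = 1
          · left; rw [← hcard, h1, mul_one]; exact ih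
          · right; exact ⟨M i.castSucc, M i.succ, hnorm _, hnorm _, hle, ih, h, h1⟩
        · left; rw [← hcard]; exact Nat.Coprime.mul_left ih h
      · right; exact ih
  rcases key (Fin.last n) with h | h
  · rw [hlast, Subgroup.card_top] at h
    exact absurd h hm
  · exact h

/-- **`G = O · N_G(H)`** for a TI Hall-in-normalizer subgroup `H`, given normal subgroups `O < M`
with `M / O` a `π(H)`-group. -/
theorem ti_sup_normalizer_eq_top [Finite G] {H : Subgroup G} (hTI : Cfsg.IsTISubset (H : Set G))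
    (hHall : (Nat.card H).Coprime (H.subgroupOf (Subgroup.normalizer (H : Set G))).index)
    (O M : Subgroup G) [O.Normal] [M.Normal]
    (hstep : ∀ q : ℕ, q.Prime → q ∣ O.relIndex M → q ∣ Nat.card H) (hne : O.relIndex M ≠ 1) :
    O ⊔ Subgroup.normalizer (H : Set G) = ⊤ := by
  have hHallG := ti_hall hTI hHall
  have hHL : H ≤ Subgroup.normalizer (H : Set G) := Subgroup.le_normalizer
  -- (a) M ≤ O ⊔ (M ⊓ H)
  have ha : M ≤ O ⊔ (M ⊓ H) := by
    rw [← Subgroup.relIndex_eq_one]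
    by_contra h1
    obtain ⟨q, hq, hqd⟩ := Nat.exists_prime_and_dvd h1
    have h2 : q ∣ O.relIndex M := hqd.trans (Subgroup.relIndex_dvd_of_le_left M le_sup_left)
    have h3 : q ∣ Nat.card H := hstep q hq h2
    have h4 : q ∣ (M ⊓ H).relIndex M := hqd.trans (Subgroup.relIndex_dvd_of_le_left M le_sup_right)
    rw [Subgroup.inf_relIndex_left] at h4
    have h5 : q ∣ H.index := h4.trans (relIndex_dvd_index_of_normal_right H M)
    exact hq.one_lt.ne' (Nat.eq_one_of_dvd_coprimes hHallG h3 h5)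
  -- (b) Frattini
  obtain ⟨p, hp, hpd⟩ := Nat.exists_prime_and_dvd hne
  have : Fact p.Prime := ⟨hp⟩
  have hpH : p ∣ Nat.card H := hstep p hp hpd
  have hpM : p ∣ Nat.card M := hpd.trans (Subgroup.relIndex_dvd_card O M)
  obtain ⟨P₀⟩ : Nonempty (Sylow p M) := inferInstance
  have hfr : Subgroup.normalizer ((((P₀ : Subgroup M).map M.subtype : Subgroup G)) : Set G) ⊔ M = ⊤ :=
    Sylow.normalizer_sup_eq_top P₀
  have hP1 : (P₀ : Subgroup M).map M.subtype ≠ ⊥ := by
    intro h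
    have h1 : (P₀ : Subgroup M) = ⊥ := by
      rw [eq_bot_iff]
      intro x hx
      have : M.subtype x ∈ (P₀ : Subgroup M).map M.subtype := Subgroup.mem_map_of_mem _ hx
      rw [h, Subgroup.mem_bot] at this
      exact Subtype.ext this
    exact P₀.ne_bot_of_dvd_card hpM h1
  have hPp : IsPGroup p ((P₀ : Subgroup M).map M.subtype) := P₀.isPGroup'.map _
  have hpI : ¬ p ∣ Nat.card (G ⧸ H) := by
    intro h
    exact hp.one_lt.ne' (Nat.eq_one_of_dvd_coprimes hHallG hpH h)
  obtain ⟨c, hc⟩ := IsPGroup.nonempty_fixed_point_of_prime_not_dvd_card hPp (G ⧸ H) hpI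
  obtain ⟨g, rfl⟩ := QuotientGroup.mk_surjective c
  have hconj : ∀ x ∈ (P₀ : Subgroup M).map M.subtype, g⁻¹ * x * g ∈ H := by
    intro x hx
    have h1 : (⟨x, hx⟩ : ↥((P₀ : Subgroup M).map M.subtype)) • (g : G ⧸ H) = (g : G ⧸ H) :=
      hc ⟨x, hx⟩
    have h2 : ((x * g : G) : G ⧸ H) = (g : G ⧸ H) := h1
    rw [QuotientGroup.eq] at h2
    have h3 : g⁻¹ * x * g = ((x * g)⁻¹ * g)⁻¹ := by group
    rw [h3]
    exact H.inv_mem h2
  obtain ⟨x₀, hx₀⟩ := (Subgroup.ne_bot_iff_exists_ne_one).mp hP1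
  have hN : ∀ n ∈ Subgroup.normalizer ((((P₀ : Subgroup M).map M.subtype : Subgroup G)) : Set G),
      g⁻¹ * n * g ∈ Subgroup.normalizer (H : Set G) := by
    intro n hn
    have h1 : n * (x₀ : G) * n⁻¹ ∈ (P₀ : Subgroup M).map M.subtype :=
      (Subgroup.mem_normalizer_iff.mp hn x₀).mp x₀.2
    have h2 : g⁻¹ * (x₀ : G) * g ≠ 1 := by
      intro h
      apply hx₀
      apply Subtype.ext
      have : (x₀ : G) = g * (g⁻¹ * (x₀ : G) * g) * g⁻¹ := by group
      rw [this, h]; simp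
    apply ti_mem_normalizer hTI (hconj x₀ x₀.2) h2
    have h3 : g⁻¹ * n * g * (g⁻¹ * (x₀ : G) * g) * (g⁻¹ * n * g)⁻¹ =
        g⁻¹ * (n * (x₀ : G) * n⁻¹) * g := by group
    rw [h3]
    exact hconj _ h1
  have hML : (⊤ : Subgroup G) ≤ Subgroup.normalizer (H : Set G) ⊔ M := by
    have h1 : Subgroup.normalizer ((((P₀ : Subgroup M).map M.subtype : Subgroup G)) : Set G) ⊔ M ≤
        (Subgroup.normalizer (H : Set G) ⊔ M).comap (MulAut.conj g⁻¹).toMonoidHom := by
      apply sup_le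
      · intro n hn
        rw [Subgroup.mem_comap]
        have : (MulAut.conj g⁻¹).toMonoidHom n = g⁻¹ * n * g := by simp
        rw [this]
        exact Subgroup.mem_sup_left (hN n hn)
      · intro n hn
        rw [Subgroup.mem_comap]
        have : (MulAut.conj g⁻¹).toMonoidHom n = g⁻¹ * n * g⁻¹⁻¹ := by simp
        rw [this]
        exact Subgroup.mem_sup_right (Subgroup.Normal.conj_mem inferInstance n hn g⁻¹)
    rw [hfr] at h1
    intro y _
    have h2 : g * y * g⁻¹ ∈ (Subgroup.normalizer (H : Set G) ⊔ M).comap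
        (MulAut.conj g⁻¹).toMonoidHom := h1 (Subgroup.mem_top _)
    rw [Subgroup.mem_comap] at h2
    have h3 : (MulAut.conj g⁻¹).toMonoidHom (g * y * g⁻¹) = y := by simp; group
    rwa [h3] at h2
  rw [eq_top_iff]
  refine hML.trans (sup_le le_sup_right ?_)
  refine ha.trans (sup_le le_sup_left ?_)
  exact (inf_le_right.trans hHL).trans le_sup_right

/-- A solvable subgroup `A ≠ 1` of a non-normal TI subgroup `H`, in a group `G = O · N_G(H)` with
`O` normal of order coprime to `|H|`, is isomorphic to a Frobenius complement. -/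
theorem ti_frobenius_of_solvable [Finite G] {H : Subgroup G} (hTI : Cfsg.IsTISubset (H : Set G))
    (hnn : ¬ H.Normal) (O : Subgroup G) [O.Normal] (hcop : (Nat.card O).Coprime (Nat.card H))
    (hOL : O ⊔ Subgroup.normalizer (H : Set G) = ⊤)
    (A : Subgroup G) (hAH : A ≤ H) (hA1 : A ≠ ⊥) (hsolv : Group.IsSolvable A) :
    ∃ (F : Type u) (_ : Group F) (_ : Finite F) (C : Subgroup F),
      Cfsg.IsFrobeniusComplement C ∧ Nonempty (A ≃* C) := by
  classical
  have hOL' : ¬ O ≤ Subgroup.normalizer (H : Set G) := by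
    intro h
    apply hnn
    rw [← Subgroup.normalizer_eq_top_iff, ← hOL]
    exact (sup_eq_right.mpr h).symm
  have hOH : ∀ x ∈ O, x ∈ H → x = 1 := by
    intro x hxO hxH
    have h1 : O ⊓ H = ⊥ := disjoint_iff.mp (Subgroup.disjoint_of_coprime_natCard hcop)
    have : x ∈ O ⊓ H := ⟨hxO, hxH⟩
    rwa [h1, Subgroup.mem_bot] at this
  -- K₀ = O ⊓ N_G(H) centralizes H
  have hK₀ : ∀ x ∈ H, ∀ k ∈ O ⊓ Subgroup.normalizer (H : Set G), x * k = k * x := by
    intro x hx k hk
    have h1 : k * x * k⁻¹ ∈ H := (Subgroup.mem_normalizer_iff.mp hk.2 x).mp hx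
    have h2 : k * x * k⁻¹ * x⁻¹ ∈ H := H.mul_mem h1 (H.inv_mem hx)
    have h3 : k * x * k⁻¹ * x⁻¹ ∈ O := by
      have h4 : x * k⁻¹ * x⁻¹ ∈ O := Subgroup.Normal.conj_mem inferInstance _ (O.inv_mem hk.1) x
      have h5 : k * x * k⁻¹ * x⁻¹ = k * (x * k⁻¹ * x⁻¹) := by group
      rw [h5]; exact O.mul_mem hk.1 h4
    have h6 := hOH _ h3 h2
    have h7 : x * k = (k * x * k⁻¹ * x⁻¹)⁻¹ * (k * x) := by group
    rw [h7, h6]; simp
  have hrel : (O ⊓ Subgroup.normalizer (H : Set G)).relIndex O ≠ 1 := by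
    rw [Ne, Subgroup.relIndex_eq_one]
    intro h
    exact hOL' (h.trans inf_le_right)
  obtain ⟨r, hr, hrd⟩ := Nat.exists_prime_and_dvd hrel
  have : Fact r.Prime := ⟨hr⟩
  have hAO : A ≤ Subgroup.normalizer (O : Set G) := by
    rw [Subgroup.normalizer_eq_top_iff.mpr inferInstance]; exact le_top
  have hcopAO : (Nat.card A).Coprime (Nat.card O) :=
    (Nat.Coprime.coprime_dvd_right (Subgroup.card_dvd_of_le hAH) hcop).symm
  obtain ⟨R, hAR⟩ := Cfsg.Agent.Lib.helper1.exists_invariant_sylow (p := r) A O hAO hcopAO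
    (Or.inl hsolv)
  have hRO : (R : Subgroup O).map O.subtype ≤ O := Subgroup.map_subtype_le _
  have hRK : ¬ (R : Subgroup O).map O.subtype ≤ O ⊓ Subgroup.normalizer (H : Set G) := by
    intro h
    have h1 : (O ⊓ Subgroup.normalizer (H : Set G)).relIndex O ∣
        ((R : Subgroup O).map O.subtype).relIndex O := Subgroup.relIndex_dvd_of_le_left O h
    have h2 : ((R : Subgroup O).map O.subtype).relIndex O = (R : Subgroup O).index := by
      rw [Subgroup.relIndex, Subgroup.subgroupOf,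
        Subgroup.comap_map_eq_self_of_injective O.subtype_injective]
    rw [h2] at h1
    exact R.not_dvd_index (hrd.trans h1)
  have hrO : r ∣ Nat.card O := hrd.trans (Subgroup.relIndex_dvd_card _ _)
  refine exists_frobenius_of_pgroup A ((R : Subgroup O).map O.subtype)
    (O ⊓ Subgroup.normalizer (H : Set G)) r (R.isPGroup'.map _) hAR ?_ ?_
    (Nat.Coprime.coprime_dvd_right hrO hcopAO) hRK hA1
  · intro a ha ha1 t ht hat
    refine ⟨hRO ht, ?_⟩
    apply ti_centralizer_le hTI (hAH ha) ha1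
    rw [Subgroup.mem_centralizer_singleton_iff]
    exact hat.symm
  · intro a ha d hd
    exact hK₀ a (hAH ha) d hd.2

/-- In the situation of `ti_frobenius_of_solvable`, the Sylow subgroups of `H` are cyclic, provided
the Sylow `2`-subgroups are abelian. -/
theorem ti_sylow_cyclic [Finite G] {H : Subgroup G} (hTI : Cfsg.IsTISubset (H : Set G))
    (hnn : ¬ H.Normal) (O : Subgroup G) [O.Normal] (hcop : (Nat.card O).Coprime (Nat.card H))
    (hOL : O ⊔ Subgroup.normalizer (H : Set G) = ⊤)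
    (p : ℕ) [Fact p.Prime] (P : Sylow p H)
    (habel : p = 2 → ∀ a ∈ (P : Subgroup H), ∀ b ∈ (P : Subgroup H), a * b = b * a) :
    IsCyclic (P : Subgroup H) := by
  classical
  by_cases hP1 : (P : Subgroup H) = ⊥
  · rw [hP1]
    infer_instance
  have hA1 : (P : Subgroup H).map H.subtype ≠ ⊥ := by
    intro h
    apply hP1
    rw [eq_bot_iff]
    intro x hx
    have : H.subtype x ∈ (P : Subgroup H).map H.subtype := Subgroup.mem_map_of_mem _ hx
    rw [h, Subgroup.mem_bot] at this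
    exact Subtype.ext this
  have hAp : IsPGroup p ((P : Subgroup H).map H.subtype) := P.isPGroup'.map _
  have hsolv : Group.IsSolvable ((P : Subgroup H).map H.subtype) := by
    have : Group.IsNilpotent ((P : Subgroup H).map H.subtype) := hAp.isNilpotent
    infer_instance
  obtain ⟨F, _, _, C, hC, ⟨e⟩⟩ := ti_frobenius_of_solvable hTI hnn O hcop hOL
    ((P : Subgroup H).map H.subtype) (Subgroup.map_subtype_le _) hA1 hsolv
  -- the isomorphism P ≃* C
  let e₀ : (P : Subgroup H) ≃* C :=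
    ((P : Subgroup H).equivMapOfInjective H.subtype H.subtype_injective).trans e
  have hCp : IsPGroup p C := by
    intro c
    obtain ⟨k, hk⟩ := P.isPGroup' (e₀.symm c)
    refine ⟨k, ?_⟩
    have := congrArg e₀ hk
    simpa using this
  have hCtop : IsPGroup p (⊤ : Subgroup C) := by
    intro c
    obtain ⟨k, hk⟩ := hCp (c : C)
    exact ⟨k, Subtype.ext (by simpa using hk)⟩
  obtain ⟨S', hS'⟩ := hCtop.exists_le_sylow
  have hS'top : (S' : Subgroup C) = ⊤ := top_le_iff.mp hS'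
  let e₁ : (P : Subgroup H) ≃* (S' : Subgroup C) :=
    e₀.trans ((Subgroup.topEquiv (G := C)).symm.trans (MulEquiv.subgroupCongr hS'top.symm))
  rcases Cfsg.Agent.Lib.helper75.frob_sylow_cyclic_or_quat C hC p S' with h | ⟨hp2, n, ⟨eq⟩⟩
  · exact isCyclic_of_surjective e₁.symm e₁.symm.surjective
  · -- quaternion case: P abelian forces n = 0
    let e₂ : (P : Subgroup H) ≃* QuaternionGroup (2 ^ n) := e₁.trans eq
    have hcomm : ∀ x y : QuaternionGroup (2 ^ n), x * y = y * x := by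
      intro x y
      have h1 := habel hp2 (e₂.symm x) (e₂.symm x).2 (e₂.symm y) (e₂.symm y).2
      have h2 : e₂.symm x * e₂.symm y = e₂.symm y * e₂.symm x := Subtype.ext h1
      have h3 := congrArg e₂ h2
      simpa using h3
    have hn : n = 0 := by
      by_contra hn0
      have h1 := hcomm (QuaternionGroup.a 1) (QuaternionGroup.xa 0)
      rw [QuaternionGroup.a_mul_xa, QuaternionGroup.xa_mul_a] at h1
      have h2 : ((0 : ZMod (2 * 2 ^ n)) - 1) = 0 + 1 := by
        injection h1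
      have h3 : ((2 : ℕ) : ZMod (2 * 2 ^ n)) = 0 := by
        have : (2 : ZMod (2 * 2 ^ n)) = (0 + 1) - (0 - 1) := by ring
        rw [← h2] at this
        push_cast
        rw [this]; ring
      rw [ZMod.natCast_eq_zero_iff] at h3
      have h4 : 2 * 2 ^ n ≤ 2 := Nat.le_of_dvd (by norm_num) h3
      have h5 : 2 ≤ 2 ^ n := by
        calc 2 = 2 ^ 1 := by norm_num
          _ ≤ 2 ^ n := Nat.pow_le_pow_right (by norm_num) (Nat.one_le_iff_ne_zero.mpr hn0)
      omega
    subst hn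
    have : IsCyclic (QuaternionGroup (2 ^ 0)) := by
      rw [pow_zero]; exact QuaternionGroup.quaternionGroup_one_isCyclic
    exact isCyclic_of_surjective e₂.symm e₂.symm.surjective

end Cfsg.Agent.Lib.helper72
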