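/-
helper72: S0996 piece E4a (`fs_bound`): the Frobenius–Schur count of involutions,
`1 + #involutions ≤ ∑ degrees` (from `helper78.fs_count`, `irr_fs_indicator`, `card_sq_eq_one`).
-/
import Mathlib
import Cfsg.Prelude.Def_Characters
import Cfsg.Prelude.Def_Blocks
import Cfsg.Agent.Lib.helper84.BrDefs
import Cfsg.Agent.Lib.helper78.FrobSchur2

set_option autoImplicit false

namespace Cfsg.Agent.Lib.helper72.Br

open Cfsg Cfsg.Agent.Lib.helper81 Cfsg.Agent.Lib.helper84.Br
open scoped ComplexConjugate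

universe u

variable {G : Type u} [Group G] [Fintype G] {p : ℕ} [Fact p.Prime] {P : Sylow p G} {e n : ℕ}

/-- E4a (FS) : Frobenius–Schur count of involutions. -/
theorem fs_bound [Fintype (IrrCharacter G)] :
    1 + Nat.card {g : G // orderOf g = 2} ≤ ∑ ψ : IrrCharacter G, charDegree (ψ : G → ℂ) := by
  classical
  have h1 := Cfsg.Agent.Lib.helper78.fs_count (G := G)
  rw [Cfsg.Agent.Lib.helper78.card_sq_eq_one] at h1
  choose ν hν using fun χ : IrrCharacter G => Cfsg.Agent.Lib.helper78.irr_fs_indicator χ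
  have h2 : ((1 + Nat.card {g : G // orderOf g = 2} : ℕ) : ℂ) =
      ((∑ χ : IrrCharacter G, ν χ * (charDegree (χ : G → ℂ) : ℤ) : ℤ) : ℂ) := by
    rw [h1]
    push_cast
    refine Finset.sum_congr rfl fun χ _ => ?_
    rw [(hν χ).2.1, Cfsg.Agent.Lib.helper83.irr_one_eq_charDegree]
  have h3 : ((1 + Nat.card {g : G // orderOf g = 2} : ℕ) : ℤ) =
      ∑ χ : IrrCharacter G, ν χ * (charDegree (χ : G → ℂ) : ℤ) := by
    exact_mod_cast h2
  have h4 : ∑ χ : IrrCharacter G, ν χ * (charDegree (χ : G → ℂ) : ℤ) ≤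
      ∑ χ : IrrCharacter G, (charDegree (χ : G → ℂ) : ℤ) := by
    apply Finset.sum_le_sum
    intro χ _
    have hd : (0 : ℤ) ≤ (charDegree (χ : G → ℂ) : ℤ) := Int.natCast_nonneg _
    rcases (hν χ).1 with h | h | h <;> rw [h] <;> nlinarith
  have h5 : ((1 + Nat.card {g : G // orderOf g = 2} : ℕ) : ℤ) ≤
      ((∑ χ : IrrCharacter G, charDegree (χ : G → ℂ) : ℕ) : ℤ) := by
    rw [h3]
    push_cast
    exact h4
  exact_mod_cast h5

end Cfsg.Agent.Lib.helper72.Br
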