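/-
helper72: S0996 pieces C8 (`sum_deg_sq`), C8' (`dvd_D`), C10 (`sq_split`), C11 (`deg_split_le`):
the sum of the squares of the degrees is `|G| = e p (1 + n p)`; characters outside the principal
block have degree divisible by `p`; the split forms of the degree sums.
-/
import Mathlib
import Cfsg.Prelude.Def_Characters
import Cfsg.Prelude.Def_Blocks
import Cfsg.Agent.Lib.helper84.BrDefs
import Cfsg.Agent.Lib.helper83.CharBasic2
import Cfsg.Agent.Lib.helper81.CharTools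

set_option autoImplicit false

namespace Cfsg.Agent.Lib.helper72.Br

open Cfsg Cfsg.Agent.Lib.helper81 Cfsg.Agent.Lib.helper84.Br
open scoped ComplexConjugate

universe u

variable {G : Type u} [Group G] [Fintype G] {p : ℕ} [Fact p.Prime] {P : Sylow p G} {e n : ℕ}

/-- a non-identity element of `P` -/
theorem h72_exists_ne_one (hctx : Ctx G p P e n) : ∃ x : G, x ∈ (P : Subgroup G) ∧ x ≠ 1 := by
  have hp : p.Prime := Fact.out
  have h1 : 1 < Nat.card P := by rw [hctx.hP]; exact hp.one_lt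
  have : Nontrivial P := (Finite.one_lt_card_iff_nontrivial).mp h1
  obtain ⟨x, hx⟩ := exists_ne (1 : P)
  exact ⟨x.1, x.2, fun h => hx (Subtype.ext h)⟩

omit [Fintype G] in
theorem h72_charDegree_triv : charDegree (trivChar G : G → ℂ) = 1 := by
  simp [charDegree, trivChar_apply]

/-- C8 (DEG-SUM) : the sum of the squares of the degrees. -/
theorem sum_deg_sq (hctx : Ctx G p P e n) [Fintype (IrrCharacter G)] :
    ∑ ψ : IrrCharacter G, (charDegree (ψ : G → ℂ)) ^ 2 = e * p * (1 + n * p) := by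
  have h1 := Cfsg.Agent.Lib.helper83.sum_charDegree_sq (G := G)
  rw [finsum_eq_sum_of_fintype] at h1
  have h2 : Nat.card (Sylow p G) =
      (Subgroup.normalizer ((P : Subgroup G) : Set G)).index := Sylow.card_eq_index_normalizer P
  rw [h1, ← Subgroup.card_mul_index (Subgroup.normalizer ((P : Subgroup G) : Set G)), hctx.he,
    ← h2, hctx.hn]

/-- C8' (DVD-D). -/
theorem dvd_D (hctx : Ctx G p P e n) (D : Data G p P e) (d : IrrCharacter G) (hdX : d ∉ D.X)
    (hdY : d ∉ D.Y) : p ∣ charDegree (d : G → ℂ) := by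
  classical
  have : Fintype (P : Subgroup G) := Fintype.ofFinite _
  obtain ⟨m, hm⟩ := sum_subgroup_char
    (Cfsg.Agent.Lib.helper83.isCharacter_of_irr d.2) (P : Subgroup G)
  have h1 : ∑ u : (P : Subgroup G), (d : G → ℂ) (u : G) = (d : G → ℂ) 1 := by
    rw [Finset.sum_eq_single (1 : (P : Subgroup G))]
    · rfl
    · intro u _ hu
      exact D.vanish d hdX hdY u.1 u.2 (fun h => hu (Subtype.ext h))
    · intro h
      exact absurd (Finset.mem_univ _) h
  have hP : Nat.card (P : Subgroup G) = p := hctx.hP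
  rw [h1, Cfsg.Agent.Lib.helper83.irr_one_eq_charDegree, hP] at hm
  refine ⟨m, ?_⟩
  exact_mod_cast hm

/-- C10 (SPLIT-SQ) : the sum of squares of degrees, split. -/
theorem sq_split (hctx : Ctx G p P e n) (D : Data G p P e) [Fintype (IrrCharacter G)] (y : ℕ)
    (hA : ∀ χ ∈ D.A, charDegree (χ : G → ℂ) = 1 + n * p)
    (hB : ∀ χ ∈ D.B, charDegree (χ : G → ℂ) = p - 1)
    (hYd : ∀ θ ∈ D.Y, charDegree (θ : G → ℂ) = y)
    (hD : ∀ d ∈ D.Dset, p ∣ charDegree (d : G → ℂ)) :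
    1 + D.A.card * (1 + n * p) ^ 2 + D.B.card * (p - 1) ^ 2 + D.Y.card * y ^ 2 +
      p ^ 2 * ∑ d ∈ D.Dset, (charDegree (d : G → ℂ) / p) ^ 2 = e * p * (1 + n * p) := by
  obtain ⟨x, hx, hx1⟩ := h72_exists_ne_one hctx
  have hδ1 := D.δ_triv x hx hx1
  rw [← sum_deg_sq hctx, D.sum_split hδ1 (fun ψ => (charDegree (ψ : G → ℂ)) ^ 2)]
  have e1 : ∑ χ ∈ D.A, (charDegree (χ : G → ℂ)) ^ 2 = D.A.card * (1 + n * p) ^ 2 := by
    rw [Finset.sum_congr rfl (fun χ hχ => by rw [hA χ hχ]), Finset.sum_const, smul_eq_mul]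
  have e2 : ∑ χ ∈ D.B, (charDegree (χ : G → ℂ)) ^ 2 = D.B.card * (p - 1) ^ 2 := by
    rw [Finset.sum_congr rfl (fun χ hχ => by rw [hB χ hχ]), Finset.sum_const, smul_eq_mul]
  have e3 : ∑ θ ∈ D.Y, (charDegree (θ : G → ℂ)) ^ 2 = D.Y.card * y ^ 2 := by
    rw [Finset.sum_congr rfl (fun θ hθ => by rw [hYd θ hθ]), Finset.sum_const, smul_eq_mul]
  have e4 : ∑ d ∈ D.Dset, (charDegree (d : G → ℂ)) ^ 2 =
      p ^ 2 * ∑ d ∈ D.Dset, (charDegree (d : G → ℂ) / p) ^ 2 := by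
    rw [Finset.mul_sum]
    refine Finset.sum_congr rfl fun d hd => ?_
    obtain ⟨k, hk⟩ := hD d hd
    have hp : 0 < p := (Fact.out : p.Prime).pos
    rw [hk, Nat.mul_div_cancel_left _ hp]
    ring
  rw [e1, e2, e3, e4, h72_charDegree_triv, one_pow]

/-- C11 (SPLIT-DEG) : the sum of the degrees, split and bounded. -/
theorem deg_split_le (hctx : Ctx G p P e n) (D : Data G p P e) [Fintype (IrrCharacter G)]
    (y : ℕ)
    (hA : ∀ χ ∈ D.A, charDegree (χ : G → ℂ) = 1 + n * p)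
    (hB : ∀ χ ∈ D.B, charDegree (χ : G → ℂ) = p - 1)
    (hYd : ∀ θ ∈ D.Y, charDegree (θ : G → ℂ) = y)
    (hD : ∀ d ∈ D.Dset, p ∣ charDegree (d : G → ℂ))
    (hR : ∑ d ∈ D.Dset, (charDegree (d : G → ℂ) / p) ^ 2 = n) :
    ∑ ψ : IrrCharacter G, charDegree (ψ : G → ℂ) ≤
      1 + D.A.card * (1 + n * p) + D.B.card * (p - 1) + D.Y.card * y + p * n := by
  obtain ⟨x, hx, hx1⟩ := h72_exists_ne_one hctx
  have hδ1 := D.δ_triv x hx hx1
  rw [D.sum_split hδ1 (fun ψ => charDegree (ψ : G → ℂ))]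
  have e1 : ∑ χ ∈ D.A, charDegree (χ : G → ℂ) = D.A.card * (1 + n * p) := by
    rw [Finset.sum_congr rfl (fun χ hχ => hA χ hχ), Finset.sum_const, smul_eq_mul]
  have e2 : ∑ χ ∈ D.B, charDegree (χ : G → ℂ) = D.B.card * (p - 1) := by
    rw [Finset.sum_congr rfl (fun χ hχ => hB χ hχ), Finset.sum_const, smul_eq_mul]
  have e3 : ∑ θ ∈ D.Y, charDegree (θ : G → ℂ) = D.Y.card * y := by
    rw [Finset.sum_congr rfl (fun θ hθ => hYd θ hθ), Finset.sum_const, smul_eq_mul]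
  have e4 : ∑ d ∈ D.Dset, charDegree (d : G → ℂ) ≤ p * n := by
    rw [← hR, Finset.mul_sum]
    refine Finset.sum_le_sum fun d hd => ?_
    obtain ⟨k, hk⟩ := hD d hd
    have hp : 0 < p := (Fact.out : p.Prime).pos
    rw [hk, Nat.mul_div_cancel_left _ hp]
    exact Nat.mul_le_mul_left _ (Nat.le_self_pow two_ne_zero k)
  rw [e1, e2, e3, h72_charDegree_triv]
  omega

end Cfsg.Agent.Lib.helper72.Br
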