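/-
helper72: S4503 piece B4b (`sum_deg_le`): distinct irreducible constituents of a character `Ξ`
have degrees summing to at most `Ξ(1)`.
-/
import Mathlib
import Cfsg.Agent.Lib.helper2.BFDefs
import Cfsg.Agent.Lib.helper4.CharDecomp
import Cfsg.Agent.Lib.helper81.CharOrtho

set_option autoImplicit false

open Cfsg Cfsg.Agent.Lib.helper20.D1E
open scoped ComplexConjugate

namespace Cfsg.Agent.Lib.helper2.BF

variable {G : Type*} [Group G] [Fintype G]

omit [Fintype G] in
theorem h72_charDegree_of_eq_nat {f : G → ℂ} {k : ℕ} (h : f 1 = k) : charDegree f = k := by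
  simp [charDegree, h]

omit [Fintype G] in
theorem h72_list_sum_apply_one (l : List (IrrCharacter G)) :
    (l.map Subtype.val).sum 1 = (((l.map fun a : IrrCharacter G => charDegree (a : G → ℂ)).sum : ℕ) : ℂ) := by
  induction l with
  | nil => simp
  | cons a l ih =>
    rw [List.map_cons, List.sum_cons, Pi.add_apply, ih, List.map_cons, List.sum_cons,
      Nat.cast_add, Cfsg.Agent.Lib.helper81.irr_one_eq_charDegree]

omit [Fintype G] in
theorem h72_sum_le_list_sum (l : List (IrrCharacter G)) :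
    ∀ S : Finset (IrrCharacter G), (∀ ξ ∈ S, ξ ∈ l) →
      ∑ ξ ∈ S, charDegree (ξ : G → ℂ) ≤ (l.map fun a : IrrCharacter G => charDegree (a : G → ℂ)).sum := by
  classical
  induction l with
  | nil =>
    intro S hS
    have : S = ∅ := Finset.eq_empty_of_forall_notMem (fun ξ hξ => by simpa using hS ξ hξ)
    rw [this]; simp
  | cons a l ih =>
    intro S hS
    have h1 : ∀ ξ ∈ S.erase a, ξ ∈ l := by
      intro ξ hξ
      rw [Finset.mem_erase] at hξ
      rcases List.mem_cons.mp (hS ξ hξ.2) with h | h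
      · exact absurd h hξ.1
      · exact h
    have h2 := ih (S.erase a) h1
    rw [List.map_cons, List.sum_cons]
    by_cases ha : a ∈ S
    · rw [← Finset.add_sum_erase S _ ha]
      exact Nat.add_le_add_left h2 _
    · rw [Finset.erase_eq_of_notMem ha] at h2
      exact h2.trans (Nat.le_add_left _ _)

/-- B4b. -/
theorem sum_deg_le (Ξ : G → ℂ) (hΞ : IsCharacter G Ξ) (S : Finset (IrrCharacter G))
    (hS : ∀ ξ ∈ S, classInner Ξ (ξ : G → ℂ) ≠ 0) :
    ∑ ξ ∈ S, charDegree (ξ : G → ℂ) ≤ charDegree Ξ := by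
  classical
  obtain ⟨l, rfl⟩ := Cfsg.Agent.Lib.helper4.exists_irr_list_of_isCharacter hΞ
  have hmem : ∀ ξ ∈ S, ξ ∈ l := by
    intro ξ hξ
    by_contra hnot
    apply hS ξ hξ
    rw [Cfsg.Agent.Lib.helper4.classInner_list_sum_left]
    apply List.sum_eq_zero
    intro c hc
    rw [List.mem_map] at hc
    obtain ⟨f, hf, rfl⟩ := hc
    rw [List.mem_map] at hf
    obtain ⟨a, ha, rfl⟩ := hf
    exact Cfsg.Agent.Lib.helper4.classInner_irr_ne a.2 ξ.2
      (fun h => hnot (by rw [← Subtype.ext h]; exact ha))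
  rw [h72_charDegree_of_eq_nat (h72_list_sum_apply_one l)]
  exact h72_sum_le_list_sum l S hmem

end Cfsg.Agent.Lib.helper2.BF
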