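/-
helper72: S4503 piece B4c (`one_mem_X`): the trivial character lies in `X` with sign `+1`
(it is in the principal block; not in `Y` since `1 ≢ ±e mod p`; and `1 ≢ -1 mod p`).
-/
import Mathlib
import Cfsg.Agent.Lib.helper2.BFDefs
import Cfsg.Agent.Lib.helper81.Blocks

set_option autoImplicit false

open Cfsg Cfsg.Agent.Lib.helper20.D1E
open scoped ComplexConjugate

namespace Cfsg.Agent.Lib.helper2.BF

variable {G : Type*} [Group G] [Fintype G]

/-- B4c. -/
theorem one_mem_X (p : ℕ) [Fact p.Prime] (P : Sylow p G) (H : Subgroup (ZMod p)ˣ)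
    (M : Ideal AlgInt) (hM : IsPModular p M) (X Y : Set (IrrCharacter G))
    (εX : IrrCharacter G → ℤ) (ε : ℤ) (hD : PBData p M P (Nat.card H) X Y εX ε)
    (he2 : 2 ≤ Nat.card H) (het : 3 * Nat.card H ≤ p - 1) :
    ∃ ξ₁ ∈ X, (∀ g : G, (ξ₁ : G → ℂ) g = 1) ∧ εX ξ₁ = 1 := by
  have hprime : M.IsPrime := hM.2.1.isPrime
  have hmem : Cfsg.Agent.Lib.helper81.trivChar G ∈ principalBlock M G :=
    Cfsg.Agent.Lib.helper81.trivChar_mem_principalBlock hprime
  rw [hD.union] at hmem
  have hdeg1 : charDegree (Cfsg.Agent.Lib.helper81.trivChar G : G → ℂ) = 1 := by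
    simp [charDegree, Cfsg.Agent.Lib.helper81.trivChar_apply]
  rcases hmem with hX | hY
  · refine ⟨Cfsg.Agent.Lib.helper81.trivChar G, hX,
      fun g => Cfsg.Agent.Lib.helper81.trivChar_apply g, ?_⟩
    have h1 := hD.degX _ hX
    rw [hdeg1] at h1
    rcases hD.signX _ hX with h | h
    · exact h
    · exfalso
      rw [h] at h1
      have h2 : (p : ℤ) ∣ -1 - ((1 : ℕ) : ℤ) := Int.modEq_iff_dvd.mp h1
      have h3 : (p : ℤ) ∣ 2 := by
        have h4 : (-1 - ((1 : ℕ) : ℤ)) = -2 := by norm_num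
        rw [h4] at h2
        exact (dvd_neg.mp h2)
      have h5 := Int.le_of_dvd (by norm_num) h3
      omega
  · exfalso
    have h1 := hD.degY _ hY
    rw [hdeg1] at h1
    have h2 : (p : ℤ) ∣ ε * (Nat.card H : ℤ) - ((1 : ℕ) : ℤ) := Int.modEq_iff_dvd.mp h1
    rcases hD.signY with h | h
    · rw [h, one_mul] at h2
      have h5 := Int.le_of_dvd (by push_cast; omega) h2
      push_cast at h5
      omega
    · rw [h] at h2
      have h3 : (p : ℤ) ∣ (Nat.card H : ℤ) + 1 := by
        have h4 : -1 * (Nat.card H : ℤ) - ((1 : ℕ) : ℤ) = -((Nat.card H : ℤ) + 1) := by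
          push_cast; ring
        rw [h4] at h2
        exact (dvd_neg.mp h2)
      have h5 := Int.le_of_dvd (by omega) h3
      omega

end Cfsg.Agent.Lib.helper2.BF
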