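/-
helper72: S4503 piece B4d (`X_degree_lb`): a non-trivial member `ξ` of `X` has degree at least
`p + 1` (sign `+1`) or `p - 1` (sign `-1`), when `G` is the normal closure of `x`.
-/
import Mathlib
import Cfsg.Agent.Lib.helper2.BFDefs
import Cfsg.Agent.Lib.helper81.CharOrtho
import Cfsg.Agent.Lib.helper82.CharQuot

set_option autoImplicit false

open Cfsg Cfsg.Agent.Lib.helper20.D1E
open scoped ComplexConjugate

namespace Cfsg.Agent.Lib.helper2.BF

variable {G : Type*} [Group G] [Fintype G]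

/-- B4d. -/
theorem X_degree_lb (p : ℕ) [Fact p.Prime] (P : Sylow p G) (hP : Nat.card P = p)
    (x : G) (hx : x ∈ (P : Subgroup G)) (hx1 : x ≠ 1) (H : Subgroup (ZMod p)ˣ)
    (M : Ideal AlgInt) (X Y : Set (IrrCharacter G))
    (εX : IrrCharacter G → ℤ) (ε : ℤ) (hD : PBData p M P (Nat.card H) X Y εX ε)
    (hodd : p ≠ 2) (hgen : Subgroup.normalClosure ({x} : Set G) = ⊤)
    (ξ : IrrCharacter G) (hξ : ξ ∈ X) (hnt : ∃ g : G, (ξ : G → ℂ) g ≠ 1) :
    (εX ξ = 1 → p + 1 ≤ charDegree (ξ : G → ℂ)) ∧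
      (εX ξ = -1 → p - 1 ≤ charDegree (ξ : G → ℂ)) := by
  have hp : p.Prime := Fact.out
  have hdpos := Cfsg.Agent.Lib.helper81.irr_charDegree_pos ξ
  have hmod := hD.degX ξ hξ
  constructor
  · intro hε
    rw [hε] at hmod
    have hdvd : (p : ℤ) ∣ 1 - (charDegree (ξ : G → ℂ) : ℤ) := Int.modEq_iff_dvd.mp hmod
    by_contra hlt
    push Not at hlt
    have h2 : (p : ℤ) ∣ (charDegree (ξ : G → ℂ) : ℤ) - 1 := by
      have h3 := dvd_neg.mpr hdvd
      rw [neg_sub] at h3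
      exact h3
    have h3 : (charDegree (ξ : G → ℂ) : ℤ) - 1 = 0 :=
      Int.eq_zero_of_dvd_of_nonneg_of_lt (by omega) (by omega) h2
    have hdeg1 : charDegree (ξ : G → ℂ) = 1 := by omega
    have hξ1 : (ξ : G → ℂ) 1 = 1 := by
      rw [Cfsg.Agent.Lib.helper81.irr_one_eq_charDegree, hdeg1]; simp
    obtain ⟨f, hf⟩ := Cfsg.Agent.Lib.helper82.exists_hom_of_linear
      (Cfsg.Agent.Lib.helper83.isCharacter_of_irr ξ.2) hξ1
    have hreg1 : ¬ p ∣ orderOf (1 : G) := by
      rw [orderOf_one]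
      exact fun h => hp.one_lt.ne' (Nat.dvd_one.mp h)
    have hval := hD.valX ξ hξ x hx hx1 1 (Subgroup.one_mem _) hreg1
    rw [mul_one, hε, hf x] at hval
    have hfx : f x = 1 := by
      apply Units.ext
      rw [hval]; simp
    have hxker : ({x} : Set G) ⊆ f.ker := by
      intro g hg
      rw [Set.mem_singleton_iff.mp hg]
      exact MonoidHom.mem_ker.mpr hfx
    have hle : Subgroup.normalClosure ({x} : Set G) ≤ f.ker :=
      Subgroup.normalClosure_le_normal hxker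
    rw [hgen] at hle
    obtain ⟨g, hg⟩ := hnt
    apply hg
    rw [hf g, MonoidHom.mem_ker.mp (hle (Subgroup.mem_top g))]
    simp
  · intro hε
    rw [hε] at hmod
    have hdvd : (p : ℤ) ∣ -1 - (charDegree (ξ : G → ℂ) : ℤ) := Int.modEq_iff_dvd.mp hmod
    have h2 : (p : ℤ) ∣ (charDegree (ξ : G → ℂ) : ℤ) + 1 := by
      have h3 := dvd_neg.mpr hdvd
      have h4 : -(-1 - (charDegree (ξ : G → ℂ) : ℤ)) = (charDegree (ξ : G → ℂ) : ℤ) + 1 := by ring
      rw [h4] at h3
      exact h3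
    have h5 := Int.le_of_dvd (by omega) h2
    omega

end Cfsg.Agent.Lib.helper2.BF
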