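/-
helper72: S4503 piece C1 (`good_of_norm`): if `|ψ(x)| = ψ(1)` for an element `x` of order `p`
then `ρ(x)` is a scalar and `N = {g | ρ(g) ∈ ⟨ρ(x)⟩}` is a normal subgroup containing `x` whose
`p`-regular elements lie in the kernel of `ψ`.
-/
import Mathlib
import Cfsg.Agent.Lib.helper2.BFDefs
import Cfsg.Agent.Lib.helper4.CharDecomp
import Cfsg.Agent.Lib.helper4.FinOrder

set_option autoImplicit false

open Cfsg Cfsg.Agent.Lib.helper20.D1E
open scoped ComplexConjugate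

namespace Cfsg.Agent.Lib.helper2.BF

variable {G : Type*} [Group G] [Fintype G]

/-- C1. -/
theorem good_of_norm (p : ℕ) [Fact p.Prime] (x : G) (hxo : orderOf x = p) (ψ : G → ℂ)
    (hψ : IsCharacter G ψ) (hsc : ‖ψ x‖ = ‖ψ 1‖) : Good p G ψ := by
  obtain ⟨n, ρ, rfl⟩ := hψ
  have hp : p.Prime := Fact.out
  have hfin : Module.finrank ℂ (Fin n → ℂ) = n := by simp
  have h1 : ρ.character 1 = (n : ℂ) := by rw [Representation.char_one, hfin]
  have hnorm : ‖ρ.character x‖ = (Module.finrank ℂ (Fin n → ℂ) : ℝ) := by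
    rw [hsc, h1, hfin]; simp
  obtain ⟨ω, hω⟩ := (Cfsg.Agent.Lib.helper4.norm_char_eq_iff ρ x).mp hnorm
  have hxp : x ^ p = 1 := by rw [← hxo]; exact pow_orderOf_eq_one x
  have hcomm : ∀ T : Module.End ℂ (Fin n → ℂ), ρ x * T = T * ρ x := by
    intro T
    rw [hω]
    ext v
    simp
  have hcommpow : ∀ (i : ℕ) (T : Module.End ℂ (Fin n → ℂ)), ρ x ^ i * T = T * ρ x ^ i := by
    intro i T
    induction i with
    | zero => simp
    | succ i ih => rw [pow_succ, mul_assoc, hcomm, ← mul_assoc, ih, mul_assoc]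
  have hpowp : ρ x ^ p = 1 := by rw [← map_pow, hxp, map_one]
  let N : Subgroup G :=
    { carrier := {g | ∃ i : ℕ, ρ g = ρ x ^ i}
      one_mem' := ⟨0, by rw [map_one, pow_zero]⟩
      mul_mem' := by
        rintro a b ⟨i, hi⟩ ⟨j, hj⟩
        exact ⟨i + j, by rw [map_mul, hi, hj, pow_add]⟩
      inv_mem' := by
        rintro a ⟨i, hi⟩
        refine ⟨(p - 1) * i, ?_⟩
        have e : i + (p - 1) * i = p * i := by
          have := hp.pos
          obtain ⟨q, rfl⟩ : ∃ q, p = q + 1 := ⟨p - 1, by omega⟩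
          rw [Nat.add_sub_cancel]; ring
        have h2 : ρ x ^ i * ρ x ^ ((p - 1) * i) = 1 := by
          rw [← pow_add, e, pow_mul, hpowp, one_pow]
        calc ρ a⁻¹ = ρ a⁻¹ * (ρ x ^ i * ρ x ^ ((p - 1) * i)) := by rw [h2, mul_one]
          _ = (ρ a⁻¹ * ρ a) * ρ x ^ ((p - 1) * i) := by rw [hi, mul_assoc]
          _ = ρ x ^ ((p - 1) * i) := by rw [← map_mul, inv_mul_cancel, map_one, one_mul] }
  refine ⟨N, ?_, ⟨x, ⟨1, by rw [pow_one]⟩, hxo⟩, ?_⟩
  · constructor
    rintro a ⟨i, hi⟩ g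
    refine ⟨i, ?_⟩
    rw [map_mul, map_mul, hi, ← hcommpow i (ρ g), mul_assoc, ← map_mul, mul_inv_cancel, map_one,
      mul_one]
  · rintro y ⟨i, hi⟩ hy
    have hcop : Nat.Coprime (orderOf y) p :=
      Nat.Coprime.symm ((Nat.Prime.coprime_iff_not_dvd hp).mpr hy)
    have hyp : ρ y ^ p = 1 := by rw [hi, ← pow_mul, mul_comm, pow_mul, hpowp, one_pow]
    have hyo : ρ y ^ orderOf y = 1 := by rw [← map_pow, pow_orderOf_eq_one, map_one]
    have hy1 : ρ y = 1 := by
      have h3 := pow_gcd_eq_one.mpr ⟨hyo, hyp⟩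
      rw [Nat.Coprime.gcd_eq_one hcop, pow_one] at h3
      exact h3
    show ρ.character y = ρ.character 1
    unfold Representation.character
    rw [hy1, map_one ρ]

end Cfsg.Agent.Lib.helper2.BF
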