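import Mathlib

/-!
# S0998 piece AM (`arith_minus_case`): the arithmetic of the case `ε = -1`
-/

set_option autoImplicit false

namespace Cfsg.Agent.Lib.helper72.BT

/-- `3 ∣ 2 ^ k + 1` for odd `k`. -/
theorem h72_three_dvd_two_pow_odd (j : ℕ) : 3 ∣ 2 ^ (2 * j + 1) + 1 := by
  induction j with
  | zero => norm_num
  | succ j ih =>
    have e : 2 ^ (2 * (j + 1) + 1) = 4 * 2 ^ (2 * j + 1) := by ring
    rw [e]
    omega

/-- A prime dividing `x - 1` or `x + 1` ... helper: `p ∣ n` with `0 < n < 2 p` forces `n = p`. -/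
theorem h72_eq_of_dvd_lt {p n : ℕ} (h : p ∣ n) (h0 : 0 < n) (h2 : n < 2 * p) : n = p := by
  obtain ⟨c, hc⟩ := h
  rcases Nat.lt_or_ge c 2 with hlt | hge
  · interval_cases c
    · omega
    · omega
  · have := Nat.mul_le_mul_left p hge
    omega

/-- AM : the case `ε = -1`. -/
theorem arith_minus_case (p q r e b : ℕ) (hp : p.Prime) (hq : q.Prime) (hr : r.Prime)
    (he2 : 2 ≤ e) (hep : e ∣ p - 1) (hre : r + e = p) (heq : e ∣ r * q ^ b) (h1 : q ∣ r + 1)
    {ι : Type*} (S : Finset ι) (d : ι → ℕ) (δ : ι → ℤ) (hS : S.card + 1 = e)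
    (hδ : ∀ i ∈ S, δ i = 1 ∨ δ i = -1)
    (hq' : ∀ i ∈ S, q ∣ d i) (hd : ∀ i ∈ S, d i ∣ r * q ^ b)
    (hmod : ∀ i ∈ S, (d i : ℤ) ≡ δ i [ZMOD p])
    (hsum : ∑ i ∈ S, δ i * (d i : ℤ) = -((r : ℤ) + 1)) : p = 5 ∧ r = 3 ∧ q = 2 := by
  have hr2 := hr.two_le
  have hp2 := hp.two_le
  -- (1) `r ∤ e`
  have hre' : ¬ r ∣ e := by
    intro h
    have h2 : e ∣ (r - 1) + e := by
      have : (r - 1) + e = p - 1 := by omega
      rw [this]
      exact hep
    have h3 : e ∣ r - 1 := (Nat.dvd_add_left (dvd_refl e)).mp h2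
    have h4 : e ≤ r - 1 := Nat.le_of_dvd (by omega) h3
    have h5 : r ≤ e := Nat.le_of_dvd (by omega) h
    omega
  have hcop : Nat.Coprime e r :=
    Nat.Coprime.symm ((Nat.Prime.coprime_iff_not_dvd hr).mpr hre')
  have heq' : e ∣ q ^ b := hcop.dvd_of_dvd_mul_left heq
  obtain ⟨a, hab, rfl⟩ := (Nat.dvd_prime_pow hq).mp heq'
  have ha1 : 1 ≤ a := by
    rcases Nat.eq_zero_or_pos a with h | h
    · subst h
      simp at he2
    · exact h
  have hqe : q ∣ q ^ a := dvd_pow_self q (by omega)
  -- `q = 2`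
  have hq2 : q = 2 := by
    have h2 : q ∣ p - 1 := hqe.trans hep
    have h3 : q ∣ (p - 1) + 2 := by
      have : (p - 1) + 2 = (r + 1) + q ^ a := by omega
      rw [this]
      exact dvd_add h1 hqe
    have h4 : q ∣ 2 := (Nat.dvd_add_right h2).mp h3
    exact (Nat.prime_dvd_prime_iff_eq hq Nat.prime_two).mp h4
  subst hq2
  rcases Nat.lt_or_ge a 2 with ha | ha
  · -- `a = 1`, `e = 2`
    have ha' : a = 1 := by omega
    subst ha'
    rw [pow_one] at hS hre hep
    have hcard : S.card = 1 := by omega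
    obtain ⟨i, rfl⟩ := Finset.card_eq_one.mp hcard
    rw [Finset.sum_singleton] at hsum
    have hi : i ∈ ({i} : Finset ι) := Finset.mem_singleton_self i
    have hdi : d i = r + 1 := by
      rcases hδ i hi with h | h
      · rw [h] at hsum
        omega
      · rw [h] at hsum
        omega
    have hdvd : r + 1 ∣ r * 2 ^ b := by
      rw [← hdi]
      exact hd i hi
    have hcop2 : Nat.Coprime (r + 1) r := by
      rw [Nat.coprime_comm]
      exact (Nat.coprime_self_add_right).mpr (Nat.coprime_one_right r)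
    have hdvd2 : r + 1 ∣ 2 ^ b := hcop2.dvd_of_dvd_mul_left hdvd
    obtain ⟨m, hmb, hm⟩ := (Nat.dvd_prime_pow Nat.prime_two).mp hdvd2
    -- `m` is even
    rcases Nat.even_or_odd' m with ⟨k, hk | hk⟩
    · -- `m = 2 k`
      have hsq : r + 1 = 2 ^ k * 2 ^ k := by
        rw [hm, hk, two_mul, pow_add]
      have ht1 : 1 ≤ 2 ^ k := Nat.one_le_two_pow
      obtain ⟨s, hs⟩ : ∃ s, 2 ^ k = s + 1 := ⟨2 ^ k - 1, by omega⟩
      rw [hs] at hsq
      have hrs : r = s * (s + 2) := by
        have : (s + 1) * (s + 1) = s * (s + 2) + 1 := by ring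
        omega
      have hsr : s ∣ r := by
        rw [hrs]
        exact dvd_mul_right s (s + 2)
      rcases (Nat.dvd_prime hr).mp hsr with h | h
      · subst h
        have hr3 : r = 3 := by omega
        exact ⟨by omega, hr3, rfl⟩
      · exfalso
        rw [h] at hrs
        have h6 : r * 1 = r * (r + 2) := by rw [mul_one]; exact hrs
        have := Nat.eq_of_mul_eq_mul_left (by omega : 0 < r) h6
        omega
    · -- `m` odd: `3 ∣ p`
      exfalso
      have h3 : 3 ∣ 2 ^ m + 1 := by
        rw [hk]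
        exact h72_three_dvd_two_pow_odd k
      have h3p : 3 ∣ p := by
        have : p = 2 ^ m + 1 := by omega
        rw [this]
        exact h3
      have := (Nat.prime_dvd_prime_iff_eq Nat.prime_three hp).mp h3p
      omega
  · -- `a ≥ 2`: contradiction
    exfalso
    obtain ⟨E, hE⟩ : ∃ E, 2 ^ a = 4 * E := by
      refine ⟨2 ^ (a - 2), ?_⟩
      have : a = 2 + (a - 2) := by omega
      conv_lhs => rw [this, pow_add]
      norm_num
    have hE1 : 1 ≤ E := by
      have : 0 < 2 ^ a := Nat.pos_of_ne_zero (by positivity)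
      omega
    obtain ⟨k, hk⟩ := hep
    rw [hE] at hk hre hS
    have hr4 : (r + 1) % 4 = 2 := by
      have hk' : p - 1 = 4 * (E * k) := by rw [hk]; ring
      omega
    -- some `d i ≡ 2 (mod 4)`
    have hex : ∃ i ∈ S, d i % 4 = 2 := by
      by_contra hcon
      push Not at hcon
      have h4 : ∀ i ∈ S, (4 : ℤ) ∣ δ i * (d i : ℤ) := by
        intro i hi
        have h2 : 2 ∣ d i := hq' i hi
        have h5 : 4 ∣ d i := by
          have := hcon i hi
          omega
        exact Dvd.dvd.mul_left (by exact_mod_cast h5) (δ i)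
      have h6 := Finset.dvd_sum h4
      rw [hsum] at h6
      omega
    obtain ⟨i, hi, hi4⟩ := hex
    obtain ⟨n, hn⟩ : ∃ n, d i = 2 * (2 * n + 1) := ⟨d i / 4, by omega⟩
    have hdi := hd i hi
    have hodd : 2 * n + 1 ∣ r * 2 ^ b := (Dvd.intro_left 2 hn.symm).trans hdi
    have hcop3 : Nat.Coprime (2 * n + 1) (2 ^ b) := by
      apply Nat.Coprime.pow_right
      rw [Nat.coprime_comm, Nat.Prime.coprime_iff_not_dvd Nat.prime_two]
      omega
    have hnr : 2 * n + 1 ∣ r := hcop3.dvd_of_dvd_mul_right hodd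
    have hmodi := (Int.modEq_iff_dvd.mp (hmod i hi))
    rcases (Nat.dvd_prime hr).mp hnr with h | h
    · -- `d i = 2`
      have hd2 : d i = 2 := by omega
      rw [hd2] at hmodi
      rcases hδ i hi with h' | h'
      · rw [h'] at hmodi
        have h7 : (p : ℤ) ∣ 1 := by
          have : ((1 : ℤ) - ((2 : ℕ) : ℤ)) = -1 := by norm_num
          rw [this] at hmodi
          exact (Int.dvd_neg).mp hmodi
        have := Int.le_of_dvd one_pos h7
        omega
      · rw [h'] at hmodi
        have h7 : (p : ℤ) ∣ 3 := by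
          have : ((-1 : ℤ) - ((2 : ℕ) : ℤ)) = -3 := by norm_num
          rw [this] at hmodi
          exact (Int.dvd_neg).mp hmodi
        have h8 : p ∣ 3 := by exact_mod_cast h7
        have h9 := Nat.le_of_dvd (by norm_num) h8
        omega
    · -- `d i = 2 r`
      have hd2 : d i = 2 * r := by omega
      rw [hd2] at hmodi
      have hpe : p = r + 4 * E := hre.symm
      rcases hδ i hi with h' | h'
      · -- `p ∣ 2 e + 1`
        rw [h'] at hmodi
        have h7 : (p : ℤ) ∣ ((8 * E + 1 : ℕ) : ℤ) := by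
          have e1 : ((8 * E + 1 : ℕ) : ℤ) = ((1 : ℤ) - ((2 * r : ℕ) : ℤ)) + 2 * (p : ℤ) := by
            rw [hpe]
            push_cast
            ring
          rw [e1]
          exact dvd_add hmodi (Dvd.intro_left 2 rfl)
        have h8 : p ∣ 8 * E + 1 := by exact_mod_cast h7
        have h9 := h72_eq_of_dvd_lt h8 (by omega) (by omega)
        -- `p = 2 e + 1`, `r = e + 1`
        have hrE : r = 2 ^ a + 1 := by omega
        have hpE : p = 2 ^ (a + 1) + 1 := by
          rw [pow_succ]
          omega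
        rcases Nat.even_or_odd' a with ⟨j, hj | hj⟩
        · -- `a` even: `3 ∣ p`
          have h3 : 3 ∣ p := by
            rw [hpE, hj]
            exact h72_three_dvd_two_pow_odd j
          have := (Nat.prime_dvd_prime_iff_eq Nat.prime_three hp).mp h3
          omega
        · -- `a` odd: `3 ∣ r`
          have h3 : 3 ∣ r := by
            rw [hrE, hj]
            exact h72_three_dvd_two_pow_odd j
          have := (Nat.prime_dvd_prime_iff_eq Nat.prime_three hr).mp h3
          omega
      · -- `p ∣ 2 e - 1`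
        rw [h'] at hmodi
        have h7 : (p : ℤ) ∣ ((8 * E - 1 : ℕ) : ℤ) := by
          have e1 : ((8 * E - 1 : ℕ) : ℤ) = ((-1 : ℤ) - ((2 * r : ℕ) : ℤ)) + 2 * (p : ℤ) := by
            rw [hpe]
            have : 1 ≤ 8 * E := by omega
            push_cast [Nat.cast_sub this]
            ring
          rw [e1]
          exact dvd_add hmodi (Dvd.intro_left 2 rfl)
        have h8 : p ∣ 8 * E - 1 := by exact_mod_cast h7
        have h9 := h72_eq_of_dvd_lt h8 (by omega) (by omega)
        -- `p = 2 e - 1`, so `e ∣ 2 e - 2`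
        have hk2 : 8 * E - 2 = 4 * E * k := by omega
        rcases Nat.lt_or_ge k 2 with hlt | hge
        · interval_cases k
          · omega
          · omega
        · have := Nat.mul_le_mul_left (4 * E) hge
          omega

end Cfsg.Agent.Lib.helper72.BT
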