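import Mathlib
import Cfsg.Prelude.Def_Characters
import Cfsg.Prelude.Def_Blocks
import Cfsg.Agent.Lib.helper84.BrDefs
import Cfsg.Agent.Lib.helper81.CharOrtho

/-!
# S0998 piece DEGEQ (`deg_eq`): the degree equation `ε f₀ = 1 + Σ_{χ ∈ X ∖ 1} δ_χ χ(1)`
-/

set_option autoImplicit false

namespace Cfsg.Agent.Lib.helper72.BT

open Cfsg Cfsg.Agent.Lib.helper81 Cfsg.Agent.Lib.helper84.Br
open scoped ComplexConjugate

universe u

variable {G : Type u} [Group G] [Fintype G]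

variable {p : ℕ} [Fact p.Prime] {P : Sylow p G} {e : ℕ}

/-- DEGEQ : the degree equation `ε f₀ = 1 + Σ_{χ ∈ X ∖ 1} δ_χ χ(1)`. -/
theorem deg_eq (hP : Nat.card P = p) (D : Data G p P e) (θ : IrrCharacter G) (hθ : θ ∈ D.Y) :
    D.ε * (charDegree (θ : G → ℂ) : ℤ) =
      1 + ∑ χ ∈ D.X.erase (trivChar G), D.δ χ * (charDegree (χ : G → ℂ) : ℤ) := by
  classical
  have hp : p.Prime := Fact.out
  obtain ⟨x, hx, hx1⟩ : ∃ x : G, x ∈ (P : Subgroup G) ∧ x ≠ 1 := by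
    have h1 : 1 < Nat.card (P : Subgroup G) := by
      rw [hP]
      exact hp.one_lt
    have : Nontrivial ↥(P : Subgroup G) := (Finite.one_lt_card_iff_nontrivial).mp h1
    obtain ⟨y, hy⟩ := exists_ne (1 : ↥(P : Subgroup G))
    exact ⟨y, y.2, fun h => hy (Subtype.ext h)⟩
  have hδ1 := D.δ_triv x hx hx1
  have h1ord : ¬ p ∣ orderOf (1 : G) := by
    rw [orderOf_one]
    exact fun h => hp.one_lt.ne' (Nat.dvd_one.mp h)
  have hrel := D.rel θ hθ 1 h1ord
  rw [← Finset.add_sum_erase D.X _ D.one_mem, trivChar_apply, hδ1] at hrel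
  have h2 : ((D.ε * (charDegree (θ : G → ℂ) : ℤ) : ℤ) : ℂ) =
      ((1 + ∑ χ ∈ D.X.erase (trivChar G), D.δ χ * (charDegree (χ : G → ℂ) : ℤ) : ℤ) : ℂ) := by
    push_cast
    rw [← irr_one_eq_charDegree θ, hrel]
    push_cast
    rw [mul_one]
    congr 1
    refine Finset.sum_congr rfl (fun χ _ => ?_)
    rw [irr_one_eq_charDegree]
  exact_mod_cast h2

end Cfsg.Agent.Lib.helper72.BT
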