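import Mathlib
import Cfsg.Prelude.Def_Characters
import Cfsg.Prelude.Def_Blocks
import Cfsg.Agent.Lib.helper84.BrDefs
import Cfsg.Agent.Lib.helper81.CharOrtho
import Cfsg.Agent.Lib.helper20.BrC1
import Cfsg.Agent.Lib.helper72.BT_AM
import Cfsg.Agent.Lib.helper72.BT_DEGEQ

/-!
# S0998 piece STEPAB (`step_ab`): the degrees in the principal `p`-block of a simple group of
order `p r q^b`, `r ≤ p - 2`
-/

set_option autoImplicit false

namespace Cfsg.Agent.Lib.helper72.BT

open Cfsg Cfsg.Agent.Lib.helper81 Cfsg.Agent.Lib.helper84.Br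
open scoped ComplexConjugate commutatorElement

universe u

variable {G : Type u} [Group G] [Fintype G]

variable {p : ℕ} [Fact p.Prime] {P : Sylow p G} {e : ℕ}

omit [Fintype G] in
/-- A non-cyclic simple group is perfect. -/
theorem h72_bt_perfect [IsSimpleGroup G] (hG : ¬ IsCyclic G) : commutator G = ⊤ := by
  have hn : (commutator G).Normal := inferInstance
  rcases hn.eq_bot_or_eq_top with hb | ht
  · exfalso
    apply hG
    have hcomm : ∀ a b : G, a * b = b * a := by
      intro a b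
      have h1 : ⁅a, b⁆ ∈ commutator G :=
        Subgroup.commutator_mem_commutator (Subgroup.mem_top a) (Subgroup.mem_top b)
      rw [hb, Subgroup.mem_bot] at h1
      exact commutatorElement_eq_one_iff_mul_comm.mp h1
    let _ : CommGroup G := { (inferInstance : Group G) with mul_comm := hcomm }
    exact IsSimpleGroup.isCyclic
  · exact ht

/-- STEPAB : the degrees in the principal `p`-block of a simple group of order `p r q^b`,
`r ≤ p - 2`. -/
theorem step_ab [IsSimpleGroup G] (hG : ¬ IsCyclic G) (hP : Nat.card P = p) (D : Data G p P e)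
    (q r b : ℕ) (hq : q.Prime) (hr : r.Prime) (hpq : p ≠ q) (hpr : p ≠ r) (hqr : q ≠ r)
    (hcard : Nat.card G = p * r * q ^ b) (hrp : r + 2 ≤ p) :
    (∀ χ ∈ D.X, χ ≠ trivChar G → q ∣ charDegree (χ : G → ℂ)) ∧
    (∀ θ ∈ D.Y, charDegree (θ : G → ℂ) = r) ∧
    ((D.ε = 1 ∧ r = e ∧ q ∣ r - 1) ∨ (D.ε = -1 ∧ r + e = p ∧ q ∣ r + 1)) := by
  classical
  have hp : p.Prime := Fact.out
  have hp2 := hp.two_le
  have hr2 := hr.two_le
  have hperf : commutator G = ⊤ := h72_bt_perfect hG
  have hcY := D.cardY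
  have hne0 : D.Y.card * e ≠ 0 := by omega
  have he1 : 1 ≤ e := Nat.pos_of_ne_zero (Nat.mul_ne_zero_iff.mp hne0).2
  have hY1 : 1 ≤ D.Y.card := Nat.pos_of_ne_zero (Nat.mul_ne_zero_iff.mp hne0).1
  have helt : e < p := by
    have h1 : e ≤ D.Y.card * e := Nat.le_mul_of_pos_left e hY1
    omega
  have hYne : D.Y.Nonempty := Finset.card_pos.mp hY1
  -- degrees prime to `p` divide `r q^b`
  have hdvd : ∀ ψ : IrrCharacter G, ¬ p ∣ charDegree (ψ : G → ℂ) →
      charDegree (ψ : G → ℂ) ∣ r * q ^ b := by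
    intro ψ hψ
    have h1 := irr_degree_dvd_card ψ
    rw [hcard, mul_assoc] at h1
    exact (Nat.Coprime.symm ((Nat.Prime.coprime_iff_not_dvd hp).mpr hψ)).dvd_of_dvd_mul_left h1
  have hdvd2 : ∀ ψ : IrrCharacter G, ¬ p ∣ charDegree (ψ : G → ℂ) →
      ¬ q ∣ charDegree (ψ : G → ℂ) →
      charDegree (ψ : G → ℂ) = 1 ∨ charDegree (ψ : G → ℂ) = r := by
    intro ψ h1 h2
    have h3 := hdvd ψ h1
    have hc : Nat.Coprime (charDegree (ψ : G → ℂ)) (q ^ b) :=
      Nat.Coprime.pow_right b (Nat.Coprime.symm ((Nat.Prime.coprime_iff_not_dvd hq).mpr h2))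
    exact (Nat.dvd_prime hr).mp (hc.dvd_of_dvd_mul_right h3)
  -- `p ∤ χ(1)` for `χ ∈ X`
  have hpX : ∀ χ ∈ D.X, ¬ p ∣ charDegree (χ : G → ℂ) := by
    intro χ hχ hdiv
    have h2 : (p : ℤ) ∣ (charDegree (χ : G → ℂ) : ℤ) := by exact_mod_cast hdiv
    have h3 := Int.modEq_iff_dvd.mp (D.deg_X χ hχ)
    have h4 : (p : ℤ) ∣ D.δ χ := by
      have := dvd_add h3 h2
      rwa [sub_add_cancel] at this
    rcases D.δ_sq χ hχ with h | h
    · rw [h] at h4
      have := Int.le_of_dvd one_pos h4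
      omega
    · rw [h] at h4
      have := Int.le_of_dvd one_pos ((dvd_neg).mp h4)
      omega
  -- part 1
  have part1 : ∀ χ ∈ D.X, χ ≠ trivChar G → q ∣ charDegree (χ : G → ℂ) := by
    intro χ hχ hne
    by_contra hq'
    rcases hdvd2 χ (hpX χ hχ) hq' with h | h
    · exact hne (Cfsg.Agent.Lib.helper20.Br.lin_perfect hperf χ h)
    · have h1 := Int.modEq_iff_dvd.mp (D.deg_X χ hχ)
      rw [h] at h1
      rcases D.δ_sq χ hχ with h' | h'
      · rw [h'] at h1
        have h2 : (p : ℤ) ∣ (r : ℤ) - 1 := by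
          rw [← neg_sub]
          exact (dvd_neg).mpr h1
        have := Int.le_of_dvd (by omega) h2
        omega
      · rw [h'] at h1
        have h2 : (p : ℤ) ∣ (r : ℤ) + 1 := by
          have e1 : (-1 : ℤ) - (r : ℤ) = -((r : ℤ) + 1) := by ring
          rw [e1] at h1
          exact (dvd_neg).mp h1
        have := Int.le_of_dvd (by omega) h2
        omega
  -- the sum over `X ∖ 1` is divisible by `q`
  have hsumq : (q : ℤ) ∣ ∑ χ ∈ D.X.erase (trivChar G), D.δ χ * (charDegree (χ : G → ℂ) : ℤ) := by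
    refine Finset.dvd_sum (fun χ hχ => ?_)
    have h1 := part1 χ (Finset.mem_of_mem_erase hχ) (Finset.ne_of_mem_erase hχ)
    exact Dvd.dvd.mul_left (by exact_mod_cast h1) (D.δ χ)
  -- part 2
  have part2 : ∀ θ ∈ D.Y, charDegree (θ : G → ℂ) = r := by
    intro θ hθ
    have hpf : ¬ p ∣ charDegree (θ : G → ℂ) := by
      intro hdiv
      have h2 : (p : ℤ) ∣ (charDegree (θ : G → ℂ) : ℤ) := by exact_mod_cast hdiv
      have h3 := Int.modEq_iff_dvd.mp (D.deg_Y θ hθ)
      have h4 : (p : ℤ) ∣ D.ε * (e : ℤ) := by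
        have := dvd_add h3 h2
        rwa [sub_add_cancel] at this
      have h5 : (p : ℤ) ∣ (e : ℤ) := by
        rcases D.ε_sq with h | h
        · rw [h, one_mul] at h4
          exact h4
        · rw [h, neg_one_mul] at h4
          exact (dvd_neg).mp h4
      have := Int.le_of_dvd (by omega) h5
      omega
    have hqf : ¬ q ∣ charDegree (θ : G → ℂ) := by
      intro hdiv
      have h2 : (q : ℤ) ∣ D.ε * (charDegree (θ : G → ℂ) : ℤ) :=
        Dvd.dvd.mul_left (by exact_mod_cast hdiv) D.ε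
      rw [deg_eq hP D θ hθ] at h2
      have h3 : (q : ℤ) ∣ 1 := (dvd_add_left hsumq).mp h2
      have := Int.le_of_dvd one_pos h3
      have := hq.two_le
      omega
    rcases hdvd2 θ hpf hqf with h | h
    · exfalso
      have h1 := Cfsg.Agent.Lib.helper20.Br.lin_perfect hperf θ h
      rw [h1] at hθ
      exact (Finset.disjoint_left.mp D.disj) D.one_mem hθ
    · exact h
  refine ⟨part1, part2, ?_⟩
  obtain ⟨θ, hθ⟩ := hYne
  have hf := part2 θ hθ
  have hdeg := deg_eq hP D θ hθ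
  rw [hf] at hdeg
  have hmod := Int.modEq_iff_dvd.mp (D.deg_Y θ hθ)
  rw [hf] at hmod
  rcases D.ε_sq with h | h
  · left
    rw [h, one_mul] at hmod hdeg
    have hre : r = e := by
      rcases le_total r e with hle | hle
      · have h0 := Int.eq_zero_of_dvd_of_nonneg_of_lt (by omega) (by omega) hmod
        omega
      · have h2 : (p : ℤ) ∣ (r : ℤ) - (e : ℤ) := by
          rw [← neg_sub]
          exact (dvd_neg).mpr hmod
        have h0 := Int.eq_zero_of_dvd_of_nonneg_of_lt (by omega) (by omega) h2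
        omega
    refine ⟨h, hre, ?_⟩
    have h3 : (q : ℤ) ∣ ((r - 1 : ℕ) : ℤ) := by
      have e1 : ((r - 1 : ℕ) : ℤ) =
          ∑ χ ∈ D.X.erase (trivChar G), D.δ χ * (charDegree (χ : G → ℂ) : ℤ) := by
        rw [Nat.cast_sub (by omega)]
        push_cast
        linarith
      rw [e1]
      exact hsumq
    exact_mod_cast h3
  · right
    rw [h] at hmod hdeg
    have h2 : (p : ℤ) ∣ ((r + e : ℕ) : ℤ) := by
      have e1 : (-1 : ℤ) * (e : ℤ) - (r : ℤ) = -(((r + e : ℕ) : ℤ)) := by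
        push_cast
        ring
      rw [e1] at hmod
      exact (dvd_neg).mp hmod
    have h3 : p ∣ r + e := by exact_mod_cast h2
    have hre := h72_eq_of_dvd_lt h3 (by omega) (by omega)
    refine ⟨h, hre, ?_⟩
    have h4 : (q : ℤ) ∣ ((r + 1 : ℕ) : ℤ) := by
      have e1 : ((r + 1 : ℕ) : ℤ) =
          -∑ χ ∈ D.X.erase (trivChar G), D.δ χ * (charDegree (χ : G → ℂ) : ℤ) := by
        push_cast
        linarith
      rw [e1]
      exact (dvd_neg).mpr hsumq
    exact_mod_cast h4

end Cfsg.Agent.Lib.helper72.BT
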