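import Mathlib
import Cfsg.Prelude.Def_Characters
import Cfsg.Prelude.Def_Blocks
import Cfsg.Agent.Lib.helper84.BrDefs
import Cfsg.Agent.Lib.helper6.BrDecomp
import Cfsg.Agent.Lib.helper6.BT_THSQ

/-!
# S0997 piece THX (`theta_cross`): the decomposition of `θ θ'̄` for the two exceptional
characters (`ε = -1`, `p = 2 e + 1`, `e ≥ 4`) gives a character of degree `p - 1` and sign `-1`
in `X`.
-/

set_option autoImplicit false
set_option linter.unusedSectionVars false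

namespace Cfsg.Agent.Lib.helper72.BU

open Cfsg Cfsg.Agent.Lib.helper81 Cfsg.Agent.Lib.helper84.Br Cfsg.Agent.Lib.helper6.Br
open scoped ComplexConjugate

universe u

/-- The arithmetic core of THX. -/
theorem h72_arith_thx (e aA aB aY S : ℤ) (he4 : 4 ≤ e) (hA : 0 ≤ aA) (hY : 0 ≤ aY)
    (hS : (4 * e + 1) * aB ≤ S) (h1 : S ≤ (e + 1) ^ 2)
    (h2 : -(e ^ 2) = 2 * e * (aA - aB) + e * aY) : False := by
  have h3 : -e = 2 * (aA - aB) + aY := by
    have h : e * (-e) = e * (2 * (aA - aB) + aY) := by linear_combination h2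
    exact mul_left_cancel₀ (by omega) h
  have h4 : e ≤ 2 * aB := by linarith
  have h5 : (4 * e + 1) * e ≤ (4 * e + 1) * (2 * aB) :=
    mul_le_mul_of_nonneg_left h4 (by omega)
  nlinarith

section pieces

variable {G : Type u} [Group G] [Fintype G]

variable {p : ℕ} [Fact p.Prime] {P : Sylow p G} {e : ℕ}

/-- THX : the decomposition of `θ θ'̄` (`θ ≠ θ'` in `Y`, `ε = -1`, `p = 2 e + 1`, `e ≥ 4`) gives a
character of degree `p - 1` and sign `-1` in `X`. -/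
theorem theta_cross (hP : Nat.card P = p) (D : Data G p P e) (he4 : 4 ≤ e)
    (hpe : p - 1 = 2 * e) (hε : D.ε = -1)
    (hYd : ∀ θ ∈ D.Y, charDegree (θ : G → ℂ) = e + 1)
    (hX : ∀ χ ∈ D.X, χ ≠ trivChar G → p - 1 ≤ charDegree (χ : G → ℂ))
    (hY : ∀ θ ∈ D.Y, psum (P : Subgroup G) (θ : G → ℂ) = -(D.ε : ℂ) * (e : ℂ))
    (hY2 : ∀ θ ∈ D.Y, psum (P : Subgroup G) (fun g => (θ : G → ℂ) g * conj ((θ : G → ℂ) g)) =
      (e : ℂ) * ((p : ℂ) - (e : ℂ)))
    (horth : ∀ x : G, x ∈ (P : Subgroup G) → x ≠ 1 →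
      ∑ θ ∈ D.Y, (θ : G → ℂ) x = -(D.ε : ℂ)) :
    ∃ χ ∈ D.X, D.δ χ = -1 ∧ charDegree (χ : G → ℂ) = p - 1 := by
  classical
  have hp2 : 2 ≤ p := (Fact.out : p.Prime).two_le
  have hcY := D.cardY
  have hY2c : D.Y.card = 2 := by
    rw [hpe] at hcY
    exact Nat.eq_of_mul_eq_mul_right (by omega) hcY
  obtain ⟨θ, θ', hne, hYeq⟩ := Finset.card_eq_two.mp hY2c
  have hθ : θ ∈ D.Y := by rw [hYeq]; simp
  have hθ' : θ' ∈ D.Y := by rw [hYeq]; simp
  have hsum : ∀ x : G, x ∈ (P : Subgroup G) → x ≠ 1 →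
      (θ : G → ℂ) x + (θ' : G → ℂ) x = 1 := by
    intro x hx hx1
    have h := horth x hx hx1
    rw [hYeq, Finset.sum_pair hne, hε] at h
    simpa using h
  obtain ⟨Ψ, hΨdef⟩ : ∃ Ψ : G → ℂ, Ψ = fun g => (θ : G → ℂ) g * conj ((θ' : G → ℂ) g) :=
    ⟨_, rfl⟩
  have hΨc : IsCharacter G Ψ := by
    have h := Cfsg.Agent.Lib.helper4.isCharacter_mul (irr_isCharacter θ)
      (Cfsg.Agent.Lib.helper4.isCharacter_conj (irr_isCharacter θ'))
    rw [hΨdef]
    exact h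
  obtain ⟨α, hα1, hdeg, hps⟩ := Cfsg.Agent.Lib.helper6.BT.helper6_decomp2 hP D hY hΨc
  have h1 : α (trivChar G) = 0 := by
    have h := hα1 (trivChar G)
    have h2 : classInner Ψ (trivChar G : G → ℂ) = classInner (θ : G → ℂ) (θ' : G → ℂ) := by
      unfold classInner
      congr 1
      refine Finset.sum_congr rfl fun g _ => ?_
      simp [hΨdef]
    rw [h2, irr_classInner_ne hne] at h
    exact_mod_cast h.symm
  have hΨ1 : Ψ 1 = (((e + 1) ^ 2 : ℕ) : ℂ) := by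
    rw [hΨdef]
    simp only
    rw [irr_one_eq_charDegree, irr_one_eq_charDegree, hYd θ hθ, hYd θ' hθ']
    simp [sq]
  have hdegN : (e + 1) ^ 2 = α (trivChar G) + ∑ χ ∈ D.A, α χ * charDegree (χ : G → ℂ)
      + ∑ χ ∈ D.B, α χ * charDegree (χ : G → ℂ)
      + ∑ θ' ∈ D.Y, α θ' * charDegree (θ' : G → ℂ)
      + ∑ d ∈ D.Dset, α d * charDegree (d : G → ℂ) := by
    rw [hΨ1] at hdeg
    exact_mod_cast hdeg
  have hpsΨ : psum (P : Subgroup G) Ψ = (e : ℂ) - (e : ℂ) * ((p : ℂ) - (e : ℂ)) := by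
    have hA := hY θ hθ
    have hB := hY2 θ hθ
    rw [helper6_psum_eq] at hA hB ⊢
    rw [hε] at hA
    have hcg : ∑ g ∈ helper6_T (P : Subgroup G), Ψ g
        = ∑ g ∈ helper6_T (P : Subgroup G),
            ((θ : G → ℂ) g - (θ : G → ℂ) g * conj ((θ : G → ℂ) g)) := by
      refine Finset.sum_congr rfl fun x hx => ?_
      simp only [helper6_T, Finset.mem_filter, Finset.mem_univ, true_and] at hx
      have h := hsum x hx.1 hx.2
      have h' : (θ' : G → ℂ) x = 1 - (θ : G → ℂ) x := by linear_combination h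
      rw [hΨdef]
      simp only
      rw [h', map_sub, map_one]
      ring
    rw [hcg, Finset.sum_sub_distrib, hA, hB]
    push_cast
    ring
  rw [hpsΨ, h1, hε] at hps
  rw [h1] at hdegN
  -- degrees of the characters of B
  have hBdeg : ∀ χ ∈ D.B, charDegree (χ : G → ℂ) = p - 1 ∨
      2 * p - 1 ≤ charDegree (χ : G → ℂ) := by
    intro χ hχ
    rw [D.mem_B] at hχ
    have hm := D.deg_X χ hχ.1
    rw [hχ.2] at hm
    have hdv : (p : ℤ) ∣ (charDegree (χ : G → ℂ) : ℤ) + 1 := by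
      have h := Int.modEq_iff_dvd.mp hm.symm
      have h' : (charDegree (χ : G → ℂ) : ℤ) + 1 = (charDegree (χ : G → ℂ) : ℤ) - (-1) := by
        ring
      rw [h']
      exact h
    obtain ⟨k, hk⟩ := hdv
    have hd0 : (0 : ℤ) ≤ (charDegree (χ : G → ℂ) : ℤ) := Int.natCast_nonneg _
    have hpZ : (2 : ℤ) ≤ (p : ℤ) := by exact_mod_cast hp2
    have hk1 : 1 ≤ k := by
      by_contra hcon
      have hk0 : k ≤ 0 := by omega
      have h' : (p : ℤ) * k ≤ (p : ℤ) * 0 := mul_le_mul_of_nonneg_left hk0 (by omega)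
      linarith
    rcases eq_or_lt_of_le hk1 with h1' | h1'
    · left
      have h' : (charDegree (χ : G → ℂ) : ℤ) = p - 1 := by
        rw [← h1', mul_one] at hk; linarith
      omega
    · right
      have h0 : (p : ℤ) * 2 ≤ (p : ℤ) * k := mul_le_mul_of_nonneg_left (by omega) (by omega)
      have h' : (2 * p - 1 : ℤ) ≤ (charDegree (χ : G → ℂ) : ℤ) := by linarith
      omega
  by_contra hno
  push Not at hno
  obtain ⟨aA, haA⟩ : ∃ a : ℕ, a = ∑ χ ∈ D.A, α χ := ⟨_, rfl⟩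
  obtain ⟨aB, haB⟩ : ∃ a : ℕ, a = ∑ χ ∈ D.B, α χ := ⟨_, rfl⟩
  obtain ⟨aY, haY⟩ : ∃ a : ℕ, a = ∑ θ' ∈ D.Y, α θ' := ⟨_, rfl⟩
  obtain ⟨S, hSdef⟩ : ∃ a : ℕ, a = ∑ χ ∈ D.B, α χ * charDegree (χ : G → ℂ) := ⟨_, rfl⟩
  rw [← haA, ← haB, ← haY] at hps
  rw [← hSdef] at hdegN
  have hS2 : S ≤ (e + 1) ^ 2 := by
    rw [hdegN]
    omega
  have hS3 : (4 * e + 1) * aB ≤ S := by
    rw [haB, hSdef, Finset.mul_sum]
    refine Finset.sum_le_sum fun χ hχ => ?_
    rw [mul_comm]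
    apply Nat.mul_le_mul_left
    have hχ' := (D.mem_B χ).mp hχ
    rcases hBdeg χ hχ with h | h
    · exact absurd h (hno χ hχ'.1 hχ'.2)
    · omega
  have hpC : (p : ℂ) = 2 * (e : ℂ) + 1 := by
    have h : p = 2 * e + 1 := by omega
    rw [h]; push_cast; ring
  have hq : ((p - 1 : ℕ) : ℂ) = 2 * (e : ℂ) := by
    rw [hpe]; push_cast; ring
  have hZ2 : -((e : ℤ) ^ 2) = 2 * (e : ℤ) * ((aA : ℤ) - aB) + (e : ℤ) * aY := by
    have h' : -((e : ℂ) ^ 2) = 2 * (e : ℂ) * ((aA : ℂ) - (aB : ℂ)) + (e : ℂ) * (aY : ℂ) := by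
      rw [hq, hpC] at hps
      simp only [Nat.cast_zero, Int.cast_neg, Int.cast_one] at hps
      linear_combination hps
    exact_mod_cast h'
  exact h72_arith_thx (e : ℤ) (aA : ℤ) (aB : ℤ) (aY : ℤ) (S : ℤ) (by exact_mod_cast he4)
    (Int.natCast_nonneg _) (Int.natCast_nonneg _) (by exact_mod_cast hS3)
    (by exact_mod_cast hS2) hZ2

end pieces

end Cfsg.Agent.Lib.helper72.BU
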