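/-
helper72: S0999 piece CH2 (`deg_dvd_index`): if `χ(z) = ±1` then `χ(1)` divides `|G : C_G(z)|`
(the central character `ω_χ(z) = |G : C(z)| χ(z) / χ(1)` is an algebraic integer).
-/
import Mathlib
import Cfsg.Prelude.Def_Characters
import Cfsg.Prelude.Def_Blocks
import Cfsg.Agent.Lib.helper81.CharOrtho

set_option autoImplicit false

namespace Cfsg.Agent.Lib.helper21.BR

open Cfsg

universe u

section h72CH2

variable {G : Type u} [Group G] [Fintype G]

/-- CH2 -/
theorem deg_dvd_index (χ : IrrCharacter G) (z : G)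
    (hz : (χ : G → ℂ) z = 1 ∨ (χ : G → ℂ) z = -1) :
    charDegree (χ : G → ℂ) ∣ (Subgroup.centralizer ({z} : Set G)).index := by
  have h := Cfsg.Agent.Lib.helper81.irr_centralChar_isIntegral χ z
  unfold centralChar at h
  rw [Cfsg.Agent.Lib.helper81.irr_one_eq_charDegree] at h
  have hpos := Cfsg.Agent.Lib.helper81.irr_charDegree_pos χ
  apply Cfsg.Agent.Lib.helper81.dvd_of_isIntegral_div hpos.ne'
  rcases hz with hz | hz
  · rw [hz, mul_one] at h
    exact h
  · rw [hz] at h
    have h2 : ((Subgroup.centralizer ({z} : Set G)).index : ℂ) / (charDegree (χ : G → ℂ) : ℂ) =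
        -(((Subgroup.centralizer ({z} : Set G)).index : ℂ) * (-1) /
          (charDegree (χ : G → ℂ) : ℂ)) := by ring
    rw [h2]
    exact h.neg

end h72CH2

end Cfsg.Agent.Lib.helper21.BR
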