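/-
helper72: S0999 piece CH7 (`eq_trivIrr_of_degree_one`): a non-cyclic simple group is perfect, so
its only linear character is the trivial one.
-/
import Mathlib
import Cfsg.Agent.Lib.helper21.BRDefs
import Cfsg.Agent.Lib.helper82.CharQuot

set_option autoImplicit false

namespace Cfsg.Agent.Lib.helper21.BR

open Cfsg Cfsg.Agent.Lib.helper21
open scoped commutatorElement

universe u

section h72CH7

variable {G : Type u} [Group G] [Fintype G]

omit [Fintype G] in
/-- a non-cyclic simple group is perfect -/
theorem h72_commutator_eq_top [IsSimpleGroup G] (hG : ¬ IsCyclic G) : commutator G = ⊤ := by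
  have hn : (commutator G).Normal := inferInstance
  rcases hn.eq_bot_or_eq_top with hb | ht
  · exfalso
    apply hG
    have hcomm : ∀ a b : G, a * b = b * a := by
      intro a b
      have h1 : ⁅a, b⁆ ∈ commutator G :=
        Subgroup.commutator_mem_commutator (Subgroup.mem_top a) (Subgroup.mem_top b)
      rw [hb, Subgroup.mem_bot] at h1
      exact commutatorElement_eq_one_iff_mul_comm.mp h1
    let _ : CommGroup G := { (inferInstance : Group G) with mul_comm := hcomm }
    exact IsSimpleGroup.isCyclic
  · exact ht

/-- CH7 -/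
theorem eq_trivIrr_of_degree_one [IsSimpleGroup G] (hG : ¬ IsCyclic G) (χ : IrrCharacter G)
    (h : charDegree (χ : G → ℂ) = 1) : χ = trivIrr G := by
  have hperf : commutator G = ⊤ := h72_commutator_eq_top hG
  have h1 : (χ : G → ℂ) 1 = 1 := by
    rw [Cfsg.Agent.Lib.helper83.irr_one_eq_charDegree, h]; simp
  apply Subtype.ext
  funext x
  have h2 := Cfsg.Agent.Lib.helper82.linear_commutator
    (Cfsg.Agent.Lib.helper83.isCharacter_of_irr χ.2) h1 x (by rw [hperf]; trivial)
  rw [h2, h1]
  rfl

end h72CH7

end Cfsg.Agent.Lib.helper21.BR
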