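/-
helper72: S0999 piece CH4 (`fs_bound`): the number of solutions of `g ^ 2 = 1` is at most the sum
of the degrees of the irreducible characters (Frobenius–Schur; from `helper78.fs_count` and
`helper78.irr_fs_indicator`).
-/
import Mathlib
import Cfsg.Prelude.Def_Characters
import Cfsg.Prelude.Def_Blocks
import Cfsg.Agent.Lib.helper78.FrobSchur2

set_option autoImplicit false

namespace Cfsg.Agent.Lib.helper21.BR

open Cfsg

universe u

section h72CH4

variable {G : Type u} [Group G] [Fintype G]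

/-- CH4 -/
theorem fs_bound [Fintype (IrrCharacter G)] :
    Nat.card {g : G // g ^ 2 = 1} ≤ ∑ ψ : IrrCharacter G, charDegree (ψ : G → ℂ) := by
  classical
  have h0 : Nat.card {g : G // g ^ 2 = 1} = Nat.card {s : G // s * s = 1} :=
    Nat.card_congr (Equiv.subtypeEquivRight (fun g => by rw [pow_two]))
  rw [h0]
  have h1 := Cfsg.Agent.Lib.helper78.fs_count (G := G)
  choose ν hν using fun χ : IrrCharacter G => Cfsg.Agent.Lib.helper78.irr_fs_indicator χ
  have h2 : ((Nat.card {s : G // s * s = 1} : ℕ) : ℂ) =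
      ((∑ χ : IrrCharacter G, ν χ * (charDegree (χ : G → ℂ) : ℤ) : ℤ) : ℂ) := by
    rw [h1]
    push_cast
    refine Finset.sum_congr rfl fun χ _ => ?_
    rw [(hν χ).2.1, Cfsg.Agent.Lib.helper83.irr_one_eq_charDegree]
  have h3 : ((Nat.card {s : G // s * s = 1} : ℕ) : ℤ) =
      ∑ χ : IrrCharacter G, ν χ * (charDegree (χ : G → ℂ) : ℤ) := by
    exact_mod_cast h2
  have h4 : ∑ χ : IrrCharacter G, ν χ * (charDegree (χ : G → ℂ) : ℤ) ≤
      ∑ χ : IrrCharacter G, (charDegree (χ : G → ℂ) : ℤ) := by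
    apply Finset.sum_le_sum
    intro χ _
    have hd : (0 : ℤ) ≤ (charDegree (χ : G → ℂ) : ℤ) := Int.natCast_nonneg _
    rcases (hν χ).1 with h | h | h <;> rw [h] <;> nlinarith
  have h5 : ((Nat.card {s : G // s * s = 1} : ℕ) : ℤ) ≤
      ((∑ χ : IrrCharacter G, charDegree (χ : G → ℂ) : ℕ) : ℤ) := by
    rw [h3]
    push_cast
    exact h4
  exact_mod_cast h5

end h72CH4

end Cfsg.Agent.Lib.helper21.BR
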