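import Mathlib
import Cfsg.Agent.Lib.helper24.S6eDefs

set_option autoImplicit false

namespace Cfsg.Agent.Lib.helper24

open Matrix Cfsg Cfsg.Geo

/-- Fixed points of conjugation by `y` on a conjugation-stable finite predicate. -/
theorem helper72_s6_fix_mod {G : Type*} [Group G] [Finite G] (P : G → Prop)
    (r : ℕ) [Fact r.Prime] (y : G) (hP : ∀ s, P s → P (y * s * y⁻¹)) (hyr : y ^ r = 1) :
    Nat.card {s : G // P s ∧ y * s = s * y} % r = Nat.card {s : G // P s} % r := by
  classical
  let _ : Fintype {s : G // P s} := Fintype.ofFinite _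
  let f : Function.End {s : G // P s} := fun s => ⟨y * s.1 * y⁻¹, hP s.1 s.2⟩
  have hpow : ∀ n : ℕ, ∀ s : {s : G // P s}, ((f ^ n : Function.End {s : G // P s}) s).1 = y ^ n * s.1 * (y ^ n)⁻¹ := by
    intro n
    induction n with
    | zero =>
      intro s
      change s.1 = _
      simp
    | succ n ih =>
      intro s
      rw [pow_succ']
      change (f ((f ^ n : Function.End {s : G // P s}) s)).1 = _
      change y * ((f ^ n : Function.End {s : G // P s}) s).1 * y⁻¹ = _
      rw [ih s, pow_succ']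
      group
  have hf : f ^ r ^ 1 = 1 := by
    rw [pow_one]
    funext s
    apply Subtype.ext
    rw [hpow r s, hyr]
    change _ = s.1
    simp
  have h := Equiv.Perm.card_fixedPoints_modEq (p := r) (n := 1) hf
  have e : {s : G // P s ∧ y * s = s * y} ≃ Function.fixedPoints f :=
    { toFun := fun s => ⟨⟨s.1, s.2.1⟩, by
        change f ⟨s.1, s.2.1⟩ = ⟨s.1, s.2.1⟩
        apply Subtype.ext
        change y * s.1 * y⁻¹ = s.1
        rw [s.2.2]; group⟩
      invFun := fun s => ⟨s.1.1, s.1.2, by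
        have h1 : f s.1 = s.1 := s.2
        have h2 : y * s.1.1 * y⁻¹ = s.1.1 := congrArg Subtype.val h1
        calc y * s.1.1 = y * s.1.1 * y⁻¹ * y := by group
          _ = s.1.1 * y := by rw [h2]⟩
      left_inv := fun s => rfl
      right_inv := fun s => rfl }
  rw [Nat.card_congr e, Nat.card_eq_fintype_card, Nat.card_eq_fintype_card]
  exact h.symm

/-- BFC (L). -/
theorem s6_fix_count {F : Type*} [Field F] [Fintype F] (h2 : (2 : F) ≠ 0) (R : Subgroup (GL S6I F)) (hG : S6Good R)
    (r : ℕ) [Fact r.Prime] (y : GL S6I F) (hy : y ∈ subgroupNormalizer R) (hyr : y ^ r = 1) :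
    Nat.card {s : GL S6I F // s ∈ R ∧ y * s = s * y} ∣ 32 ∧
      Nat.card {s : GL S6I F // s ∈ R ∧ y * s = s * y} % r = 32 % r ∧
      ∃ i : ℕ, i % r = 10 % r ∧ i + 2 ≤ Nat.card {s : GL S6I F // s ∈ R ∧ y * s = s * y} := by
  classical
  have : Finite (GL S6I F) := Finite.of_injective (fun g : GL S6I F => (g : Matrix S6I S6I F)) Units.val_injective
  have hyN : y ∈ Subgroup.normalizer (R : Set (GL S6I F)) := hy
  have hconj : ∀ s, s ∈ R → y * s * y⁻¹ ∈ R := fun s hs => (Subgroup.mem_normalizer_iff.mp hyN s).mp hs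
  obtain ⟨z, hzR, hz⟩ := hG.neg
  have hzc : ∀ g : GL S6I F, g * z = z * g := by
    intro g
    apply Units.ext
    simp [hz]
  have hz1 : z ≠ 1 := by
    intro h
    have h3 : (z : Matrix S6I S6I F) = 1 := by rw [h]; rfl
    rw [hz] at h3
    have h4 := congrFun (congrFun h3 (Sum.inl 0)) (Sum.inl 0)
    simp at h4
    apply h2
    have : (2 : F) = 1 - (-1) := by ring
    rw [this, h4]; ring
  -- the centralizer subgroup
  let C : Subgroup (GL S6I F) := R ⊓ Subgroup.centralizer {y}
  have eC : {s : GL S6I F // s ∈ R ∧ y * s = s * y} ≃ C :=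
    Equiv.subtypeEquivRight (fun s => by
      change _ ↔ s ∈ R ∧ s ∈ Subgroup.centralizer {y}
      rw [Subgroup.mem_centralizer_iff]
      constructor
      · rintro ⟨h1, h3⟩
        refine ⟨h1, ?_⟩
        intro g hg
        rw [Set.mem_singleton_iff] at hg
        subst hg
        exact h3
      · rintro ⟨h1, h3⟩
        exact ⟨h1, h3 y rfl⟩)
  have hCR : Nat.card C ∣ 32 := by
    have := Subgroup.card_dvd_of_le (inf_le_left : C ≤ R)
    rwa [hG.card] at this
  refine ⟨by rw [Nat.card_congr eC]; exact hCR, ?_, ?_⟩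
  · have h := helper72_s6_fix_mod (fun s : GL S6I F => s ∈ R) r y hconj hyr
    rw [h]
    have : Nat.card {s : GL S6I F // s ∈ R} = 32 := hG.card
    rw [this]
  · -- involutions
    let P : GL S6I F → Prop := fun s => s ∈ R ∧ s * s = 1 ∧ s ≠ 1 ∧ s ≠ z
    have hPeq : ∀ s : GL S6I F, (s ∈ R ∧ (s : Matrix S6I S6I F) * (s : Matrix S6I S6I F) = 1 ∧ (s : Matrix S6I S6I F) ≠ 1 ∧ (s : Matrix S6I S6I F) ≠ -1) ↔ P s := by
      intro s
      have e1 : ((s : Matrix S6I S6I F) * (s : Matrix S6I S6I F) = 1) ↔ s * s = 1 := by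
        rw [Units.ext_iff]; rfl
      have e2 : ((s : Matrix S6I S6I F) = 1) ↔ s = 1 := by
        rw [Units.ext_iff]; rfl
      have e3 : ((s : Matrix S6I S6I F) = -1) ↔ s = z := by
        rw [Units.ext_iff, hz]
      change _ ↔ s ∈ R ∧ s * s = 1 ∧ s ≠ 1 ∧ s ≠ z
      rw [e1, Ne, e2, Ne, e3]
    have hPcard : Nat.card {s : GL S6I F // P s} = 10 := by
      rw [← hG.invol]
      exact Nat.card_congr (Equiv.subtypeEquivRight (fun s => (hPeq s).symm))
    have hPconj : ∀ s, P s → P (y * s * y⁻¹) := by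
      rintro s ⟨h1, h3, h4, h5⟩
      refine ⟨hconj s h1, ?_, ?_, ?_⟩
      · calc y * s * y⁻¹ * (y * s * y⁻¹) = y * (s * s) * y⁻¹ := by group
          _ = 1 := by rw [h3]; group
      · intro h
        apply h4
        calc s = y⁻¹ * (y * s * y⁻¹) * y := by group
          _ = 1 := by rw [h]; group
      · intro h
        apply h5
        calc s = y⁻¹ * (y * s * y⁻¹) * y := by group
          _ = y⁻¹ * (z * y) := by rw [h]; group
          _ = y⁻¹ * (y * z) := by rw [hzc y]
          _ = z := by group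
    have h := helper72_s6_fix_mod P r y hPconj hyr
    rw [hPcard] at h
    refine ⟨_, h, ?_⟩
    -- injection
    change Set.ncard {s : GL S6I F | P s ∧ y * s = s * y} + 2 ≤ _
    have hfin : ∀ S : Set (GL S6I F), S.Finite := fun S => Set.toFinite S
    have hsub : insert (1 : GL S6I F) (insert z {s : GL S6I F | P s ∧ y * s = s * y}) ⊆ {s : GL S6I F | s ∈ R ∧ y * s = s * y} := by
      intro s hs
      rcases hs with rfl | rfl | hs
      · exact ⟨R.one_mem, by simp⟩
      · exact ⟨hzR, hzc y⟩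
      · exact ⟨hs.1.1, hs.2⟩
    have hle := Set.ncard_le_ncard hsub (hfin _)
    have hz_not : z ∉ {s : GL S6I F | P s ∧ y * s = s * y} := by
      intro h; exact h.1.2.2.2 rfl
    have h1_not : (1 : GL S6I F) ∉ insert z {s : GL S6I F | P s ∧ y * s = s * y} := by
      intro h
      rcases h with h | h
      · exact hz1 h.symm
      · exact h.1.2.2.1 rfl
    rw [Set.ncard_insert_of_notMem h1_not (hfin _), Set.ncard_insert_of_notMem hz_not (hfin _)] at hle
    have : Nat.card {s : GL S6I F // s ∈ R ∧ y * s = s * y} = Set.ncard {s : GL S6I F | s ∈ R ∧ y * s = s * y} :=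
      (Nat.card_coe_set_eq _)
    rw [this]
    exact hle

end Cfsg.Agent.Lib.helper24
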