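/-
helper72: S5005 piece C1 (`cnt_sq`): the square-root involution on
`{x ∈ S | x⁻¹ * (v * v) ∈ S}`, `x ↦ v * x⁻¹ * v`, whose fixed points are the `a * v` with
`a * a = 1`.  Also the parity lemma `h72_card_involution` for an involution on a finset.
-/
import Mathlib
import Cfsg.Agent.Lib.helper9.B22Defs

set_option autoImplicit false

namespace Cfsg.Agent.Lib.helper72.B22

open Cfsg Cfsg.Agent.Lib.helper9.B22

universe u

/-- An involution on a finset: the cardinality is congruent mod 2 to the number of fixed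
points. -/
theorem h72_card_involution {α : Type*} [DecidableEq α] (X : Finset α) (τ : α → α)
    (hmem : ∀ x ∈ X, τ x ∈ X) (hinv : ∀ x ∈ X, τ (τ x) = x) :
    ((X.card : ℕ) : ZMod 2) = (((X.filter (fun x => τ x = x)).card : ℕ) : ZMod 2) := by
  have h1 : ∑ x ∈ X.filter (fun x => ¬ τ x = x), (1 : ZMod 2) = 0 := by
    apply Finset.sum_involution (fun x _ => τ x)
    · intro a _
      exact (by decide : (1 : ZMod 2) + 1 = 0)
    · intro a ha _
      exact (Finset.mem_filter.mp ha).2
    · intro a ha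
      rw [Finset.mem_filter] at ha ⊢
      refine ⟨hmem a ha.1, fun h => ha.2 ?_⟩
      rw [hinv a ha.1] at h
      exact h.symm
    · intro a ha
      exact hinv a (Finset.mem_filter.mp ha).1
  rw [Finset.sum_const, nsmul_eq_mul, mul_one] at h1
  rw [← Finset.card_filter_add_card_filter_not (s := X) (fun x => τ x = x), Nat.cast_add, h1,
    add_zero]

variable {G : Type u} [Group G] [Fintype G] [DecidableEq G]

theorem cnt_sq (S : Finset G) (hS : ∀ g x : G, x ∈ S → g * x * g⁻¹ ∈ S) (v : G) :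
    ((cnt S S (v * v) : ℕ) : ZMod 2) = ((sq S v : ℕ) : ZMod 2) := by
  unfold cnt Cfsg.Agent.Lib.helper9.B22.sq
  rw [h72_card_involution (S.filter (fun x => x⁻¹ * (v * v) ∈ S)) (fun x => v * x⁻¹ * v) ?_ ?_]
  · congr 1
    refine Finset.card_bij' (fun x _ => x * v⁻¹) (fun a _ => a * v) ?_ ?_ ?_ ?_
    · intro x hx
      rw [Finset.mem_filter, Finset.mem_filter] at hx
      obtain ⟨⟨hxS, _⟩, hfix⟩ := hx
      have hfix' : v * x⁻¹ * v = x := hfix
      rw [Finset.mem_filter]
      refine ⟨Finset.mem_univ _, ?_, ?_⟩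
      · calc x * v⁻¹ * (x * v⁻¹) = (v * x⁻¹ * v) * v⁻¹ * (x * v⁻¹) := by rw [hfix']
          _ = 1 := by group
      · rw [inv_mul_cancel_right]
        exact hxS
    · intro a ha
      rw [Finset.mem_filter] at ha
      obtain ⟨_, ha2, haS⟩ := ha
      have ainv : a⁻¹ = a := inv_eq_of_mul_eq_one_left ha2
      rw [Finset.mem_filter, Finset.mem_filter]
      refine ⟨⟨haS, ?_⟩, ?_⟩
      · have e : (a * v)⁻¹ * (v * v) = v⁻¹ * (a * v) * v⁻¹⁻¹ := by
          rw [mul_inv_rev, ainv]; group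
        rw [e]
        exact hS _ _ haS
      · show v * (a * v)⁻¹ * v = a * v
        rw [mul_inv_rev, ainv]; group
    · intro x _
      show x * v⁻¹ * v = x
      group
    · intro a _
      show a * v * v⁻¹ = a
      group
  · intro x hx
    rw [Finset.mem_filter] at hx ⊢
    obtain ⟨hxS, hx2⟩ := hx
    refine ⟨?_, ?_⟩
    · have e : v * x⁻¹ * v = (v⁻¹ * x) * (x⁻¹ * (v * v)) * (v⁻¹ * x)⁻¹ := by group
      rw [e]
      exact hS _ _ hx2
    · have e : (v * x⁻¹ * v)⁻¹ * (v * v) = v⁻¹ * x * v⁻¹⁻¹ := by group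
      rw [e]
      exact hS _ _ hxS
  · intro x _
    show v * (v * x⁻¹ * v)⁻¹ * v = x
    group

end Cfsg.Agent.Lib.helper72.B22
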