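/-
helper72: S5005 piece C2 (`cnt_comm`, `cnt_inv`): conjugation by a commuting involution `q` on
`{x ∈ S | x⁻¹ * z ∈ S}`; for `z` of even order the map `x ↦ x * q` (`q` the involution of `⟨z⟩`)
is a fixed-point-free involution on the pairs of involutions with product `z`.
-/
import Mathlib
import Cfsg.Agent.Lib.helper9.B22Defs
import Cfsg.Agent.Lib.helper72.B22_C1

set_option autoImplicit false

namespace Cfsg.Agent.Lib.helper72.B22

open Cfsg Cfsg.Agent.Lib.helper9.B22

universe u

variable {G : Type u} [Group G] [Fintype G] [DecidableEq G]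

theorem cnt_comm (S : Finset G) (hS : ∀ g x : G, x ∈ S → g * x * g⁻¹ ∈ S) (q z : G)
    (hq : q * q = 1) (hqz : q * z = z * q) :
    ((cnt S S z : ℕ) : ZMod 2)
      = (((S.filter (fun x => x * q = q * x ∧ x⁻¹ * z ∈ S)).card : ℕ) : ZMod 2) := by
  unfold cnt
  have qinv : q⁻¹ = q := inv_eq_of_mul_eq_one_left hq
  rw [h72_card_involution (S.filter (fun x => x⁻¹ * z ∈ S)) (fun x => q * x * q⁻¹) ?_ ?_]
  · congr 2
    rw [Finset.filter_filter]
    apply Finset.filter_congr
    intro x _
    constructor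
    · rintro ⟨h1, h2⟩
      have h2' : q * x * q⁻¹ = x := h2
      refine ⟨?_, h1⟩
      calc x * q = (q * x * q⁻¹) * q := by rw [h2']
        _ = q * x := by group
    · rintro ⟨h1, h2⟩
      refine ⟨h2, ?_⟩
      show q * x * q⁻¹ = x
      rw [← h1]; group
  · intro x hx
    rw [Finset.mem_filter] at hx ⊢
    refine ⟨hS q x hx.1, ?_⟩
    have h1 : q⁻¹ * z = z * q⁻¹ := by rw [qinv]; exact hqz
    have e : (q * x * q⁻¹)⁻¹ * z = q * (x⁻¹ * z) * q⁻¹ := by
      calc (q * x * q⁻¹)⁻¹ * z = q * x⁻¹ * (q⁻¹ * z) := by group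
        _ = q * x⁻¹ * (z * q⁻¹) := by rw [h1]
        _ = q * (x⁻¹ * z) * q⁻¹ := by group
    rw [e]
    exact hS q _ hx.2
  · intro x _
    show q * (q * x * q⁻¹) * q⁻¹ = x
    rw [qinv]
    calc q * (q * x * q) * q = (q * q) * x * (q * q) := by group
      _ = x := by rw [hq, one_mul, mul_one]

theorem cnt_inv (z : G) (hz : Even (orderOf z)) :
    ((cnt (ordF G 2) (ordF G 2) z : ℕ) : ZMod 2) = 0 := by
  unfold cnt
  have ho : 0 < orderOf z := orderOf_pos z
  obtain ⟨m, hm⟩ := hz
  have hm0 : 0 < m := by omega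
  obtain ⟨q, hqdef⟩ : ∃ q : G, q = z ^ m := ⟨_, rfl⟩
  have hqq : q * q = 1 := by rw [hqdef, ← pow_add, ← hm, pow_orderOf_eq_one]
  have hq1 : q ≠ 1 := by
    intro h
    rw [hqdef] at h
    have h1 := orderOf_dvd_of_pow_eq_one h
    have h2 := Nat.le_of_dvd hm0 h1
    omega
  have qinv : q⁻¹ = q := inv_eq_of_mul_eq_one_left hqq
  have hqz : q * z = z * q := by rw [hqdef, ← pow_succ, ← pow_succ']
  have hmem : ∀ x : G, x ∈ (ordF G 2).filter (fun x => x⁻¹ * z ∈ ordF G 2) ↔
      orderOf x = 2 ∧ orderOf (x⁻¹ * z) = 2 := by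
    intro x
    simp only [ordF, Finset.mem_filter, Finset.mem_univ, true_and]
  -- the key facts
  have key : ∀ x : G, orderOf x = 2 → orderOf (x⁻¹ * z) = 2 →
      x * x = 1 ∧ x * q = q * x ∧ x ≠ q ∧ z ≠ x * q := by
    intro x hx hxz
    have hx2 : x * x = 1 := by rw [← pow_two, ← hx, pow_orderOf_eq_one]
    have xinv : x⁻¹ = x := inv_eq_of_mul_eq_one_left hx2
    have hxz2 : (x⁻¹ * z) * (x⁻¹ * z) = 1 := by rw [← pow_two, ← hxz, pow_orderOf_eq_one]
    rw [xinv] at hxz2
    have hconj : x * z * x⁻¹ = z⁻¹ := by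
      rw [xinv]
      exact eq_inv_of_mul_eq_one_left (by rw [← hxz2]; group)
    have hconjq : x * q * x⁻¹ = q := by
      rw [hqdef, ← conj_pow, hconj, inv_pow, ← hqdef, qinv]
    have hcomm : x * q = q * x := by
      calc x * q = (x * q * x⁻¹) * x := by group
        _ = q * x := by rw [hconjq]
    -- if `x` commutes with `z` then `q = z`
    have hcz : x * z = z * x → q = z := by
      intro h
      have h1 : z = z⁻¹ := by
        rw [← hconj, h, mul_inv_cancel_right]
      have hzz : z ^ 2 = 1 := by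
        rw [pow_two]
        nth_rewrite 1 [h1]
        exact inv_mul_cancel z
      have hd : orderOf z ∣ 2 := orderOf_dvd_of_pow_eq_one hzz
      have hm1 : m = 1 := by
        have := Nat.le_of_dvd (by norm_num) hd
        omega
      rw [hqdef, hm1, pow_one]
    refine ⟨hx2, hcomm, ?_, ?_⟩
    · intro hxq
      have h1 : q = z := hcz (by rw [hxq]; exact hqz)
      rw [hxq, h1, inv_mul_cancel, orderOf_one] at hxz
      exact absurd hxz (by norm_num)
    · intro hzx
      have h0 : x * z = z * x := by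
        rw [hzx, ← mul_assoc, hx2, one_mul, mul_assoc, ← hcomm, ← mul_assoc, hx2, one_mul]
      have h1 : q = z := hcz h0
      rw [h1] at hzx
      have h2 : x = 1 := by
        have h3 : x * z = 1 * z := by rw [one_mul]; exact hzx.symm
        exact mul_right_cancel h3
      rw [h2, orderOf_one] at hx
      exact absurd hx (by norm_num)
  have h1 : ∑ x ∈ (ordF G 2).filter (fun x => x⁻¹ * z ∈ ordF G 2), (1 : ZMod 2) = 0 := by
    apply Finset.sum_involution (fun x _ => x * q)
    · intro a _
      exact (by decide : (1 : ZMod 2) + 1 = 0)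
    · intro a _ _ h
      exact hq1 (mul_eq_left.mp h)
    · intro a ha
      rw [hmem] at ha ⊢
      obtain ⟨ha2, hcomm, hne1, hne2⟩ := key a ha.1 ha.2
      have ainv : a⁻¹ = a := inv_eq_of_mul_eq_one_left ha2
      have := Fact.mk Nat.prime_two
      constructor
      · apply orderOf_eq_prime
        · rw [pow_two]
          calc a * q * (a * q) = a * (q * a) * q := by group
            _ = a * (a * q) * q := by rw [hcomm]
            _ = (a * a) * (q * q) := by group
            _ = 1 := by rw [ha2, hqq, one_mul]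
        · intro h
          apply hne1
          have h3 : a = q⁻¹ := eq_inv_of_mul_eq_one_left h
          rw [h3, qinv]
      · have haz2 : (a⁻¹ * z) * (a⁻¹ * z) = 1 := by
          rw [← pow_two, ← ha.2, pow_orderOf_eq_one]
        apply orderOf_eq_prime
        · rw [pow_two, mul_inv_rev, qinv]
          have hc2 : a⁻¹ * q = q * a⁻¹ := by rw [ainv]; exact hcomm
          calc q * a⁻¹ * z * (q * a⁻¹ * z) = q * (a⁻¹ * (z * q)) * (a⁻¹ * z) := by group
            _ = q * (a⁻¹ * (q * z)) * (a⁻¹ * z) := by rw [hqz]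
            _ = q * ((a⁻¹ * q) * z) * (a⁻¹ * z) := by group
            _ = q * ((q * a⁻¹) * z) * (a⁻¹ * z) := by rw [hc2]
            _ = (q * q) * ((a⁻¹ * z) * (a⁻¹ * z)) := by group
            _ = 1 := by rw [hqq, haz2, one_mul]
        · intro h
          apply hne2
          rw [mul_inv_rev, qinv, ainv] at h
          -- q * a * z = 1
          have h3 : z = (q * a)⁻¹ := eq_inv_of_mul_eq_one_right h
          rw [h3, mul_inv_rev, ainv, qinv]
    · intro a _
      show a * q * q = a
      rw [mul_assoc, hqq, mul_one]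
  rw [Finset.sum_const, nsmul_eq_mul, mul_one] at h1
  exact h1

end Cfsg.Agent.Lib.helper72.B22
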