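/-
helper72: S5005 piece C3 (`sq_conj`, `sq_inv`): invariance of
`sq S v = #{a | a * a = 1 ∧ a * v ∈ S}` under conjugation and inversion of `v`.
-/
import Mathlib
import Cfsg.Agent.Lib.helper9.B22Defs

set_option autoImplicit false

namespace Cfsg.Agent.Lib.helper72.B22

open Cfsg Cfsg.Agent.Lib.helper9.B22

universe u

variable {G : Type u} [Group G] [Fintype G] [DecidableEq G]

theorem sq_conj (S : Finset G) (hS : ∀ g x : G, x ∈ S → g * x * g⁻¹ ∈ S) (g v : G) :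
    sq S (g * v * g⁻¹) = sq S v := by
  unfold Cfsg.Agent.Lib.helper9.B22.sq
  refine Finset.card_bij' (fun a _ => g⁻¹ * a * g) (fun a _ => g * a * g⁻¹) ?_ ?_ ?_ ?_
  · intro a ha
    rw [Finset.mem_filter] at ha ⊢
    obtain ⟨_, ha2, haS⟩ := ha
    refine ⟨Finset.mem_univ _, ?_, ?_⟩
    · calc g⁻¹ * a * g * (g⁻¹ * a * g) = g⁻¹ * (a * a) * g := by group
        _ = 1 := by rw [ha2]; group
    · have e : g⁻¹ * a * g * v = g⁻¹ * (a * (g * v * g⁻¹)) * g⁻¹⁻¹ := by group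
      rw [e]
      exact hS _ _ haS
  · intro a ha
    rw [Finset.mem_filter] at ha ⊢
    obtain ⟨_, ha2, haS⟩ := ha
    refine ⟨Finset.mem_univ _, ?_, ?_⟩
    · calc g * a * g⁻¹ * (g * a * g⁻¹) = g * (a * a) * g⁻¹ := by group
        _ = 1 := by rw [ha2]; group
    · have e : g * a * g⁻¹ * (g * v * g⁻¹) = g * (a * v) * g⁻¹ := by group
      rw [e]
      exact hS _ _ haS
  · intro a _
    show g * (g⁻¹ * a * g) * g⁻¹ = a
    group
  · intro a _
    show g⁻¹ * (g * a * g⁻¹) * g = a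
    group

theorem sq_inv (S : Finset G) (hS : ∀ g x : G, x ∈ S → g * x * g⁻¹ ∈ S)
    (hSi : ∀ x ∈ S, x⁻¹ ∈ S) (v : G) : sq S v⁻¹ = sq S v := by
  unfold Cfsg.Agent.Lib.helper9.B22.sq
  congr 1
  apply Finset.filter_congr
  intro a _
  constructor
  · rintro ⟨ha2, haS⟩
    refine ⟨ha2, ?_⟩
    have ainv : a⁻¹ = a := inv_eq_of_mul_eq_one_left ha2
    have h1 := hS v⁻¹ _ (hSi _ haS)
    have e : v⁻¹ * (a * v⁻¹)⁻¹ * v⁻¹⁻¹ = a * v := by
      rw [mul_inv_rev, ainv]; group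
    rwa [e] at h1
  · rintro ⟨ha2, haS⟩
    refine ⟨ha2, ?_⟩
    have ainv : a⁻¹ = a := inv_eq_of_mul_eq_one_left ha2
    have h1 := hS v _ (hSi _ haS)
    have e : v * (a * v)⁻¹ * v⁻¹ = a * v⁻¹ := by
      rw [mul_inv_rev, ainv]; group
    rwa [e] at h1

end Cfsg.Agent.Lib.helper72.B22
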