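import Mathlib

set_option autoImplicit false

namespace Cfsg.Agent.Lib.helper72.SylAlt

open Equiv

/-- The subgroup of all permutations acting like some `h₁ ∈ P` on `Y` and like some `h₂ ∈ P`
off `Y` (for a `P`-invariant set `Y`). -/
def mixSubgroup {Ω : Type} [Fintype Ω] [DecidableEq Ω] (P : Subgroup (Perm Ω)) (Y : Finset Ω)
    (hY : ∀ g ∈ P, ∀ a, g a ∈ Y ↔ a ∈ Y) : Subgroup (Perm Ω) where
  carrier := {σ | ∃ h₁ ∈ P, ∃ h₂ ∈ P, ∀ a, σ a = if a ∈ Y then h₁ a else h₂ a}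
  one_mem' := ⟨1, P.one_mem, 1, P.one_mem, fun a => by simp⟩
  mul_mem' := by
    rintro σ τ ⟨h₁, hh₁, h₂, hh₂, hσ⟩ ⟨k₁, hk₁, k₂, hk₂, hτ⟩
    refine ⟨h₁ * k₁, P.mul_mem hh₁ hk₁, h₂ * k₂, P.mul_mem hh₂ hk₂, fun a => ?_⟩
    by_cases ha : a ∈ Y
    · have h1 : k₁ a ∈ Y := (hY k₁ hk₁ a).mpr ha
      simp [Perm.mul_apply, hτ a, hσ (k₁ a), ha, h1]
    · have h1 : k₂ a ∉ Y := fun h => ha ((hY k₂ hk₂ a).mp h)
      simp [Perm.mul_apply, hτ a, hσ (k₂ a), ha, h1]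
  inv_mem' := by
    rintro σ ⟨h₁, hh₁, h₂, hh₂, hσ⟩
    refine ⟨h₁⁻¹, P.inv_mem hh₁, h₂⁻¹, P.inv_mem hh₂, fun a => ?_⟩
    by_cases ha : a ∈ Y
    · have h1 : h₁⁻¹ a ∈ Y := (hY h₁⁻¹ (P.inv_mem hh₁) a).mpr ha
      rw [if_pos ha, Perm.inv_eq_iff_eq, hσ (h₁⁻¹ a), if_pos h1]
      simp
    · have h1 : h₂⁻¹ a ∉ Y := fun h => ha ((hY h₂⁻¹ (P.inv_mem hh₂) a).mp h)
      rw [if_neg ha, Perm.inv_eq_iff_eq, hσ (h₂⁻¹ a), if_neg h1]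
      simp

theorem mix_pow {Ω : Type} [Fintype Ω] [DecidableEq Ω] (P : Subgroup (Perm Ω)) (Y : Finset Ω)
    (hY : ∀ g ∈ P, ∀ a, g a ∈ Y ↔ a ∈ Y) (σ h₁ h₂ : Perm Ω) (hh₁ : h₁ ∈ P) (hh₂ : h₂ ∈ P)
    (hσ : ∀ a, σ a = if a ∈ Y then h₁ a else h₂ a) (n : ℕ) :
    ∀ a, (σ ^ n) a = if a ∈ Y then (h₁ ^ n) a else (h₂ ^ n) a := by
  induction n with
  | zero => intro a; simp
  | succ n ih =>
    intro a
    by_cases ha : a ∈ Y
    · have h1 : h₁ a ∈ Y := (hY h₁ hh₁ a).mpr ha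
      rw [pow_succ, Perm.mul_apply, hσ a, if_pos ha, ih (h₁ a), if_pos h1, if_pos ha, pow_succ,
        Perm.mul_apply]
    · have h1 : h₂ a ∉ Y := fun h => ha ((hY h₂ hh₂ a).mp h)
      rw [pow_succ, Perm.mul_apply, hσ a, if_neg ha, ih (h₂ a), if_neg h1, if_neg ha, pow_succ,
        Perm.mul_apply]

/-- PIECE B of S2221: a Sylow 2-subgroup of `Perm Ω` is closed under restriction to an invariant
subset. -/
theorem restrict_mem {Ω : Type} [Fintype Ω] [DecidableEq Ω] (P : Subgroup (Perm Ω))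
    (hP2 : IsPGroup 2 P)
    (hcard : Nat.card P = 2 ^ ((Fintype.card Ω).factorial.factorization 2))
    (Y : Finset Ω) (hY : ∀ g ∈ P, ∀ a, g a ∈ Y ↔ a ∈ Y) (g : Perm Ω) (hg : g ∈ P) :
    ∃ y ∈ P, (∀ a ∈ Y, y a = g a) ∧ (∀ a, a ∉ Y → y a = a) := by
  classical
  have : Fact (Nat.Prime 2) := ⟨Nat.prime_two⟩
  set R : Subgroup (Perm Ω) := mixSubgroup P Y hY with hR
  have hPR : P ≤ R := fun h hh => ⟨h, hh, h, hh, fun a => by simp⟩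
  have hR2 : IsPGroup 2 R := by
    rintro ⟨σ, h₁, hh₁, h₂, hh₂, hσ⟩
    obtain ⟨k₁, hk₁⟩ := hP2 ⟨h₁, hh₁⟩
    obtain ⟨k₂, hk₂⟩ := hP2 ⟨h₂, hh₂⟩
    have e1 : h₁ ^ 2 ^ k₁ = 1 := congrArg Subtype.val hk₁
    have e2 : h₂ ^ 2 ^ k₂ = 1 := congrArg Subtype.val hk₂
    have e1' : h₁ ^ 2 ^ (k₁ + k₂) = 1 := by rw [pow_add, pow_mul, e1, one_pow]
    have e2' : h₂ ^ 2 ^ (k₁ + k₂) = 1 := by rw [pow_add, mul_comm, pow_mul, e2, one_pow]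
    refine ⟨k₁ + k₂, Subtype.ext ?_⟩
    show σ ^ 2 ^ (k₁ + k₂) = 1
    ext a
    rw [mix_pow P Y hY σ h₁ h₂ hh₁ hh₂ hσ (2 ^ (k₁ + k₂)) a, e1', e2']
    simp
  have hRcard : Nat.card R ≤ Nat.card P := by
    obtain ⟨e, he⟩ := IsPGroup.iff_card.mp hR2
    have hdvd : Nat.card R ∣ Nat.card (Perm Ω) := Subgroup.card_subgroup_dvd_card R
    have hperm : Nat.card (Perm Ω) = (Fintype.card Ω).factorial := by
      rw [Nat.card_eq_fintype_card, Fintype.card_perm]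
    rw [hperm, he] at hdvd
    have hle : e ≤ (Fintype.card Ω).factorial.factorization 2 :=
      (Nat.Prime.pow_dvd_iff_le_factorization Nat.prime_two (Nat.factorial_ne_zero _)).mp hdvd
    rw [he, hcard]
    exact Nat.pow_le_pow_right (by norm_num) hle
  have hEq : P = R := Subgroup.eq_of_le_of_card_ge hPR hRcard
  have hgY : ∀ a, g a ∈ Y ↔ a ∈ Y := hY g hg
  refine ⟨Perm.ofSubtype (g.subtypePerm hgY), ?_, ?_, ?_⟩
  · rw [hEq]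
    refine ⟨g, hg, 1, P.one_mem, fun a => ?_⟩
    by_cases ha : a ∈ Y
    · rw [if_pos ha]
      exact Perm.ofSubtype_subtypePerm_of_mem hgY ha
    · rw [if_neg ha]
      exact Perm.ofSubtype_subtypePerm_of_not_mem hgY ha
  · intro a ha
    exact Perm.ofSubtype_subtypePerm_of_mem hgY ha
  · intro a ha
    exact Perm.ofSubtype_subtypePerm_of_not_mem hgY ha

end Cfsg.Agent.Lib.helper72.SylAlt
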