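/-
helper72: S4330 piece GRP-B2, core (`le_pCore_of_conj_pgroup_of`): the induction on `|G|`,
with the key step (GRP-B1) as an explicit hypothesis.
-/
import Mathlib
import Cfsg.Prelude.Def_Solvable
import Cfsg.Agent.Lib.helper38.RO1
import Cfsg.Agent.Lib.helper27.Radical

set_option autoImplicit false
open Pointwise

namespace Cfsg.Agent.Lib.helper72.RO

universe u

/-- The image of a conjugate subgroup is the conjugate of the image. -/
theorem map_conj_smul {G G' : Type*} [Group G] [Group G'] (f : G →* G') (g : G)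
    (A : Subgroup G) : (MulAut.conj g • A).map f = MulAut.conj (f g) • A.map f := by
  ext x
  constructor
  · rintro ⟨y, hy, rfl⟩
    obtain ⟨a, ha, rfl⟩ := (Subgroup.mem_smul_pointwise_iff_exists _ _ _).1 hy
    refine (Subgroup.mem_smul_pointwise_iff_exists _ _ _).2 ⟨f a, ⟨a, ha, rfl⟩, ?_⟩
    simp [MulAut.smul_def, MulAut.conj_apply]
  · intro hx
    obtain ⟨b, ⟨a, ha, rfl⟩, rfl⟩ := (Subgroup.mem_smul_pointwise_iff_exists _ _ _).1 hx
    exact ⟨MulAut.conj g • a, Subgroup.smul_mem_pointwise_smul _ _ _ ha,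
      by simp [MulAut.smul_def, MulAut.conj_apply]⟩

/-- The hypothesis `H` passes to quotients (indeed to any surjective image). -/
theorem conj_hyp_map {G G' : Type*} [Group G] [Group G'] (p : ℕ) (f : G →* G')
    (hf : Function.Surjective f) (A : Subgroup G)
    (H : ∀ c : G, ∃ g : G, IsConj c g ∧ IsPGroup p ↥(A ⊔ MulAut.conj g • A)) :
    ∀ c : G', ∃ g : G', IsConj c g ∧ IsPGroup p ↥(A.map f ⊔ MulAut.conj g • A.map f) := by
  intro c'
  obtain ⟨c, rfl⟩ := hf c'
  obtain ⟨g, hcg, hP⟩ := H c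
  refine ⟨f g, f.map_isConj hcg, ?_⟩
  rw [← map_conj_smul, ← Subgroup.map_sup]
  exact hP.map f

/-- The preimage of `O_p(G/N)` consists of elements with a `p`-power in `N`. -/
theorem pow_mem_of_mem_comap_pCore {G : Type*} [Group G] [Finite G] (p : ℕ)
    (N : Subgroup G) [N.Normal] (k : G)
    (hk : k ∈ (Cfsg.pCore p (G ⧸ N)).comap (QuotientGroup.mk' N)) :
    ∃ j : ℕ, k ^ (p ^ j) ∈ N := by
  rw [Subgroup.mem_comap] at hk
  obtain ⟨j, hj⟩ := (Cfsg.Agent.Lib.helper27.pCore_isPGroup (G := G ⧸ N) p) ⟨_, hk⟩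
  refine ⟨j, ?_⟩
  have h1 := congrArg Subtype.val hj
  simp only [Subgroup.coe_pow, Subgroup.coe_one] at h1
  rw [← QuotientGroup.eq_one_iff]
  rw [QuotientGroup.mk_pow]
  exact h1

theorem card_quotient_lt {G : Type*} [Group G] [Finite G] (N : Subgroup G) [N.Normal]
    (hN : N ≠ ⊥) : Nat.card (G ⧸ N) < Nat.card G := by
  have h1 := Subgroup.card_eq_card_quotient_mul_card_subgroup N
  have h2 : 1 < Nat.card N := (Subgroup.one_lt_card_iff_ne_bot N).2 hN
  have h3 : 0 < Nat.card (G ⧸ N) := Nat.card_pos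
  nlinarith

/-- A nontrivial finite solvable group has a nontrivial abelian normal subgroup. -/
theorem exists_abelian_normal {G : Type*} [Group G] [Nontrivial G] (hG : Group.IsSolvable G) :
    ∃ Mn : Subgroup G, Mn.Normal ∧ Mn ≠ ⊥ ∧ ∀ a ∈ Mn, ∀ b ∈ Mn, a * b = b * a := by
  classical
  have hex : ∃ n, derivedSeries G n = ⊥ := hG.solvable
  have h0 : Nat.find hex ≠ 0 := by
    intro h0
    have h1 := Nat.find_spec hex
    rw [h0, derivedSeries_zero] at h1
    exact top_ne_bot h1
  obtain ⟨k, hk⟩ := Nat.exists_eq_succ_of_ne_zero h0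
  refine ⟨derivedSeries G k, inferInstance, ?_, ?_⟩
  · exact Nat.find_min hex (by omega)
  · have h1 := Nat.find_spec hex
    rw [hk, derivedSeries_succ, Subgroup.commutator_eq_bot_iff_le_centralizer] at h1
    intro a ha b hb
    have h2 := h1 ha
    rw [Subgroup.mem_centralizer_iff] at h2
    exact (h2 b hb).symm

/-- GRP-B2 with the key step as a hypothesis. -/
theorem le_pCore_of_conj_pgroup_of (p : ℕ) [Fact p.Prime]
    (hkey : ∀ (G : Type u) [Group G] [Finite G], Cfsg.pCore p G = ⊥ →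
      ∀ (Mn K : Subgroup G) [Mn.Normal] [K.Normal], (∀ a ∈ Mn, ∀ b ∈ Mn, a * b = b * a) →
        Mn ≤ K → (∀ k ∈ K, ∃ j : ℕ, k ^ (p ^ j) ∈ Mn) →
        ∀ A : Subgroup G, IsPGroup p A → A ≤ K →
          (∀ c : G, ∃ g : G, IsConj c g ∧ IsPGroup p ↥(A ⊔ MulAut.conj g • A)) → A = ⊥) :
    ∀ (n : ℕ) (G : Type u) [Group G] [Finite G], Nat.card G = n → Group.IsSolvable G →
      ∀ A : Subgroup G, IsPGroup p A →
        (∀ c : G, ∃ g : G, IsConj c g ∧ IsPGroup p ↥(A ⊔ MulAut.conj g • A)) →
        A ≤ Cfsg.pCore p G := by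
  intro n
  induction n using Nat.strong_induction_on with
  | _ n ih =>
    intro G _ _ hn hG A hA H
    by_cases hO : Cfsg.pCore p G = ⊥
    · -- `O_p(G) = 1`
      by_cases hGt : Nontrivial G
      · obtain ⟨Mn, hMn, hMne, hMab⟩ := exists_abelian_normal hG
        have hlt : Nat.card (G ⧸ Mn) < n := hn ▸ card_quotient_lt Mn hMne
        have hsol : Group.IsSolvable (G ⧸ Mn) := inferInstance
        have hle := ih _ hlt (G ⧸ Mn) rfl hsol (A.map (QuotientGroup.mk' Mn))
          (hA.map _) (conj_hyp_map p _ (QuotientGroup.mk'_surjective Mn) A H)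
        have hK : ((Cfsg.pCore p (G ⧸ Mn)).comap (QuotientGroup.mk' Mn)).Normal :=
          inferInstance
        have hMK : Mn ≤ (Cfsg.pCore p (G ⧸ Mn)).comap (QuotientGroup.mk' Mn) := by
          intro m hm
          rw [Subgroup.mem_comap]
          have : (QuotientGroup.mk' Mn) m = 1 := (QuotientGroup.eq_one_iff m).2 hm
          rw [this]
          exact Subgroup.one_mem _
        have hAK : A ≤ (Cfsg.pCore p (G ⧸ Mn)).comap (QuotientGroup.mk' Mn) := by
          intro a ha
          rw [Subgroup.mem_comap]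
          exact hle ⟨a, ha, rfl⟩
        have hbot := hkey G hO Mn ((Cfsg.pCore p (G ⧸ Mn)).comap (QuotientGroup.mk' Mn))
          hMab hMK (fun k hk => pow_mem_of_mem_comap_pCore p Mn k hk) A hA hAK H
        rw [hbot]
        exact bot_le
      · rw [not_nontrivial_iff_subsingleton] at hGt
        intro a _
        rw [Subsingleton.elim a 1]
        exact Subgroup.one_mem _
    · -- `O_p(G) ≠ 1`: pass to `G / O_p(G)`
      have hOn : (Cfsg.pCore p G).Normal := inferInstance
      have hlt : Nat.card (G ⧸ Cfsg.pCore p G) < n := hn ▸ card_quotient_lt _ hO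
      have hsol : Group.IsSolvable (G ⧸ Cfsg.pCore p G) := inferInstance
      have hle := ih _ hlt (G ⧸ Cfsg.pCore p G) rfl hsol
        (A.map (QuotientGroup.mk' (Cfsg.pCore p G))) (hA.map _)
        (conj_hyp_map p _ (QuotientGroup.mk'_surjective _) A H)
      have hKn : ((Cfsg.pCore p (G ⧸ Cfsg.pCore p G)).comap
          (QuotientGroup.mk' (Cfsg.pCore p G))).Normal := inferInstance
      have hKp : IsPGroup p ↥((Cfsg.pCore p (G ⧸ Cfsg.pCore p G)).comap
          (QuotientGroup.mk' (Cfsg.pCore p G))) := by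
        intro k
        obtain ⟨j, hj⟩ := pow_mem_of_mem_comap_pCore p (Cfsg.pCore p G) k.1 k.2
        obtain ⟨i, hi⟩ := (Cfsg.Agent.Lib.helper27.pCore_isPGroup (G := G) p) ⟨_, hj⟩
        refine ⟨j + i, ?_⟩
        apply Subtype.ext
        have h1 := congrArg Subtype.val hi
        simp only [Subgroup.coe_pow, Subgroup.coe_one] at h1 ⊢
        rw [pow_add, pow_mul]
        exact h1
      have hKle := Cfsg.Agent.Lib.helper27.normal_pGroup_le_pCore p _ hKp
      intro a ha
      apply hKle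
      rw [Subgroup.mem_comap]
      exact hle ⟨a, ha, rfl⟩

end Cfsg.Agent.Lib.helper72.RO
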