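/-
helper72: S4306 piece QUOT (`PQSetup.quot`): the internal setting passes to quotients by normal
subgroups inside `N`.
-/
import Mathlib
import Cfsg.Agent.Lib.helper75.PQDefs
import Cfsg.Agent.Lib.helper1.Coprime

set_option autoImplicit false

namespace Cfsg.Agent.Lib.helper75.PQ

/-- Every element of `K ⊔ H` is a product `k * h` when `H` normalizes `K`. -/
theorem h72_mem_sup_of_normalizer {Γ : Type*} [Group Γ] (K H : Subgroup Γ)
    (hHK : H ≤ Subgroup.normalizer (K : Set Γ)) (a : Γ) (ha : a ∈ K ⊔ H) :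
    ∃ k ∈ K, ∃ h ∈ H, a = k * h := by
  have hnorm : ∀ h ∈ H, ∀ k ∈ K, h * k * h⁻¹ ∈ K := fun h hh k hk =>
    (Subgroup.mem_normalizer_iff.mp (hHK hh) k).mp hk
  let T : Subgroup Γ :=
    { carrier := {a | ∃ k ∈ K, ∃ h ∈ H, a = k * h}
      one_mem' := ⟨1, K.one_mem, 1, H.one_mem, by simp⟩
      mul_mem' := by
        rintro _ _ ⟨k, hk, h, hh, rfl⟩ ⟨k', hk', h', hh', rfl⟩
        exact ⟨k * (h * k' * h⁻¹), K.mul_mem hk (hnorm h hh k' hk'), h * h', H.mul_mem hh hh',
          by group⟩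
      inv_mem' := by
        rintro _ ⟨k, hk, h, hh, rfl⟩
        refine ⟨h⁻¹ * k⁻¹ * h, ?_, h⁻¹, H.inv_mem hh, by group⟩
        have := hnorm h⁻¹ (H.inv_mem hh) k⁻¹ (K.inv_mem hk)
        rwa [inv_inv] at this }
  have hle : K ⊔ H ≤ T := by
    apply sup_le
    · intro k hk
      exact ⟨k, hk, 1, H.one_mem, by simp⟩
    · intro h hh
      exact ⟨1, K.one_mem, h, hh, by simp⟩
  exact hle ha

/-- Every element of `K ⊔ H` has order dividing `p * q`. -/
theorem h72_pow_eq_one_of_mem_sup {Γ : Type*} [Group Γ] [Finite Γ] {K H : Subgroup Γ} {p q : ℕ}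
    (hF : FrobPQ K H p q) (a : Γ) (ha : a ∈ K ⊔ H) : a ^ (p * q) = 1 := by
  have hnorm : ∀ h ∈ H, ∀ k ∈ K, h * k * h⁻¹ ∈ K := fun h hh k hk =>
    (Subgroup.mem_normalizer_iff.mp (hF.HK hh) k).mp hk
  obtain ⟨k, hk, h, hh, rfl⟩ := h72_mem_sup_of_normalizer K H hF.HK a ha
  have hpow : ∀ n : ℕ, ∃ k' ∈ K, (k * h) ^ n = k' * h ^ n := by
    intro n
    induction n with
    | zero => exact ⟨1, K.one_mem, by simp⟩
    | succ n ih =>
      obtain ⟨k', hk', he⟩ := ih
      refine ⟨k' * (h ^ n * k * (h ^ n)⁻¹), K.mul_mem hk' (hnorm _ (H.pow_mem hh n) k hk), ?_⟩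
      rw [pow_succ, he, pow_succ]
      group
  obtain ⟨k', hk', he⟩ := hpow q
  have hhq : h ^ q = 1 := by
    have h1 : (⟨h, hh⟩ : H) ^ Nat.card H = 1 := pow_card_eq_one'
    rw [hF.cardH] at h1
    exact congrArg Subtype.val h1
  have hkp : k' ^ p = 1 := by
    have h1 : (⟨k', hk'⟩ : K) ^ Nat.card K = 1 := pow_card_eq_one'
    rw [hF.cardK] at h1
    exact congrArg Subtype.val h1
  rw [mul_comm p q, pow_mul, he, hhq, mul_one, hkp]

theorem PQSetup.quot {Γ : Type*} [Group Γ] [Finite Γ] {N K H : Subgroup Γ} {p q : ℕ}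
    (hS : PQSetup N K H p q) (M : Subgroup Γ) [M.Normal] (hMN : M ≤ N) :
    PQSetup (N.map (QuotientGroup.mk' M)) (K.map (QuotientGroup.mk' M))
      (H.map (QuotientGroup.mk' M)) p q := by
  have hF := hS.frob
  have hp := hF.hp
  have hq := hF.hq
  have hnorm : ∀ h ∈ H, ∀ k ∈ K, h * k * h⁻¹ ∈ K := fun h hh k hk =>
    (Subgroup.mem_normalizer_iff.mp (hF.HK hh) k).mp hk
  have hcopM : (Nat.card M).Coprime (p * q) :=
    Nat.Coprime.coprime_dvd_left (Subgroup.card_dvd_of_le hMN) hS.cop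
  have hKM : K ⊓ M = ⊥ := by
    apply disjoint_iff.mp
    apply Subgroup.disjoint_of_coprime_natCard
    rw [hF.cardK]
    exact (Nat.Coprime.coprime_mul_right_right hcopM).symm
  have hHM : H ⊓ M = ⊥ := by
    apply disjoint_iff.mp
    apply Subgroup.disjoint_of_coprime_natCard
    rw [hF.cardH]
    exact (Nat.Coprime.coprime_mul_left_right hcopM).symm
  have hmk1 : ∀ x : Γ, (QuotientGroup.mk' M) x = 1 → x ∈ M := fun x hx =>
    (QuotientGroup.eq_one_iff x).mp hx
  -- a subgroup of prime order meeting `M` trivially has an image of the same order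
  have hcard : ∀ (X : Subgroup Γ) (t : ℕ), t.Prime → Nat.card X = t → X ⊓ M = ⊥ →
      Nat.card (X.map (QuotientGroup.mk' M)) = t := by
    intro X t ht hX hXM
    have hdvd := Subgroup.card_map_dvd (H := X) (QuotientGroup.mk' M)
    rw [hX] at hdvd
    rcases (Nat.dvd_prime ht).mp hdvd with h1 | h1
    · exfalso
      have hbot : X.map (QuotientGroup.mk' M) = ⊥ := Subgroup.card_eq_one.mp h1
      have hle : X ≤ M := by
        intro x hx
        have h2 : QuotientGroup.mk' M x ∈ X.map (QuotientGroup.mk' M) :=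
          Subgroup.mem_map_of_mem _ hx
        rw [hbot, Subgroup.mem_bot] at h2
        exact hmk1 x h2
      have hXbot : X = ⊥ := by
        rw [← hXM]
        exact (inf_eq_left.mpr hle).symm
      rw [hXbot, Subgroup.card_bot] at hX
      exact ht.one_lt.ne hX
    · exact h1
  refine ⟨⟨hp, hq, hF.hpq, hcard K p hp hF.cardK hKM, hcard H q hq hF.cardH hHM, ?_, ?_⟩,
    ?_, ?_, ?_, ?_⟩
  · -- the image of `H` normalizes the image of `K`
    exact (Subgroup.map_mono hF.HK).trans (Subgroup.le_normalizer_map _)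
  · -- the images do not commute
    intro hcz
    apply hF.nab
    intro k hk h hh
    have h1 := hcz _ (Subgroup.mem_map_of_mem _ hk) _ (Subgroup.mem_map_of_mem _ hh)
    have h2 : k * h * k⁻¹ * h⁻¹ ∈ M := by
      apply hmk1
      rw [map_mul, map_mul, map_mul, map_inv, map_inv, h1]
      group
    have h3 : k * h * k⁻¹ * h⁻¹ ∈ K := by
      have h4 := hnorm h hh k⁻¹ (K.inv_mem hk)
      have h5 : k * h * k⁻¹ * h⁻¹ = k * (h * k⁻¹ * h⁻¹) := by group
      rw [h5]
      exact K.mul_mem hk h4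
    have h4 : k * h * k⁻¹ * h⁻¹ ∈ K ⊓ M := ⟨h3, h2⟩
    rw [hKM, Subgroup.mem_bot] at h4
    calc k * h = (k * h * k⁻¹ * h⁻¹) * (h * k) := by group
      _ = h * k := by rw [h4, one_mul]
  · exact Subgroup.Normal.map hS.nN _ (QuotientGroup.mk'_surjective M)
  · have := hS.solv
    exact Group.isSolvable_of_surjective ((QuotientGroup.mk' M).subgroupMap_surjective N)
  · exact Nat.Coprime.coprime_dvd_left (Subgroup.card_map_dvd (H := N) _) hS.cop
  · -- fixed points lift
    rintro _ ⟨n, hn, rfl⟩ hK' hH'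
    have hAM : K ⊔ H ≤ Subgroup.normalizer (M : Set Γ) := by
      rw [Subgroup.normalizer_eq_top]
      exact le_top
    have hcop : (Nat.card ↥(K ⊔ H)).Coprime (Nat.card M) := by
      by_contra hnc
      obtain ⟨l, hl, hl1, hl2⟩ := Nat.Prime.not_coprime_iff_dvd.mp hnc
      have : Fact l.Prime := ⟨hl⟩
      obtain ⟨x, hx⟩ := exists_prime_orderOf_dvd_card' (G := ↥(K ⊔ H)) l hl1
      have h1 : (x : Γ) ^ (p * q) = 1 := h72_pow_eq_one_of_mem_sup hF x x.2
      have h2 : orderOf (x : Γ) = l := by rw [Subgroup.orderOf_coe, hx]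
      have h3 : l ∣ p * q := h2 ▸ orderOf_dvd_of_pow_eq_one h1
      have h4 : l ∣ Nat.gcd (Nat.card M) (p * q) := Nat.dvd_gcd hl2 h3
      rw [hcopM] at h4
      exact hl.one_lt.ne' (Nat.dvd_one.mp h4)
    have hMsolv : Group.IsSolvable M := by
      have := hS.solv
      exact Group.isSolvable_of_isSolvable_injective (Subgroup.inclusion_injective hMN)
    have hg : ∀ a ∈ K ⊔ H, a * n * a⁻¹ * n⁻¹ ∈ M := by
      let Z : Subgroup Γ :=
        (Subgroup.centralizer {(QuotientGroup.mk' M) n}).comap (QuotientGroup.mk' M)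
      have hKZ : K ≤ Z := by
        intro k hk
        rw [Subgroup.mem_comap, Subgroup.mem_centralizer_iff]
        intro y hy
        rw [Set.mem_singleton_iff] at hy
        rw [hy]
        exact (hK' _ (Subgroup.mem_map_of_mem _ hk)).symm
      have hHZ : H ≤ Z := by
        intro h hh
        rw [Subgroup.mem_comap, Subgroup.mem_centralizer_iff]
        intro y hy
        rw [Set.mem_singleton_iff] at hy
        rw [hy]
        exact (hH' _ (Subgroup.mem_map_of_mem _ hh)).symm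
      intro a ha
      have haZ : a ∈ Z := (sup_le hKZ hHZ) ha
      rw [Subgroup.mem_comap, Subgroup.mem_centralizer_iff] at haZ
      have h1 := haZ _ (Set.mem_singleton _)
      apply hmk1
      rw [map_mul, map_mul, map_mul, map_inv, map_inv, ← h1]
      group
    obtain ⟨c, hc, hcn⟩ := Cfsg.Agent.Lib.helper1.coset_fixed (K ⊔ H) M hAM hcop
      (Or.inr hMsolv) n hg
    rw [Subgroup.mem_centralizer_iff] at hc
    have hcN : c ∈ N := by
      have h1 : c = (c * n⁻¹) * n := by group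
      rw [h1]
      exact N.mul_mem (hMN hcn) hn
    have hc1 : c = 1 := hS.fpf c hcN
      (fun k hk => hc k (SetLike.mem_coe.mpr ((le_sup_left : K ≤ K ⊔ H) hk)))
      (fun h hh => hc h (SetLike.mem_coe.mpr ((le_sup_right : H ≤ K ⊔ H) hh)))
    rw [hc1, one_mul] at hcn
    have hnM : n ∈ M := by
      have := M.inv_mem hcn
      rwa [inv_inv] at this
    exact (QuotientGroup.eq_one_iff n).mpr hnM

end Cfsg.Agent.Lib.helper75.PQ
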