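/-
helper72: S4306 piece C6 (`frob_cz`, from Thompson's theorem `helper1.nilpotent_of_fpf_prime_aux`):
a group `H` of prime order acting fixed-point-freely on an `s`-group `S` and on an `r`-group `V`
normalized by `S` forces `S` to centralize `V`.
-/
import Mathlib
import Cfsg.Agent.Lib.helper75.PQDefs
import Cfsg.Agent.Lib.helper1.Coprime
import Cfsg.Agent.Lib.helper1.ThompsonFpf
import Cfsg.Agent.Lib.helper72.PQ_QUOT

set_option autoImplicit false

namespace Cfsg.Agent.Lib.helper75.PQ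

theorem frob_cz {Γ : Type*} [Group Γ] [Finite Γ] (S V H : Subgroup Γ) (s r q : ℕ) (hq : q.Prime)
    (hH : Nat.card H = q)
    (hS : IsPGroup s S) (hV : IsPGroup r V) (hs : s.Prime) (hr : r.Prime) (hsr : s ≠ r)
    (hHS : H ≤ Subgroup.normalizer (S : Set Γ)) (hHV : H ≤ Subgroup.normalizer (V : Set Γ))
    (hSV : S ≤ Subgroup.normalizer (V : Set Γ))
    (fS : ∀ y ∈ S, (∀ h ∈ H, h * y = y * h) → y = 1)
    (fV : ∀ v ∈ V, (∀ h ∈ H, h * v = v * h) → v = 1) : Cz S V := by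
  have : Fact q.Prime := ⟨hq⟩
  have : Fact s.Prime := ⟨hs⟩
  have : Fact r.Prime := ⟨hr⟩
  -- a generator of `H`
  have hHne : H ≠ ⊥ := by
    intro h
    rw [h, Subgroup.card_bot] at hH
    exact hq.one_lt.ne hH
  obtain ⟨⟨h0, hh0⟩, hh0ne⟩ := (Subgroup.ne_bot_iff_exists_ne_one).mp hHne
  have hz : Subgroup.zpowers (⟨h0, hh0⟩ : H) = ⊤ := zpowers_eq_top_of_prime_card (p := q) hH hh0ne
  have hgen : ∀ h ∈ H, ∃ n : ℤ, h = h0 ^ n := by
    intro h hh
    have h1 : (⟨h, hh⟩ : H) ∈ Subgroup.zpowers (⟨h0, hh0⟩ : H) := by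
      rw [hz]
      trivial
    obtain ⟨n, hn⟩ := Subgroup.mem_zpowers_iff.mp h1
    refine ⟨n, ?_⟩
    have h2 := congrArg Subtype.val hn
    simp only [Subgroup.coe_zpow] at h2
    exact h2.symm
  have hall : ∀ x : Γ, h0 * x = x * h0 → ∀ h ∈ H, h * x = x * h := by
    intro x hx h hh
    obtain ⟨n, rfl⟩ := hgen h hh
    exact ((show Commute h0 x from hx).zpow_left n).eq
  have hh0q : h0 ^ q = 1 := by
    have h1 : (⟨h0, hh0⟩ : H) ^ Nat.card H = 1 := pow_card_eq_one'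
    rw [hH] at h1
    exact congrArg Subtype.val h1
  -- the group `U = V S`
  have hVS : V ⊓ S = ⊥ := disjoint_iff.mp (IsPGroup.disjoint_of_ne r s hsr.symm V S hV hS)
  have hconjU : ∀ g : Γ, g ∈ Subgroup.normalizer (V : Set Γ) → g ∈ Subgroup.normalizer (S : Set Γ) →
      ∀ u ∈ V ⊔ S, g * u * g⁻¹ ∈ V ⊔ S := by
    intro g hgV hgS u hu
    obtain ⟨v, hv, y, hy, rfl⟩ := h72_mem_sup_of_normalizer V S hSV u hu
    have h1 : g * (v * y) * g⁻¹ = (g * v * g⁻¹) * (g * y * g⁻¹) := by group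
    rw [h1]
    exact Subgroup.mul_mem_sup ((Subgroup.mem_normalizer_iff.mp hgV v).mp hv)
      ((Subgroup.mem_normalizer_iff.mp hgS y).mp hy)
  have hh0U : h0 ∈ Subgroup.normalizer ((V ⊔ S : Subgroup Γ) : Set Γ) := by
    rw [Subgroup.mem_normalizer_iff]
    intro u
    constructor
    · exact hconjU h0 (hHV hh0) (hHS hh0) u
    · intro hu
      have h1 := hconjU h0⁻¹ (hHV (H.inv_mem hh0)) (hHS (H.inv_mem hh0)) _ hu
      have h2 : h0⁻¹ * (h0 * u * h0⁻¹) * h0⁻¹⁻¹ = u := by group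
      rwa [h2] at h1
  let φ : ↥(V ⊔ S) ≃* ↥(V ⊔ S) :=
    Cfsg.Agent.Lib.helper1.conjEquivOfMemNormalizer (V ⊔ S) h0 hh0U
  have hφ : ∀ u : ↥(V ⊔ S), ((φ u : ↥(V ⊔ S)) : Γ) = h0 * u * h0⁻¹ := fun u => rfl
  have hfpf : ∀ u : ↥(V ⊔ S), φ u = u → u = 1 := by
    intro u hu
    have hu' : h0 * (u : Γ) * h0⁻¹ = u := by
      rw [← hφ u, hu]
    obtain ⟨v, hv, y, hy, hvy⟩ := h72_mem_sup_of_normalizer V S hSV (u : Γ) u.2
    rw [hvy] at hu'
    have hv' : h0 * v * h0⁻¹ ∈ V := (Subgroup.mem_normalizer_iff.mp (hHV hh0) v).mp hv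
    have hy' : h0 * y * h0⁻¹ ∈ S := (Subgroup.mem_normalizer_iff.mp (hHS hh0) y).mp hy
    have h1 : v⁻¹ * (h0 * v * h0⁻¹) = y * (h0 * y * h0⁻¹)⁻¹ := by
      have h2 : (h0 * v * h0⁻¹) * (h0 * y * h0⁻¹) = v * y := by
        rw [← hu']
        group
      calc v⁻¹ * (h0 * v * h0⁻¹) = v⁻¹ * ((h0 * v * h0⁻¹) * (h0 * y * h0⁻¹)) * (h0 * y * h0⁻¹)⁻¹ := by
            group
        _ = y * (h0 * y * h0⁻¹)⁻¹ := by rw [h2]; group
    have h3 : v⁻¹ * (h0 * v * h0⁻¹) ∈ V ⊓ S := by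
      refine ⟨V.mul_mem (V.inv_mem hv) hv', ?_⟩
      rw [h1]
      exact S.mul_mem hy (S.inv_mem hy')
    rw [hVS, Subgroup.mem_bot] at h3
    have h4 : y * (h0 * y * h0⁻¹)⁻¹ = 1 := by rw [← h1, h3]
    have hv1 : v = 1 := by
      apply fV v hv
      apply hall
      have h5 : h0 * v * h0⁻¹ = v := by
        have := congrArg (fun t => v * t) h3
        simpa using this
      calc h0 * v = (h0 * v * h0⁻¹) * h0 := by group
        _ = v * h0 := by rw [h5]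
    have hy1 : y = 1 := by
      apply fS y hy
      apply hall
      have h5 : h0 * y * h0⁻¹ = y := by
        have h6 : y = h0 * y * h0⁻¹ := mul_inv_eq_one.mp h4
        exact h6.symm
      calc h0 * y = (h0 * y * h0⁻¹) * h0 := by group
        _ = y * h0 := by rw [h5]
    apply Subtype.ext
    rw [hvy, hv1, hy1]
    simp
  have hiter : ∀ (n : ℕ) (u : ↥(V ⊔ S)), (((⇑φ)^[n] u : ↥(V ⊔ S)) : Γ) = h0 ^ n * u * (h0 ^ n)⁻¹ := by
    intro n
    induction n with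
    | zero => intro u; simp
    | succ n ih =>
      intro u
      rw [Function.iterate_succ_apply', hφ, ih, pow_succ']
      group
  have hφq : ∀ u : ↥(V ⊔ S), (⇑φ)^[q] u = u := by
    intro u
    apply Subtype.ext
    rw [hiter, hh0q]
    simp
  have hnil : Group.IsNilpotent ↥(V ⊔ S) :=
    Cfsg.Agent.Lib.helper1.nilpotent_of_fpf_prime_aux q hq (Nat.card ↥(V ⊔ S)) ↥(V ⊔ S) rfl φ
      hfpf hφq
  -- elements of coprime order commute
  intro y hy v hv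
  have hoy : ∃ j, orderOf y = s ^ j := by
    obtain ⟨k, hk⟩ := hS ⟨y, hy⟩
    have h1 : y ^ s ^ k = 1 := congrArg Subtype.val hk
    exact (Nat.dvd_prime_pow hs).mp (orderOf_dvd_of_pow_eq_one h1) |>.imp fun j hj => hj.2
  have hov : ∃ i, orderOf v = r ^ i := by
    obtain ⟨k, hk⟩ := hV ⟨v, hv⟩
    have h1 : v ^ r ^ k = 1 := congrArg Subtype.val hk
    exact (Nat.dvd_prime_pow hr).mp (orderOf_dvd_of_pow_eq_one h1) |>.imp fun j hj => hj.2
  obtain ⟨j, hj⟩ := hoy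
  obtain ⟨i, hi⟩ := hov
  have hcop : (orderOf (⟨y, (le_sup_right : S ≤ V ⊔ S) hy⟩ : ↥(V ⊔ S))).Coprime
      (orderOf (⟨v, (le_sup_left : V ≤ V ⊔ S) hv⟩ : ↥(V ⊔ S))) := by
    rw [← Subgroup.orderOf_coe, ← Subgroup.orderOf_coe]
    show (orderOf y).Coprime (orderOf v)
    rw [hj, hi]
    exact Nat.Coprime.pow _ _ ((Nat.coprime_primes hs hr).mpr hsr)
  have hcomm := Cfsg.Agent.Lib.helper1.commute_of_coprime_orderOf_of_isNilpotent ↥(V ⊔ S) _ _ hcop
  exact congrArg Subtype.val hcomm.eq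

end Cfsg.Agent.Lib.helper75.PQ
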