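/-
helper72: S4306 piece C7 (`frob_gen`, Frobenius generation, from `helper66.frob_sum`): if `K`
acts fixed-point-freely on `S / C_S(R)` and `C_R(S) = 1`, `R` abelian, then `R` is generated by
the `S`-conjugates of `C_R(K)`.
-/
import Mathlib
import Cfsg.Agent.Lib.helper75.PQDefs
import Cfsg.Agent.Lib.helper66.FrobIdentity
import Cfsg.Agent.Lib.helper1.Coprime

set_option autoImplicit false

namespace Cfsg.Agent.Lib.helper75.PQ

open scoped commutatorElement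

/-- The conjugation action of the normalizer of `R` on `R`. -/
def h72_conjHom {Γ : Type*} [Group Γ] (R : Subgroup Γ) :
    ↥(Subgroup.normalizer (R : Set Γ)) →* MulAut ↥R where
  toFun g := Cfsg.Agent.Lib.helper1.conjEquivOfMemNormalizer R g g.2
  map_one' := by
    apply MulEquiv.ext
    intro x
    apply Subtype.ext
    rw [Cfsg.Agent.Lib.helper1.coe_conjEquivOfMemNormalizer]
    simp
  map_mul' a b := by
    apply MulEquiv.ext
    intro x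
    apply Subtype.ext
    rw [MulAut.mul_apply, Cfsg.Agent.Lib.helper1.coe_conjEquivOfMemNormalizer,
      Cfsg.Agent.Lib.helper1.coe_conjEquivOfMemNormalizer,
      Cfsg.Agent.Lib.helper1.coe_conjEquivOfMemNormalizer]
    simp [mul_assoc]

theorem h72_conjHom_apply {Γ : Type*} [Group Γ] (R : Subgroup Γ)
    (g : ↥(Subgroup.normalizer (R : Set Γ))) (x : ↥R) :
    ((h72_conjHom R g x : ↥R) : Γ) = g * x * (g : Γ)⁻¹ := rfl

theorem frob_gen {Γ : Type*} [Group Γ] [Finite Γ] (K S R : Subgroup Γ) (p : ℕ) (hp : p.Prime)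
    (cardK : Nat.card K = p)
    (hRab : ∀ x ∈ R, ∀ x' ∈ R, x * x' = x' * x)
    (hcop : (Nat.card S).Coprime (Nat.card R))
    (KS : K ≤ Subgroup.normalizer (S : Set Γ)) (KR : K ≤ Subgroup.normalizer (R : Set Γ))
    (SR : S ≤ Subgroup.normalizer (R : Set Γ))
    (hfix : ∀ x ∈ R, (∀ y ∈ S, y * x = x * y) → x = 1)
    (hfpf : ∀ k ∈ K, k ≠ 1 → ∀ y ∈ S, (∀ x ∈ R, ⁅k, y⁆ * x = x * ⁅k, y⁆) →
      ∀ x ∈ R, y * x = x * y) :
    ∀ x ∈ R, x ∈ Subgroup.closure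
      {z | ∃ y ∈ S, ∃ x0 ∈ R, (∀ k ∈ K, k * x0 = x0 * k) ∧ z = y * x0 * y⁻¹} := by
  classical
  intro x hx
  set Cl : Subgroup Γ := Subgroup.closure
      {z | ∃ y ∈ S, ∃ x0 ∈ R, (∀ k ∈ K, k * x0 = x0 * k) ∧ z = y * x0 * y⁻¹} with hCl
  let cR : CommGroup ↥R :=
    { (inferInstance : Group ↥R) with
      mul_comm := fun a b => Subtype.ext (hRab a a.2 b b.2) }
  let c : ↥(Subgroup.normalizer (R : Set Γ)) →* MulAut ↥R := h72_conjHom R
  have hc : ∀ (g : Γ) (hg : g ∈ Subgroup.normalizer (R : Set Γ)) (w : ↥R),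
      ((c ⟨g, hg⟩ w : ↥R) : Γ) = g * w * g⁻¹ := fun g hg w => rfl
  let Sb : Subgroup (MulAut ↥R) := (S.subgroupOf (Subgroup.normalizer (R : Set Γ))).map c
  let Kb : Subgroup (MulAut ↥R) := (K.subgroupOf (Subgroup.normalizer (R : Set Γ))).map c
  have hSb : ∀ σ ∈ Sb, ∃ y, ∃ hy : y ∈ S, σ = c ⟨y, SR hy⟩ := by
    rintro σ ⟨g, hg, rfl⟩
    exact ⟨g, Subgroup.mem_subgroupOf.mp hg, rfl⟩
  have hKb : ∀ κ ∈ Kb, ∃ k, ∃ hk : k ∈ K, κ = c ⟨k, KR hk⟩ := by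
    rintro κ ⟨g, hg, rfl⟩
    exact ⟨g, Subgroup.mem_subgroupOf.mp hg, rfl⟩
  have hSb' : ∀ y (hy : y ∈ S), c ⟨y, SR hy⟩ ∈ Sb := fun y hy =>
    ⟨⟨y, SR hy⟩, Subgroup.mem_subgroupOf.mpr hy, rfl⟩
  have hKb' : ∀ k (hk : k ∈ K), c ⟨k, KR hk⟩ ∈ Kb := fun k hk =>
    ⟨⟨k, KR hk⟩, Subgroup.mem_subgroupOf.mpr hk, rfl⟩
  have hfin : Finite (MulAut ↥R) :=
    Finite.of_injective (fun f : MulAut ↥R => (f : ↥R → ↥R)) DFunLike.coe_injective
  let ρ : MulAut ↥R →* AddMonoid.End (Additive ↥R) :=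
    @Cfsg.Agent.Lib.helper66.addRep (MulAut ↥R) ↥R _ cR (MonoidHom.id (MulAut ↥R))
  have hρ : ∀ (σ : MulAut ↥R) (w : ↥R), ρ σ (Additive.ofMul w) = Additive.ofMul (σ w) :=
    fun σ w => rfl
  -- `K̄` normalizes `S̄`
  have hNR' : ∀ κ ∈ Kb, ∀ σ ∈ Sb, κ * σ * κ⁻¹ ∈ Sb := by
    intro κ hκ σ hσ
    obtain ⟨k, hk, rfl⟩ := hKb κ hκ
    obtain ⟨y, hy, rfl⟩ := hSb σ hσ
    have h1 : k * y * k⁻¹ ∈ S := (Subgroup.mem_normalizer_iff.mp (KS hk) y).mp hy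
    have h2 : c ⟨k, KR hk⟩ * c ⟨y, SR hy⟩ * (c ⟨k, KR hk⟩)⁻¹ = c ⟨k * y * k⁻¹, SR h1⟩ := by
      rw [← map_inv, ← map_mul, ← map_mul]
      rfl
    rw [h2]
    exact hSb' _ h1
  -- `K̄` acts fixed-point-freely on `S̄`
  have hfpf' : ∀ κ ∈ Kb, κ ≠ 1 → ∀ σ ∈ Sb, κ * σ * κ⁻¹ = σ → σ = 1 := by
    intro κ hκ hκ1 σ hσ hfix'
    obtain ⟨k, hk, rfl⟩ := hKb κ hκ
    obtain ⟨y, hy, rfl⟩ := hSb σ hσ
    have hk1 : k ≠ 1 := by
      rintro rfl
      apply hκ1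
      have h1 : (⟨1, KR hk⟩ : ↥(Subgroup.normalizer (R : Set Γ))) = 1 := rfl
      rw [h1, map_one]
    have hcomm : ∀ x ∈ R, ⁅k, y⁆ * x = x * ⁅k, y⁆ := by
      intro w hw
      have h1 : k * y * k⁻¹ ∈ S := (Subgroup.mem_normalizer_iff.mp (KS hk) y).mp hy
      have h2 : c ⟨k * y * k⁻¹, SR h1⟩ = c ⟨y, SR hy⟩ := by
        rw [← hfix', ← map_inv, ← map_mul, ← map_mul]
        rfl
      -- apply both sides to `y⁻¹ w y`
      have hw' : y⁻¹ * w * y ∈ R := by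
        have := (Subgroup.mem_normalizer_iff.mp (SR (S.inv_mem hy)) w).mp hw
        rwa [inv_inv] at this
      have h3 := congrArg (fun φ : MulAut ↥R => ((φ ⟨y⁻¹ * w * y, hw'⟩ : ↥R) : Γ)) h2
      simp only [hc] at h3
      -- h3 : k y k⁻¹ (y⁻¹ w y) (k y k⁻¹)⁻¹ = y (y⁻¹ w y) y⁻¹
      have h4 : y * (y⁻¹ * w * y) * y⁻¹ = w := by group
      rw [h4] at h3
      rw [commutatorElement_def]
      calc k * y * k⁻¹ * y⁻¹ * w
          = (k * y * k⁻¹ * (y⁻¹ * w * y) * (k * y * k⁻¹)⁻¹) * (k * y * k⁻¹ * y⁻¹) := by group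
        _ = w * (k * y * k⁻¹ * y⁻¹) := by rw [h3]
    have hyc := hfpf k hk hk1 y hy hcomm
    apply MulEquiv.ext
    intro w
    apply Subtype.ext
    rw [hc, MulAut.one_apply, hyc w w.2]
    group
  have hsum := Cfsg.Agent.Lib.helper66.frob_sum ρ Sb Kb hNR' hfpf'
  -- the trace of `S̄` vanishes
  have htr : Cfsg.Agent.Lib.helper66.tr ρ Sb = 0 := by
    apply AddMonoidHom.ext
    intro a
    have hb : ∀ σ ∈ Sb, ρ σ (Cfsg.Agent.Lib.helper66.tr ρ Sb a)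
        = Cfsg.Agent.Lib.helper66.tr ρ Sb a := by
      intro σ hσ
      have h1 := Cfsg.Agent.Lib.helper66.mul_tr ρ Sb σ hσ
      exact congrArg (fun φ : AddMonoid.End (Additive ↥R) => φ a) h1
    have h1 : (Additive.toMul (Cfsg.Agent.Lib.helper66.tr ρ Sb a) : ↥R) = 1 := by
      apply Subtype.ext
      apply hfix _ (Additive.toMul (Cfsg.Agent.Lib.helper66.tr ρ Sb a) : ↥R).2
      intro y hy
      have h2 := hb (c ⟨y, SR hy⟩) (hSb' y hy)
      have h3 := congrArg (fun t : Additive ↥R => ((Additive.toMul t : ↥R) : Γ)) h2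
      have h4 : y * ((Additive.toMul (Cfsg.Agent.Lib.helper66.tr ρ Sb a) : ↥R) : Γ) * y⁻¹
          = ((Additive.toMul (Cfsg.Agent.Lib.helper66.tr ρ Sb a) : ↥R) : Γ) := h3
      calc y * ((Additive.toMul (Cfsg.Agent.Lib.helper66.tr ρ Sb a) : ↥R) : Γ)
          = (y * ((Additive.toMul (Cfsg.Agent.Lib.helper66.tr ρ Sb a) : ↥R) : Γ) * y⁻¹) * y := by
            group
        _ = _ := by rw [h4]
    exact congrArg Additive.ofMul h1
  rw [htr, mul_zero, add_zero, sub_zero] at hsum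
  -- membership of the value of the sum at `x`
  let pr : AddMonoid.End (Additive ↥R) → Prop := fun φ =>
    ((Additive.toMul (φ (Additive.ofMul (⟨x, hx⟩ : ↥R))) : ↥R) : Γ) ∈ Cl
  have hp0 : pr 0 := Cl.one_mem
  have hp1 : ∀ φ ψ, pr φ → pr ψ → pr (φ + ψ) := by
    intro φ ψ h1 h2
    exact Cl.mul_mem h1 h2
  have hp2 : ∀ σ : ↥Sb, pr (ρ ((σ : MulAut ↥R))⁻¹ * Cfsg.Agent.Lib.helper66.tr ρ Kb * ρ (σ : MulAut ↥R)) := by
    intro σ
    obtain ⟨y, hy, hσ⟩ := hSb σ σ.2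
    set b : ↥R := Additive.toMul (Cfsg.Agent.Lib.helper66.tr ρ Kb
      (ρ (σ : MulAut ↥R) (Additive.ofMul (⟨x, hx⟩ : ↥R)))) with hbdef
    have hbK : ∀ k ∈ K, k * (b : Γ) = b * k := by
      intro k hk
      have h1 := Cfsg.Agent.Lib.helper66.mul_tr ρ Kb (c ⟨k, KR hk⟩) (hKb' k hk)
      have h2 := congrArg (fun φ : AddMonoid.End (Additive ↥R) =>
        φ (ρ (σ : MulAut ↥R) (Additive.ofMul (⟨x, hx⟩ : ↥R)))) h1
      have h3 := congrArg (fun t : Additive ↥R => ((Additive.toMul t : ↥R) : Γ)) h2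
      have h4 : k * (b : Γ) * k⁻¹ = b := h3
      calc k * (b : Γ) = (k * (b : Γ) * k⁻¹) * k := by group
        _ = b * k := by rw [h4]
    have hval : ((Additive.toMul ((ρ ((σ : MulAut ↥R))⁻¹ * Cfsg.Agent.Lib.helper66.tr ρ Kb
        * ρ (σ : MulAut ↥R)) (Additive.ofMul (⟨x, hx⟩ : ↥R))) : ↥R) : Γ) = y⁻¹ * b * y⁻¹⁻¹ := by
      have h1 : ((σ : MulAut ↥R))⁻¹ = c ⟨y⁻¹, SR (S.inv_mem hy)⟩ := by
        rw [hσ, ← map_inv]
        rfl
      rw [h1]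
      rfl
    show _ ∈ Cl
    rw [hval]
    exact Subgroup.subset_closure ⟨y⁻¹, S.inv_mem hy, b, b.2, hbK, rfl⟩
  have hmem := finsum_induction pr hp0 hp1 hp2
  rw [hsum] at hmem
  -- `x ^ |S̄| ∈ Cl`
  have hnsmul : ∀ (n : ℕ) (a : Additive ↥R),
      (n • (1 : AddMonoid.End (Additive ↥R))) a = n • a := by
    intro n a
    induction n with
    | zero => simp
    | succ n ih =>
      rw [succ_nsmul, succ_nsmul]
      show (n • (1 : AddMonoid.End (Additive ↥R))) a + (1 : AddMonoid.End (Additive ↥R)) a = _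
      rw [ih]
      rfl
  have hxn : x ^ Nat.card Sb ∈ Cl := by
    have h1 : ((Additive.toMul ((Nat.card Sb • (1 : AddMonoid.End (Additive ↥R)))
        (Additive.ofMul (⟨x, hx⟩ : ↥R))) : ↥R) : Γ) = x ^ Nat.card Sb := by
      rw [hnsmul]
      rfl
    rw [← h1]
    exact hmem
  have hdvd : Nat.card Sb ∣ Nat.card S := by
    have h1 : Nat.card Sb ∣ Nat.card (S.subgroupOf (Subgroup.normalizer (R : Set Γ))) :=
      Subgroup.card_map_dvd (H := S.subgroupOf (Subgroup.normalizer (R : Set Γ))) c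
    have h2 : Nat.card (S.subgroupOf (Subgroup.normalizer (R : Set Γ))) = Nat.card S :=
      Nat.card_congr (Subgroup.subgroupOfEquivOfLe SR).toEquiv
    rwa [h2] at h1
  have hcop' : (Nat.card Sb).Coprime (orderOf x) :=
    Nat.Coprime.coprime_dvd_left hdvd
      (Nat.Coprime.coprime_dvd_right (Subgroup.orderOf_dvd_natCard R hx) hcop)
  obtain ⟨m, hm⟩ := exists_pow_eq_self_of_coprime hcop'
  rw [← hm]
  exact Cl.pow_mem hxn m

end Cfsg.Agent.Lib.helper75.PQ
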