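import Mathlib
import Cfsg.Agent.Lib.helper24.S6eDefs

set_option autoImplicit false

namespace Cfsg.Agent.Lib.helper24

open Matrix Cfsg Cfsg.Geo

/-- BTF (L). Trace formula. -/
theorem s6_trace_formula {F : Type*} [Field F] [Fintype F] (h2 : (2 : F) ≠ 0) (R : Subgroup (GL S6I F)) (hG : S6Good R)
    (y : GL S6I F) (hy : y ∈ subgroupNormalizer R) (k : ℕ) (hk : Odd k) (hyk : y ^ k = 1) :
    Matrix.trace (y : Matrix S6I S6I F) * Matrix.trace ((y⁻¹ : GL S6I F) : Matrix S6I S6I F) =
      ((Nat.card {s : GL S6I F // s ∈ R ∧ y * s = s * y} : ℕ) : F) / 2 := by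
  classical
  have : Finite (GL S6I F) := Finite.of_injective (fun g : GL S6I F => (g : Matrix S6I S6I F)) Units.val_injective
  let _ : Fintype R := Fintype.ofFinite _
  have hyN : y ∈ Subgroup.normalizer (R : Set (GL S6I F)) := hy
  have hyN' : y⁻¹ ∈ Subgroup.normalizer (R : Set (GL S6I F)) := inv_mem hyN
  have hconj : ∀ s, s ∈ R → y⁻¹ * s * y ∈ R := fun s hs => by
    have := (Subgroup.mem_normalizer_iff.mp hyN' s).mp hs
    simpa using this
  obtain ⟨z, hzR, hz⟩ := hG.neg
  have hzc : ∀ g : GL S6I F, g * z = z * g := by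
    intro g
    apply Units.ext
    simp [hz]
  have hz1 : z ≠ 1 := by
    intro h
    have h3 : (z : Matrix S6I S6I F) = 1 := by rw [h]; rfl
    rw [hz] at h3
    have h4 := congrFun (congrFun h3 (Sum.inl 0)) (Sum.inl 0)
    simp at h4
    apply h2
    have : (2 : F) = 1 - (-1) := by ring
    rw [this, h4]; ring
  have hzz : z * z = 1 := by
    apply Units.ext
    simp [hz]
  have hzk : z ^ k = z := by
    obtain ⟨m, rfl⟩ := hk
    rw [pow_succ, pow_mul, pow_two, hzz, one_pow, one_mul]
  -- the key per-element trace computation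
  have hkey : ∀ s : R, Matrix.trace (((y⁻¹ * (s : GL S6I F) * y * (s : GL S6I F)⁻¹ : GL S6I F)) : Matrix S6I S6I F) =
      if y * (s : GL S6I F) = (s : GL S6I F) * y then (4 : F) else 0 := by
    intro s
    by_cases hc : y * (s : GL S6I F) = (s : GL S6I F) * y
    · rw [if_pos hc]
      have : y⁻¹ * (s : GL S6I F) * y * (s : GL S6I F)⁻¹ = 1 := by
        calc y⁻¹ * (s : GL S6I F) * y * (s : GL S6I F)⁻¹ = y⁻¹ * ((s : GL S6I F) * y) * (s : GL S6I F)⁻¹ := by group
          _ = y⁻¹ * (y * (s : GL S6I F)) * (s : GL S6I F)⁻¹ := by rw [hc]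
          _ = 1 := by group
      rw [this]
      change Matrix.trace (1 : Matrix S6I S6I F) = 4
      rw [Matrix.trace_one]
      norm_num [S6I]
    · rw [if_neg hc]
      have hcR : y⁻¹ * (s : GL S6I F) * y * (s : GL S6I F)⁻¹ ∈ R :=
        R.mul_mem (hconj _ s.2) (R.inv_mem s.2)
      apply hG.tr0 _ hcR
      · intro h
        have h' : y⁻¹ * (s : GL S6I F) * y * (s : GL S6I F)⁻¹ = 1 := Units.ext h
        apply hc
        symm
        calc (s : GL S6I F) * y = y * ((y⁻¹ * (s : GL S6I F) * y * (s : GL S6I F)⁻¹) * (s : GL S6I F)) := by group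
          _ = y * (s : GL S6I F) := by rw [h']; group
      · intro h
        have h' : y⁻¹ * (s : GL S6I F) * y * (s : GL S6I F)⁻¹ = z := Units.ext (by rw [h, hz])
        have h'' : y⁻¹ * (s : GL S6I F) * y = z * (s : GL S6I F) := by
          calc y⁻¹ * (s : GL S6I F) * y = (y⁻¹ * (s : GL S6I F) * y * (s : GL S6I F)⁻¹) * (s : GL S6I F) := by group
            _ = z * (s : GL S6I F) := by rw [h']
        have hind : ∀ n : ℕ, (y ^ n)⁻¹ * (s : GL S6I F) * y ^ n = z ^ n * (s : GL S6I F) := by
          intro n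
          induction n with
          | zero => simp
          | succ n ih =>
            calc (y ^ (n + 1))⁻¹ * (s : GL S6I F) * y ^ (n + 1)
                = y⁻¹ * ((y ^ n)⁻¹ * (s : GL S6I F) * y ^ n) * y := by
                  rw [pow_succ]; group
              _ = y⁻¹ * (z ^ n * (s : GL S6I F)) * y := by rw [ih]
              _ = z ^ n * (y⁻¹ * (s : GL S6I F) * y) := by
                  have hzn : y⁻¹ * z ^ n = z ^ n * y⁻¹ := by
                    have : Commute y⁻¹ z := hzc y⁻¹
                    exact (this.pow_right n)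
                  calc y⁻¹ * (z ^ n * (s : GL S6I F)) * y = (y⁻¹ * z ^ n) * (s : GL S6I F) * y := by group
                    _ = (z ^ n * y⁻¹) * (s : GL S6I F) * y := by rw [hzn]
                    _ = z ^ n * (y⁻¹ * (s : GL S6I F) * y) := by group
              _ = z ^ (n + 1) * (s : GL S6I F) := by rw [h'', pow_succ]; group
        have hk' := hind k
        rw [hyk, hzk] at hk'
        apply hz1
        have : (s : GL S6I F) = z * (s : GL S6I F) := by simpa using hk'
        calc z = z * (s : GL S6I F) * (s : GL S6I F)⁻¹ := by group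
          _ = 1 := by rw [← this]; group
  have havg := hG.avg (y : Matrix S6I S6I F)
  rw [finsum_eq_sum_of_fintype] at havg
  have h1 : Matrix.trace (((y⁻¹ : GL S6I F) : Matrix S6I S6I F) * ∑ s : R, ((s : GL S6I F) : Matrix S6I S6I F) * (y : Matrix S6I S6I F) *
      (((s : GL S6I F)⁻¹ : GL S6I F) : Matrix S6I S6I F)) =
      8 * Matrix.trace (y : Matrix S6I S6I F) * Matrix.trace ((y⁻¹ : GL S6I F) : Matrix S6I S6I F) := by
    rw [havg]
    simp
  rw [Matrix.mul_sum, Matrix.trace_sum] at h1
  have h3 : ∀ s : R, Matrix.trace (((y⁻¹ : GL S6I F) : Matrix S6I S6I F) * (((s : GL S6I F) : Matrix S6I S6I F) * (y : Matrix S6I S6I F) *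
      (((s : GL S6I F)⁻¹ : GL S6I F) : Matrix S6I S6I F))) =
      if y * (s : GL S6I F) = (s : GL S6I F) * y then (4 : F) else 0 := by
    intro s
    rw [← hkey s]
    congr 1
    simp only [Units.val_mul, Matrix.mul_assoc]
  rw [Finset.sum_congr rfl (fun s _ => h3 s)] at h1
  rw [Finset.sum_ite, Finset.sum_const, Finset.sum_const_zero, add_zero, nsmul_eq_mul] at h1
  have hcard : Nat.card {s : GL S6I F // s ∈ R ∧ y * s = s * y} =
      (Finset.filter (fun s : R => y * (s : GL S6I F) = (s : GL S6I F) * y) Finset.univ).card := by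
    rw [← Fintype.card_subtype, ← Nat.card_eq_fintype_card]
    exact Nat.card_congr (Equiv.subtypeSubtypeEquivSubtypeInter (fun s : GL S6I F => s ∈ R) (fun s => y * s = s * y)).symm
  rw [hcard]
  have h4 : (4 : F) ≠ 0 := by
    have : (4 : F) = 2 * 2 := by norm_num
    rw [this]; exact mul_ne_zero h2 h2
  rw [eq_div_iff h2]
  have h5 : (4 : F) * (Matrix.trace (y : Matrix S6I S6I F) * Matrix.trace ((y⁻¹ : GL S6I F) : Matrix S6I S6I F) * 2) =
      4 * (((Finset.filter (fun s : R => y * (s : GL S6I F) = (s : GL S6I F) * y) Finset.univ).card : ℕ) : F) := by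
    linear_combination (-1 : F) * h1
  exact mul_left_cancel₀ h4 h5

end Cfsg.Agent.Lib.helper24
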