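/-
helper72: S2930 piece G2 core (`aut_three_inner_of`): an automorphism of `A_n` (`n ≥ 5`) of
`3`-power order is conjugation by an element of `A_n`.  Piece G3 (the case `n = 6`) is a hypothesis.
-/
import Mathlib
import Cfsg.Agent.S2119

set_option autoImplicit false

namespace Cfsg.Agent.Lib.helper72.S2930

open Equiv Equiv.Perm

/-- A permutation commuting with every even permutation (`n ≥ 4`) is trivial
(the injectivity half of `Cfsg.Agent.S2119.result`). -/
theorem g2_perm_eq_one (n : ℕ) (hn : 4 ≤ n) (σ : Perm (Fin n))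
    (h : ∀ x ∈ alternatingGroup (Fin n), σ * x = x * σ) : σ = 1 := by
  by_contra hne
  obtain ⟨a, ha⟩ : ∃ a, σ a ≠ a := by
    by_contra h; push Not at h; exact hne (Equiv.Perm.ext h)
  obtain ⟨c, -, hc⟩ := Finset.exists_mem_notMem_of_card_lt_card
    (s := ({a, σ a} : Finset (Fin n))) (t := Finset.univ) (by
     calc _ ≤ 2 := Finset.card_le_two
       _ < Fintype.card (Fin n) := by rw [Fintype.card_fin]; omega
       _ = Finset.univ.card := Finset.card_univ.symm)
  obtain ⟨d, -, hd⟩ := Finset.exists_mem_notMem_of_card_lt_card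
    (s := ({a, σ a, c} : Finset (Fin n))) (t := Finset.univ) (by
     calc _ ≤ 3 := Finset.card_le_three
       _ < Fintype.card (Fin n) := by rw [Fintype.card_fin]; omega
       _ = Finset.univ.card := Finset.card_univ.symm)
  simp only [Finset.mem_insert, Finset.mem_singleton, not_or] at hc hd
  obtain ⟨hca, hcs⟩ := hc
  obtain ⟨hda, hds, hdc⟩ := hd
  have h3 : Equiv.Perm.IsThreeCycle (Cfsg.Agent.S2119.cyc (σ a) c d) :=
    Cfsg.Agent.S2119.cyc_isThreeCycle (Ne.symm hcs) (Ne.symm hds) (Ne.symm hdc)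
  have h1 := congrArg (fun f : Perm (Fin n) => f a) (h _ h3.mem_alternatingGroup)
  simp only [Equiv.Perm.mul_apply] at h1
  rw [Cfsg.Agent.S2119.cyc_apply_other ha.symm (Ne.symm hca) (Ne.symm hda),
    Cfsg.Agent.S2119.cyc_apply_first (Ne.symm hcs) (Ne.symm hds)] at h1
  exact hcs h1.symm

/-- PIECE G2 core: piece G3 (`n = 6`) as a hypothesis. -/
theorem aut_three_inner_of
    (hG3 : ∀ (φ : ↥(alternatingGroup (Fin 6)) ≃* ↥(alternatingGroup (Fin 6)))
      (k : ℕ), (∀ x, (⇑φ)^[3 ^ k] x = x) → ∀ (x : ↥(alternatingGroup (Fin 6))),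
      IsThreeCycle (x : Perm (Fin 6)) →
      IsThreeCycle ((φ x : ↥(alternatingGroup (Fin 6))) : Perm (Fin 6)))
    (n : ℕ) (hn : 5 ≤ n)
    (φ : ↥(alternatingGroup (Fin n)) ≃* ↥(alternatingGroup (Fin n)))
    (k : ℕ) (hφ : ∀ x, (⇑φ)^[3 ^ k] x = x) :
    ∃ τ : ↥(alternatingGroup (Fin n)), ∀ x, φ x = τ * x * τ⁻¹ := by
  have hcard : Fintype.card (Fin n) = n := Fintype.card_fin n
  -- `φ` preserves 3-cycles
  have h3 : ∀ x : ↥(alternatingGroup (Fin n)), IsThreeCycle (x : Perm (Fin n)) →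
      IsThreeCycle ((φ x : ↥(alternatingGroup (Fin n))) : Perm (Fin n)) := by
    by_cases h6 : n = 6
    · subst h6
      exact hG3 φ k hφ
    · exact Cfsg.Agent.S2119.aut_isThreeCycle (α := Fin n) (by rw [hcard]; exact h6) φ
  obtain ⟨τ, hτ⟩ := Cfsg.Agent.S2119.exists_perm_of_preserves (⟨0, by omega⟩ : Fin n)
    ⟨1, by omega⟩ (by simp [Fin.ext_iff]) (by rw [hcard]; omega) φ h3
  -- iterates
  have hit : ∀ (m : ℕ) (x : ↥(alternatingGroup (Fin n))),
      (((⇑φ)^[m] x : ↥(alternatingGroup (Fin n))) : Perm (Fin n)) = τ ^ m * x * (τ ^ m)⁻¹ := by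
    intro m
    induction m with
    | zero => intro x; simp
    | succ m ih =>
      intro x
      rw [Function.iterate_succ_apply', hτ, ih, pow_succ']
      group
  -- `τ ^ (3 ^ k)` commutes with `A_n`
  have hcomm : ∀ x ∈ alternatingGroup (Fin n), τ ^ 3 ^ k * x = x * τ ^ 3 ^ k := by
    intro x hx
    have h1 := hit (3 ^ k) ⟨x, hx⟩
    rw [hφ] at h1
    have h2 : (x : Perm (Fin n)) = τ ^ 3 ^ k * x * (τ ^ 3 ^ k)⁻¹ := h1
    calc τ ^ 3 ^ k * x = τ ^ 3 ^ k * x * (τ ^ 3 ^ k)⁻¹ * τ ^ 3 ^ k := by group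
      _ = x * τ ^ 3 ^ k := by rw [← h2]
  have hone : τ ^ 3 ^ k = 1 := g2_perm_eq_one n (by omega) _ hcomm
  -- `τ` is even
  have hsign : Perm.sign τ = 1 := by
    have h1 : Perm.sign τ ^ 3 ^ k = 1 := by
      rw [← map_pow, hone, map_one]
    rcases Int.units_eq_one_or (Perm.sign τ) with h | h
    · exact h
    · rw [h, Odd.neg_one_pow (Odd.pow (by decide : Odd 3))] at h1
      exact absurd h1 (by decide)
  refine ⟨⟨τ, Perm.mem_alternatingGroup.mpr hsign⟩, ?_⟩
  intro x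
  apply Subtype.ext
  rw [hτ]
  rfl

end Cfsg.Agent.Lib.helper72.S2930
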