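/-
helper72: S3313 piece E1 (`card_sq_one_form`) + the shared elementary facts on the
extraspecial-like subgroup `Q` of the setting `QK z Q K` (helper6).
-/
import Mathlib
import Cfsg.Agent.Lib.helper6.S3313Defs

set_option autoImplicit false

namespace Cfsg.Agent.Lib.helper72.S3313

open Cfsg.Agent.Lib.helper6.S3313

variable {G : Type*} [Group G] [Finite G]

omit [Finite G] in
/-- A subset stable under right multiplication by `H` has cardinality divisible by `|H|`. -/
theorem card_dvd_of_mul_right_stable (H : Subgroup G) (P : G → Prop)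
    (hP : ∀ v, P v → ∀ g ∈ H, P (v * g)) : Nat.card H ∣ Nat.card {v : G // P v} := by
  classical
  let e : G ≃ (G ⧸ H) × H := Subgroup.groupEquivQuotientProdSubgroup
  let T : Set (G ⧸ H) := (QuotientGroup.mk : G → G ⧸ H) '' {v | P v}
  have key : ∀ v : G, P v ↔ (e v).1 ∈ T := by
    intro v
    have hfst : (e v).1 = (QuotientGroup.mk v : G ⧸ H) := rfl
    rw [hfst]
    constructor
    · intro hv
      exact ⟨v, hv, rfl⟩
    · rintro ⟨s, hs, hsv⟩
      have h1 : s⁻¹ * v ∈ H := QuotientGroup.eq.1 hsv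
      have h2 := hP s hs _ h1
      simpa using h2
  have e1 : {v : G // P v} ≃ {p : (G ⧸ H) × H // p.1 ∈ T} := e.subtypeEquiv (fun v => key v)
  have e2 : {p : (G ⧸ H) × H // p.1 ∈ T} ≃ {c : G ⧸ H // c ∈ T} × H :=
    Equiv.prodSubtypeFstEquivSubtypeProd (p := fun c => c ∈ T)
  rw [Nat.card_congr (e1.trans e2), Nat.card_prod]
  exact dvd_mul_left _ _

omit [Group G] [Finite G] in
theorem ncard_filter [Fintype G] (P : G → Prop) [DecidablePred P] :
    Nat.card {v : G // P v} = (Finset.univ.filter P).card := by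
  rw [Nat.card_eq_fintype_card, Fintype.card_subtype]

section QKfacts

variable {z : G} {Q K : Subgroup G}

omit [Finite G] in
theorem qk_zz (h : QK z Q K) : z * z = 1 := by
  rw [← sq]; exact h.z_sq

omit [Finite G] in
theorem qk_zc (h : QK z Q K) {q : G} (hq : q ∈ Q) : z * q = q * z := (h.z_comm q hq).symm

omit [Finite G] in
/-- The "commutes with `x`" predicate is multiplicative on `Q`. -/
theorem qk_comm_mul (h : QK z Q K) {u v x : G} (hu : u ∈ Q) (hv : v ∈ Q) (hx : x ∈ Q) :
    (u * v) * x = x * (u * v) ↔ (u * x = x * u ↔ v * x = x * v) := by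
  have hz1 := h.z_ne
  have hzz := qk_zz h
  by_cases h1 : u * x = x * u <;> by_cases h2 : v * x = x * v
  · have e : u * v * x = x * (u * v) := by
      calc u * v * x = u * (v * x) := mul_assoc _ _ _
        _ = u * (x * v) := by rw [h2]
        _ = (u * x) * v := (mul_assoc _ _ _).symm
        _ = (x * u) * v := by rw [h1]
        _ = x * (u * v) := mul_assoc _ _ _
    exact ⟨fun _ => ⟨fun _ => h2, fun _ => h1⟩, fun _ => e⟩
  · have h2' := (h.comm v hv x hx).resolve_left h2
    have e : u * v * x = x * (u * v) * z := by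
      calc u * v * x = u * (v * x) := mul_assoc _ _ _
        _ = u * (x * v * z) := by rw [h2']
        _ = (u * x) * v * z := by simp only [mul_assoc]
        _ = (x * u) * v * z := by rw [h1]
        _ = x * (u * v) * z := by simp only [mul_assoc]
    constructor
    · intro e2
      rw [e2] at e
      exact absurd (by simpa using e) hz1
    · intro e2
      exact absurd (e2.1 h1) h2
  · have h1' := (h.comm u hu x hx).resolve_left h1
    have e : u * v * x = x * (u * v) * z := by
      calc u * v * x = u * (v * x) := mul_assoc _ _ _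
        _ = u * (x * v) := by rw [h2]
        _ = (u * x) * v := (mul_assoc _ _ _).symm
        _ = (x * u * z) * v := by rw [h1']
        _ = x * u * (z * v) := mul_assoc _ _ _
        _ = x * u * (v * z) := by rw [qk_zc h hv]
        _ = x * (u * v) * z := by simp only [mul_assoc]
    constructor
    · intro e2
      rw [e2] at e
      exact absurd (by simpa using e) hz1
    · intro e2
      exact absurd (e2.2 h2) h1
  · have h1' := (h.comm u hu x hx).resolve_left h1
    have h2' := (h.comm v hv x hx).resolve_left h2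
    have e : u * v * x = x * (u * v) := by
      calc u * v * x = u * (v * x) := mul_assoc _ _ _
        _ = u * (x * v * z) := by rw [h2']
        _ = (u * x) * (v * z) := by simp only [mul_assoc]
        _ = (x * u * z) * (v * z) := by rw [h1']
        _ = x * u * ((z * v) * z) := by simp only [mul_assoc]
        _ = x * u * ((v * z) * z) := by rw [qk_zc h hv]
        _ = x * u * (v * (z * z)) := by simp only [mul_assoc]
        _ = x * (u * v) := by rw [hzz, mul_one, mul_assoc]
    exact ⟨fun _ => ⟨fun hh => absurd hh h1, fun hh => absurd hh h2⟩, fun _ => e⟩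

omit [Finite G] in
theorem qk_sq_mul_anti (h : QK z Q K) {u v : G} (hu : u ∈ Q) (hv : v ∈ Q)
    (huv : u * v ≠ v * u) : (u * v) ^ 2 = u ^ 2 * v ^ 2 * z := by
  have h' : v * u = u * v * z := (h.comm v hv u hu).resolve_left (fun e => huv e.symm)
  calc (u * v) ^ 2 = u * (v * u) * v := by rw [sq]; simp only [mul_assoc]
    _ = u * (u * v * z) * v := by rw [h']
    _ = u * u * v * (z * v) := by simp only [mul_assoc]
    _ = u * u * v * (v * z) := by rw [qk_zc h hv]
    _ = u ^ 2 * v ^ 2 * z := by rw [sq, sq]; simp only [mul_assoc]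

omit [Finite G] in
theorem qk_sq_mul_comm {u v : G} (huv : u * v = v * u) : (u * v) ^ 2 = u ^ 2 * v ^ 2 :=
  Commute.mul_pow huv 2

omit [Finite G] in
/-- `v * x` commutes with `x` iff `v` does. -/
theorem qk_comm_mul_self (h : QK z Q K) {v x : G} (hv : v ∈ Q) (hx : x ∈ Q) :
    (v * x) * x = x * (v * x) ↔ v * x = x * v := by
  rw [qk_comm_mul h hv hx hx]
  exact ⟨fun e => e.2 rfl, fun e => ⟨fun _ => rfl, fun _ => e⟩⟩

omit [Finite G] in
theorem qk_card_Q_filter [Fintype G] [DecidablePred (· ∈ Q)] (h : QK z Q K) :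
    (Finset.univ.filter (fun v : G => v ∈ Q)).card = 32 := by
  rw [← ncard_filter]
  exact h.card_Q

omit [Finite G] in
/-- Some element of `Q` has square `z`. -/
theorem qk_exists_sq [Fintype G] (h : QK z Q K) : ∃ x ∈ Q, x ^ 2 = z := by
  classical
  by_contra hcon
  push Not at hcon
  have hsq : ∀ q ∈ Q, q ^ 2 = 1 := fun q hq => (h.sq q hq).resolve_right (hcon q hq)
  have hinv : ∀ q ∈ Q, q⁻¹ = q := by
    intro q hq
    rw [inv_eq_iff_mul_eq_one, ← sq]
    exact hsq q hq
  have hcomm : ∀ q ∈ Q, ∀ q' ∈ Q, q * q' = q' * q := by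
    intro q hq q' hq'
    calc q * q' = (q * q')⁻¹ := (hinv _ (Q.mul_mem hq hq')).symm
      _ = q'⁻¹ * q⁻¹ := mul_inv_rev _ _
      _ = q' * q := by rw [hinv q hq, hinv q' hq']
  have hall : ∀ q ∈ Q, q = 1 ∨ q = z := fun q hq => h.center q hq (hcomm q hq)
  have hsub : Finset.univ.filter (fun v : G => v ∈ Q) ⊆ ({1, z} : Finset G) := by
    intro v hv
    simp only [Finset.mem_filter, Finset.mem_univ, true_and] at hv
    simp only [Finset.mem_insert, Finset.mem_singleton]
    exact hall v hv
  have h1 := Finset.card_le_card hsub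
  rw [qk_card_Q_filter h] at h1
  have h2 : ({1, z} : Finset G).card ≤ 2 := Finset.card_le_two
  omega

omit [Finite G] in
open Classical in
/-- For a non-central `x ∈ Q`, the centralizer of `x` in `Q` and its complement both have
16 elements. -/
theorem qk_card_cent [Fintype G] (h : QK z Q K) {x : G} (hx : x ∈ Q) (hx1 : x ≠ 1)
    (hxz : x ≠ z) :
    (Finset.univ.filter (fun v : G => v ∈ Q ∧ v * x = x * v)).card = 16 ∧
    (Finset.univ.filter (fun v : G => v ∈ Q ∧ v * x ≠ x * v)).card = 16 := by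
  have hy : ∃ y ∈ Q, x * y ≠ y * x := by
    by_contra hcon
    push Not at hcon
    rcases h.center x hx hcon with h1 | h1
    · exact hx1 h1
    · exact hxz h1
  obtain ⟨y, hy, hxy⟩ := hy
  have hyx : ¬ (y * x = x * y) := fun e => hxy e.symm
  have hCD : (Finset.univ.filter (fun v : G => v ∈ Q ∧ v * x = x * v)).card +
      (Finset.univ.filter (fun v : G => v ∈ Q ∧ v * x ≠ x * v)).card = 32 := by
    rw [← qk_card_Q_filter h, ← Finset.card_union_of_disjoint]
    · congr 1
      ext v
      simp only [Finset.mem_union, Finset.mem_filter, Finset.mem_univ, true_and]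
      tauto
    · rw [Finset.disjoint_left]
      intro v hv1 hv2
      simp only [Finset.mem_filter, Finset.mem_univ, true_and] at hv1 hv2
      exact hv2.2 hv1.2
  have h1 : (Finset.univ.filter (fun v : G => v ∈ Q ∧ v * x = x * v)).card ≤
      (Finset.univ.filter (fun v : G => v ∈ Q ∧ v * x ≠ x * v)).card := by
    apply Finset.card_le_card_of_injOn (fun v => v * y)
    · intro v hv
      simp only [Finset.coe_filter, Finset.mem_univ, true_and, Set.mem_ofPred_eq] at hv ⊢
      refine ⟨Q.mul_mem hv.1 hy, ?_⟩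
      rw [Ne, qk_comm_mul h hv.1 hy hx]
      exact fun e => hyx (e.1 hv.2)
    · exact fun a _ b _ hab => mul_right_cancel hab
  have h2 : (Finset.univ.filter (fun v : G => v ∈ Q ∧ v * x ≠ x * v)).card ≤
      (Finset.univ.filter (fun v : G => v ∈ Q ∧ v * x = x * v)).card := by
    apply Finset.card_le_card_of_injOn (fun v => v * y)
    · intro v hv
      simp only [Finset.coe_filter, Finset.mem_univ, true_and, Set.mem_ofPred_eq] at hv ⊢
      refine ⟨Q.mul_mem hv.1 hy, ?_⟩
      rw [qk_comm_mul h hv.1 hy hx]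
      exact ⟨fun e => absurd e hv.2, fun e => absurd e hyx⟩
    · exact fun a _ b _ hab => mul_right_cancel hab
  omega

end QKfacts

/-- E1 -/
theorem card_sq_one_form {z : G} {Q K : Subgroup G} (h : QK z Q K) :
    (∃ x ∈ Q, x ^ 2 = z) ∧ ∃ m : ℕ, Nat.card {v : G // v ∈ Q ∧ v ^ 2 = 1} = 8 + 4 * m := by
  classical
  have : Fintype G := Fintype.ofFinite G
  have hex : ∃ x ∈ Q, x ^ 2 = z := qk_exists_sq h
  refine ⟨hex, ?_⟩
  obtain ⟨x, hx, hx2⟩ := hex
  have hz1 := h.z_ne
  have hzz := qk_zz h
  have hx1 : x ≠ 1 := by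
    intro e
    rw [e, one_pow] at hx2
    exact hz1 hx2.symm
  have hxz : x ≠ z := by
    intro e
    rw [e, h.z_sq] at hx2
    exact hz1 hx2.symm
  obtain ⟨hC, -⟩ := qk_card_cent h hx hx1 hxz
  -- the centralizer part: exactly 8 elements of square 1
  have hC1z : (Finset.univ.filter (fun v : G => v ∈ Q ∧ v * x = x * v ∧ v ^ 2 = 1)).card +
      (Finset.univ.filter (fun v : G => v ∈ Q ∧ v * x = x * v ∧ v ^ 2 = z)).card = 16 := by
    rw [← hC, ← Finset.card_union_of_disjoint]
    · congr 1
      ext v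
      simp only [Finset.mem_union, Finset.mem_filter, Finset.mem_univ, true_and]
      constructor
      · rintro (hv | hv)
        · exact ⟨hv.1, hv.2.1⟩
        · exact ⟨hv.1, hv.2.1⟩
      · intro hv
        rcases h.sq v hv.1 with e | e
        · exact Or.inl ⟨hv.1, hv.2, e⟩
        · exact Or.inr ⟨hv.1, hv.2, e⟩
    · rw [Finset.disjoint_left]
      intro v hv1 hv2
      simp only [Finset.mem_filter, Finset.mem_univ, true_and] at hv1 hv2
      exact hz1 (hv2.2.2.symm.trans hv1.2.2)
  have hle1 : (Finset.univ.filter (fun v : G => v ∈ Q ∧ v * x = x * v ∧ v ^ 2 = 1)).card ≤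
      (Finset.univ.filter (fun v : G => v ∈ Q ∧ v * x = x * v ∧ v ^ 2 = z)).card := by
    apply Finset.card_le_card_of_injOn (fun v => v * x)
    · intro v hv
      simp only [Finset.coe_filter, Finset.mem_univ, true_and, Set.mem_ofPred_eq] at hv ⊢
      refine ⟨Q.mul_mem hv.1 hx, (qk_comm_mul_self h hv.1 hx).2 hv.2.1, ?_⟩
      rw [qk_sq_mul_comm hv.2.1, hv.2.2, hx2, one_mul]
    · exact fun a _ b _ hab => mul_right_cancel hab
  have hle2 : (Finset.univ.filter (fun v : G => v ∈ Q ∧ v * x = x * v ∧ v ^ 2 = z)).card ≤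
      (Finset.univ.filter (fun v : G => v ∈ Q ∧ v * x = x * v ∧ v ^ 2 = 1)).card := by
    apply Finset.card_le_card_of_injOn (fun v => v * x)
    · intro v hv
      simp only [Finset.coe_filter, Finset.mem_univ, true_and, Set.mem_ofPred_eq] at hv ⊢
      refine ⟨Q.mul_mem hv.1 hx, (qk_comm_mul_self h hv.1 hx).2 hv.2.1, ?_⟩
      rw [qk_sq_mul_comm hv.2.1, hv.2.2, hx2, hzz]
    · exact fun a _ b _ hab => mul_right_cancel hab
  have hC1 : (Finset.univ.filter (fun v : G => v ∈ Q ∧ v * x = x * v ∧ v ^ 2 = 1)).card = 8 := by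
    omega
  -- the complement part: divisible by 4
  have hstep : ∀ v : G, (v ∈ Q ∧ v * x ≠ x * v ∧ v ^ 2 = 1) →
      (v * x ∈ Q ∧ (v * x) * x ≠ x * (v * x) ∧ (v * x) ^ 2 = 1) := by
    intro v hv
    refine ⟨Q.mul_mem hv.1 hx, fun e => hv.2.1 ((qk_comm_mul_self h hv.1 hx).1 e), ?_⟩
    rw [qk_sq_mul_anti h hv.1 hx hv.2.1, hv.2.2, hx2, one_mul, hzz]
  have hpow : ∀ n : ℕ, ∀ v : G, (v ∈ Q ∧ v * x ≠ x * v ∧ v ^ 2 = 1) →
      (v * x ^ n ∈ Q ∧ (v * x ^ n) * x ≠ x * (v * x ^ n) ∧ (v * x ^ n) ^ 2 = 1) := by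
    intro n
    induction n with
    | zero => intro v hv; simpa using hv
    | succ n ih =>
      intro v hv
      have h1 := ih (v * x) (hstep v hv)
      rw [pow_succ', ← mul_assoc]
      exact h1
  have hord : orderOf x = 4 := by
    have h1 : ¬ x ^ 2 ^ 1 = 1 := by
      rw [pow_one, hx2]; exact hz1
    have e4 : x ^ 4 = 1 := by
      have e : x ^ 4 = (x ^ 2) ^ 2 := by rw [← pow_mul]
      rw [e, hx2, h.z_sq]
    have h2 : x ^ 2 ^ (1 + 1) = 1 := e4
    exact orderOf_eq_prime_pow h1 h2
  have hdvd : 4 ∣ (Finset.univ.filter (fun v : G => v ∈ Q ∧ v * x ≠ x * v ∧ v ^ 2 = 1)).card := by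
    rw [← ncard_filter]
    have h4 : Nat.card (Subgroup.zpowers x) = 4 := by rw [Nat.card_zpowers, hord]
    rw [← h4]
    apply card_dvd_of_mul_right_stable
    intro v hv g hg
    rw [← mem_powers_iff_mem_zpowers] at hg
    obtain ⟨n, rfl⟩ := hg
    exact hpow n v hv
  obtain ⟨m, hm⟩ := hdvd
  refine ⟨m, ?_⟩
  rw [ncard_filter, ← hm, ← hC1, ← Finset.card_union_of_disjoint]
  · congr 1
    ext v
    simp only [Finset.mem_union, Finset.mem_filter, Finset.mem_univ, true_and]
    constructor
    · intro hv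
      by_cases e : v * x = x * v
      · exact Or.inl ⟨hv.1, e, hv.2⟩
      · exact Or.inr ⟨hv.1, e, hv.2⟩
    · rintro (hv | hv)
      · exact ⟨hv.1, hv.2.2⟩
      · exact ⟨hv.1, hv.2.2⟩
  · rw [Finset.disjoint_left]
    intro v hv1 hv2
    simp only [Finset.mem_filter, Finset.mem_univ, true_and] at hv1 hv2
    exact hv2.2.1 hv1.2.1

end Cfsg.Agent.Lib.helper72.S3313
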