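/-
helper72: S3313 piece E4 (`invol_comm`): the involutions of `Q` commuting with a
non-central involution `a` are `1, z, a, a*z` (given that `Q` has 12 elements of square 1).
-/
import Mathlib
import Cfsg.Agent.Lib.helper6.S3313Defs
import Cfsg.Agent.Lib.helper72.S3313E1

set_option autoImplicit false

namespace Cfsg.Agent.Lib.helper72.S3313

open Cfsg.Agent.Lib.helper6.S3313

variable {G : Type*} [Group G] [Finite G]

/-- E4 -/
theorem invol_comm {z : G} {Q K : Subgroup G} (h : QK z Q K)
    (h12 : Nat.card {v : G // v ∈ Q ∧ v ^ 2 = 1} = 12)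
    (a : G) (ha : a ∈ Q) (ha2 : a ^ 2 = 1) (ha1 : a ≠ 1) (haz : a ≠ z)
    (v : G) (hv : v ∈ Q) (hv2 : v ^ 2 = 1) (hva : v * a = a * v) :
    v = 1 ∨ v = z ∨ v = a ∨ v = a * z := by
  classical
  have : Fintype G := Fintype.ofFinite G
  have hz1 := h.z_ne
  have hzz := qk_zz h
  obtain ⟨-, hD⟩ := qk_card_cent h ha ha1 haz
  -- the non-centralizer part: exactly 8 elements of square 1
  have hD1z : (Finset.univ.filter (fun v : G => v ∈ Q ∧ v * a ≠ a * v ∧ v ^ 2 = 1)).card +
      (Finset.univ.filter (fun v : G => v ∈ Q ∧ v * a ≠ a * v ∧ v ^ 2 = z)).card = 16 := by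
    rw [← hD, ← Finset.card_union_of_disjoint]
    · congr 1
      ext v
      simp only [Finset.mem_union, Finset.mem_filter, Finset.mem_univ, true_and]
      constructor
      · rintro (hv | hv)
        · exact ⟨hv.1, hv.2.1⟩
        · exact ⟨hv.1, hv.2.1⟩
      · intro hv
        rcases h.sq v hv.1 with e | e
        · exact Or.inl ⟨hv.1, hv.2, e⟩
        · exact Or.inr ⟨hv.1, hv.2, e⟩
    · rw [Finset.disjoint_left]
      intro v hv1 hv2
      simp only [Finset.mem_filter, Finset.mem_univ, true_and] at hv1 hv2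
      exact hz1 (hv2.2.2.symm.trans hv1.2.2)
  have hle1 : (Finset.univ.filter (fun v : G => v ∈ Q ∧ v * a ≠ a * v ∧ v ^ 2 = 1)).card ≤
      (Finset.univ.filter (fun v : G => v ∈ Q ∧ v * a ≠ a * v ∧ v ^ 2 = z)).card := by
    apply Finset.card_le_card_of_injOn (fun v => v * a)
    · intro v hv
      simp only [Finset.coe_filter, Finset.mem_univ, true_and, Set.mem_ofPred_eq] at hv ⊢
      refine ⟨Q.mul_mem hv.1 ha, fun e => hv.2.1 ((qk_comm_mul_self h hv.1 ha).1 e), ?_⟩
      rw [qk_sq_mul_anti h hv.1 ha hv.2.1, hv.2.2, ha2, one_mul, one_mul]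
    · exact fun a _ b _ hab => mul_right_cancel hab
  have hle2 : (Finset.univ.filter (fun v : G => v ∈ Q ∧ v * a ≠ a * v ∧ v ^ 2 = z)).card ≤
      (Finset.univ.filter (fun v : G => v ∈ Q ∧ v * a ≠ a * v ∧ v ^ 2 = 1)).card := by
    apply Finset.card_le_card_of_injOn (fun v => v * a)
    · intro v hv
      simp only [Finset.coe_filter, Finset.mem_univ, true_and, Set.mem_ofPred_eq] at hv ⊢
      refine ⟨Q.mul_mem hv.1 ha, fun e => hv.2.1 ((qk_comm_mul_self h hv.1 ha).1 e), ?_⟩
      rw [qk_sq_mul_anti h hv.1 ha hv.2.1, hv.2.2, ha2, mul_one, hzz]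
    · exact fun a _ b _ hab => mul_right_cancel hab
  have hD1 : (Finset.univ.filter (fun v : G => v ∈ Q ∧ v * a ≠ a * v ∧ v ^ 2 = 1)).card = 8 := by
    omega
  -- hence exactly 4 elements of the centralizer have square 1
  have hI : (Finset.univ.filter (fun v : G => v ∈ Q ∧ v ^ 2 = 1)).card = 12 := by
    rw [← ncard_filter]; exact h12
  have hsplit : (Finset.univ.filter (fun v : G => v ∈ Q ∧ v * a = a * v ∧ v ^ 2 = 1)).card +
      (Finset.univ.filter (fun v : G => v ∈ Q ∧ v * a ≠ a * v ∧ v ^ 2 = 1)).card = 12 := by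
    rw [← hI, ← Finset.card_union_of_disjoint]
    · congr 1
      ext v
      simp only [Finset.mem_union, Finset.mem_filter, Finset.mem_univ, true_and]
      constructor
      · rintro (hv | hv)
        · exact ⟨hv.1, hv.2.2⟩
        · exact ⟨hv.1, hv.2.2⟩
      · intro hv
        by_cases e : v * a = a * v
        · exact Or.inl ⟨hv.1, e, hv.2⟩
        · exact Or.inr ⟨hv.1, e, hv.2⟩
    · rw [Finset.disjoint_left]
      intro v hv1 hv2
      simp only [Finset.mem_filter, Finset.mem_univ, true_and] at hv1 hv2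
      exact hv2.2.1 hv1.2.1
  have hC1 : (Finset.univ.filter (fun v : G => v ∈ Q ∧ v * a = a * v ∧ v ^ 2 = 1)).card = 4 := by
    omega
  -- the four obvious elements
  have hza : z * a = a * z := qk_zc h ha
  have haz1 : a * z ≠ 1 := by
    intro e
    apply haz
    have e2 : a * z = z * z := by rw [e, hzz]
    exact mul_right_cancel e2
  have haza : a * z ≠ a := by
    intro e
    exact hz1 (by simpa using e)
  have hazz : a * z ≠ z := by
    intro e
    exact ha1 (by simpa using e)
  have hF : ({1, z, a, a * z} : Finset G).card = 4 := by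
    rw [Finset.card_insert_of_notMem, Finset.card_insert_of_notMem,
      Finset.card_insert_of_notMem, Finset.card_singleton]
    · simp only [Finset.mem_singleton]
      exact fun e => haza e.symm
    · simp only [Finset.mem_insert, Finset.mem_singleton, not_or]
      exact ⟨fun e => haz e.symm, fun e => hazz e.symm⟩
    · simp only [Finset.mem_insert, Finset.mem_singleton, not_or]
      exact ⟨fun e => hz1 e.symm, fun e => ha1 e.symm, fun e => haz1 e.symm⟩
  have hsub : ({1, z, a, a * z} : Finset G) ⊆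
      Finset.univ.filter (fun v : G => v ∈ Q ∧ v * a = a * v ∧ v ^ 2 = 1) := by
    intro w hw
    simp only [Finset.mem_insert, Finset.mem_singleton] at hw
    simp only [Finset.mem_filter, Finset.mem_univ, true_and]
    rcases hw with rfl | rfl | rfl | rfl
    · exact ⟨Q.one_mem, by simp, by simp⟩
    · exact ⟨h.z_mem, hza, h.z_sq⟩
    · exact ⟨ha, rfl, ha2⟩
    · refine ⟨Q.mul_mem ha h.z_mem, ?_, ?_⟩
      · rw [mul_assoc, hza, ← mul_assoc]
      · rw [qk_sq_mul_comm hza.symm, ha2, h.z_sq, one_mul]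
  have heq := Finset.eq_of_subset_of_card_le hsub (by rw [hC1, hF])
  have hmem : v ∈ Finset.univ.filter (fun v : G => v ∈ Q ∧ v * a = a * v ∧ v ^ 2 = 1) := by
    simp only [Finset.mem_filter, Finset.mem_univ, true_and]
    exact ⟨hv, hva, hv2⟩
  rw [← heq] at hmem
  simpa only [Finset.mem_insert, Finset.mem_singleton] using hmem

end Cfsg.Agent.Lib.helper72.S3313
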