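import Mathlib
import Cfsg.Agent.Lib.helper79.PearlX
import Cfsg.Agent.Lib.helper80.PearlF34

set_option autoImplicit false
open Cfsg

namespace Cfsg.Agent.Lib.helper79.P3

open Cfsg.Agent.Lib.helper68

/-- Sub-piece (c) of NONUNIF, core: cube depth. Hypotheses: `P_2` abelian (P2AB), the Y-shift (b),
`com h x ∉ P_3` and `h ^ 3 ∈ P_2`. -/
theorem h72_p3_nonunif_c_core {G : Type*} [Group G] [Finite G] (n : ℕ) (hn : 5 ≤ n) (hG : Nat.card G = 3 ^ n) (x : G)
    (hx : x ^ 3 = 1) (hC : Nat.card (Subgroup.centralizer ({x} : Set G)) = 3 ^ 2)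
    (hab : ∀ a ∈ gam G 2, ∀ b ∈ gam G 2, a * b = b * a) (h : G)
    (hb : ∀ j, 2 ≤ j → ∀ v ∈ gam G j, com v h ∈ gam G (j + 2))
    (hc3 : com h x ∉ gam G 3) (h3P2 : h ^ 3 ∈ gam G 2) :
    h ^ 3 ∈ gam G 3 ∧ h ^ 3 ∉ gam G 4 := by
  have hp3 : Fact (Nat.Prime 3) := ⟨by norm_num⟩
  have hnil : gam G n = ⊥ := by
    have h1 := Cfsg.Agent.Lib.helper79.h79_px_card 3 n hG x hC (by omega) n (by omega) le_rfl
    rw [Nat.sub_self, pow_zero] at h1
    exact (Subgroup.card_eq_one).mp h1
  have honto : ∀ w, 1 ≤ w → ∀ y ∈ gam G (w + 1), ∃ g ∈ gam G w, com x g = y := by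
    intro w hw y hy
    by_cases hwn : w + 1 ≤ n
    · exact Cfsg.Agent.Lib.helper79.h79_px_onto 3 n hG x hC (by omega) w hw hwn y hy
    · have h1 : y ∈ gam G n := gam_antitone (by omega) hy
      rw [hnil, Subgroup.mem_bot] at h1
      subst h1
      refine ⟨1, Subgroup.one_mem _, ?_⟩
      unfold com
      group
  have huni : ∀ i, 2 ≤ i → i + 2 ≤ n → ∀ m ∈ gam G i, m ∉ gam G (i + 1) → com m x ∉ gam G (i + 2) :=
    fun i hi hin m hm hm' => (Cfsg.Agent.Lib.helper79.h79_px_unis 3 n hG x hC (by omega) i hi hin m hm hm').2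
  have F := Cfsg.Agent.Lib.helper80.PearlF34.pearl_f34 3 n x hx hnil honto huni
  have hg1 : ∀ g : G, g ∈ gam G 1 := fun g => by simp [gam]
  -- the elements c, d, e
  have hc2 : com h x ∈ gam G 2 := com_mem (hg1 h) (hg1 x)
  have hd4 : com (com h x) h ∈ gam G 4 := hb 2 le_rfl _ hc2
  have he6 : com (com (com h x) h) h ∈ gam G 6 := hb 4 (by norm_num) _ hd4
  have hd2 : com (com h x) h ∈ gam G 2 := gam_antitone (by norm_num) hd4
  have he2 : com (com (com h x) h) h ∈ gam G 2 := gam_antitone (by norm_num) he6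
  have key : com (h ^ 3) x = com h x * (com (com h x) h * (com (com h x) h * com (com (com h x) h) h)) *
      (com h x * com (com h x) h) * com h x := by
    have h3 : h ^ 3 = h * h * h := by simp [pow_succ]
    rw [h3]
    unfold com
    group
  -- commutativity
  have hQ2 : com (com h x) h * (com (com h x) h * com (com (com h x) h) h) ∈ gam G 2 :=
    Subgroup.mul_mem _ hd2 (Subgroup.mul_mem _ hd2 he2)
  have hQc : com (com h x) h * (com (com h x) h * com (com (com h x) h) h) * com h x =
      com h x * (com (com h x) h * (com (com h x) h * com (com (com h x) h) h)) := hab _ hQ2 _ hc2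
  have hQd2 : com (com h x) h * (com (com h x) h * com (com (com h x) h) h) * com (com h x) h ∈ gam G 2 :=
    Subgroup.mul_mem _ hQ2 hd2
  have hQdc : com (com h x) h * (com (com h x) h * com (com (com h x) h) h) * com (com h x) h * com h x =
      com h x * (com (com h x) h * (com (com h x) h * com (com (com h x) h) h) * com (com h x) h) := hab _ hQd2 _ hc2
  have hed : com (com (com h x) h) h * com (com h x) h = com (com h x) h * com (com (com h x) h) h := hab _ he2 _ hd2
  have key2 : com (h ^ 3) x = (com h x) ^ 3 * ((com (com h x) h) ^ 3 * com (com (com h x) h) h) := by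
    rw [key]
    generalize com h x = c at *
    generalize com c h = d at *
    generalize com d h = e at *
    calc c * (d * (d * e)) * (c * d) * c = c * ((d * (d * e)) * c) * d * c := by simp only [mul_assoc]
      _ = c * (c * (d * (d * e))) * d * c := by rw [hQc]
      _ = c * c * ((d * (d * e)) * d * c) := by simp only [mul_assoc]
      _ = c * c * (c * ((d * (d * e)) * d)) := by rw [hQdc]
      _ = c * c * (c * (d * (d * (e * d)))) := by simp only [mul_assoc]
      _ = c * c * (c * (d * (d * (d * e)))) := by rw [hed]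
      _ = c ^ 3 * (d ^ 3 * e) := by simp only [pow_succ, pow_zero, one_mul, mul_assoc]
  -- depths
  have hc3' := F 2 le_rfl _ hc2
  have hcube4 : (com h x) ^ 3 ∈ gam G 4 := hc3'.1
  have hcube5 : (com h x) ^ 3 ∉ gam G 5 := hc3'.2 (by omega) hc3
  have hd3 : (com (com h x) h) ^ 3 ∈ gam G 6 := (F 4 (by norm_num) _ hd4).1
  have hrest6 : (com (com h x) h) ^ 3 * com (com (com h x) h) h ∈ gam G 6 := Subgroup.mul_mem _ hd3 he6
  have hK4 : com (h ^ 3) x ∈ gam G 4 := by
    rw [key2]
    exact Subgroup.mul_mem _ hcube4 (gam_antitone (by norm_num) hrest6)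
  have hK5 : com (h ^ 3) x ∉ gam G 5 := by
    intro hcon
    rw [key2] at hcon
    apply hcube5
    have h5 : (com (com h x) h) ^ 3 * com (com (com h x) h) h ∈ gam G 5 := gam_antitone (by norm_num) hrest6
    have := Subgroup.mul_mem _ hcon (Subgroup.inv_mem _ h5)
    have e : com h x ^ 3 * (com (com h x) h ^ 3 * com (com (com h x) h) h) *
        (com (com h x) h ^ 3 * com (com (com h x) h) h)⁻¹ = com h x ^ 3 := by
      rw [mul_assoc, mul_inv_cancel, mul_one]
    rwa [e] at this
  constructor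
  · by_contra hcon
    exact (huni 2 le_rfl (by omega) _ h3P2 hcon) hK4
  · intro hcon
    exact hK5 (com_mem hcon (hg1 x))

end Cfsg.Agent.Lib.helper79.P3
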