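/-
helper72: S4291 piece U1 (`zs_noV4_map`): the image of a subgroup with cyclic Sylow subgroups
contains no Klein four-group.
-/
import Cfsg.Agent.Lib.helper7.SixDefs

set_option autoImplicit false

namespace Cfsg.Agent.Lib.helper72

open Cfsg.Agent.Lib.helper7.Six

/-- The closure of two commuting elements is commutative. -/
theorem six_closure_pair_comm {K : Type*} [Group K] (a b : K) (hab : a * b = b * a) :
    ∀ x ∈ Subgroup.closure ({a, b} : Set K), ∀ y ∈ Subgroup.closure ({a, b} : Set K),
      x * y = y * x := by
  have hs : ({a, b} : Set K) ⊆ Subgroup.centralizer ({a, b} : Set K) := by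
    intro x hx
    rw [SetLike.mem_coe, Subgroup.mem_centralizer_iff]
    intro y hy
    rcases hx with rfl | rfl <;> rcases hy with rfl | rfl
    · rfl
    · exact hab.symm
    · exact hab
    · rfl
  have h1 : Subgroup.closure ({a, b} : Set K) ≤ Subgroup.centralizer ({a, b} : Set K) :=
    (Subgroup.closure_le _).2 hs
  have h2 := Subgroup.closure_le_centralizer_centralizer ({a, b} : Set K)
  intro x hx y hy
  have h3 := h2 hx
  rw [Subgroup.mem_centralizer_iff] at h3
  exact (h3 y (h1 hy)).symm

/-- The closure of two commuting involutions has exponent 2. -/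
theorem six_closure_pair_sq {K : Type*} [Group K] (a b : K) (hab : a * b = b * a)
    (ha : a ^ 2 = 1) (hb : b ^ 2 = 1) :
    ∀ x ∈ Subgroup.closure ({a, b} : Set K), x ^ 2 = 1 := by
  intro x hx
  induction hx using Subgroup.closure_induction with
  | mem x hx =>
    rcases hx with rfl | rfl
    · exact ha
    · exact hb
  | one => exact one_pow 2
  | mul x y hx hy ihx ihy =>
    have hc : Commute x y := six_closure_pair_comm a b hab x hx y hy
    rw [hc.mul_pow, ihx, ihy, one_mul]
  | inv x hx ihx => rw [inv_pow, ihx, inv_one]

/-- PIECE U1 -/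
theorem zs_noV4_map {G Q : Type*} [Group G] [Finite G] [Group Q] (f : G →* Q)
    (N : Subgroup G) (hN : ZS N) : NoV4 (N.map f) := by
  classical
  intro a ha b hb ha2 hb2 hab
  by_contra hcon
  push Not at hcon
  obtain ⟨ha1, hb1, hne⟩ := hcon
  have : IsZGroup N := ⟨fun p hp P => by
    have := Fact.mk hp
    exact hN p P⟩
  have : Finite (N.map f) :=
    Finite.of_surjective (f.subgroupMap N) (f.subgroupMap_surjective N)
  have : IsZGroup (N.map f) := IsZGroup.of_surjective (f.subgroupMap_surjective N)
  let a' : N.map f := ⟨a, ha⟩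
  let b' : N.map f := ⟨b, hb⟩
  have hab' : a' * b' = b' * a' := Subtype.ext hab
  have ha2' : a' ^ 2 = 1 := Subtype.ext ha2
  have hb2' : b' ^ 2 = 1 := Subtype.ext hb2
  let P : Subgroup (N.map f) := Subgroup.closure ({a', b'} : Set (N.map f))
  have hsq := six_closure_pair_sq a' b' hab' ha2' hb2'
  have hP : IsPGroup 2 P := by
    intro g
    refine ⟨1, ?_⟩
    apply Subtype.ext
    rw [pow_one]
    exact hsq g.1 g.2
  have : IsCyclic P := hP.isCyclic_of_isZGroup
  have : Fintype P := Fintype.ofFinite P
  have hle := IsCyclic.card_pow_eq_one_le (α := P) (n := 2) (by norm_num)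
  have haP : a' ∈ P := Subgroup.subset_closure (by simp)
  have hbP : b' ∈ P := Subgroup.subset_closure (by simp)
  have hlt : 2 < (Finset.univ.filter (fun x : P => x ^ 2 = 1)).card := by
    rw [Finset.two_lt_card_iff]
    refine ⟨1, ⟨a', haP⟩, ⟨b', hbP⟩, by simp, ?_, ?_, ?_, ?_, ?_⟩
    · simp only [Finset.mem_filter, Finset.mem_univ, true_and]
      exact Subtype.ext ha2'
    · simp only [Finset.mem_filter, Finset.mem_univ, true_and]
      exact Subtype.ext hb2'
    · intro e
      apply ha1
      have := congrArg (fun x : P => ((x : N.map f) : Q)) e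
      exact this.symm
    · intro e
      apply hb1
      have := congrArg (fun x : P => ((x : N.map f) : Q)) e
      exact this.symm
    · intro e
      apply hne
      have := congrArg (fun x : P => ((x : N.map f) : Q)) e
      exact this
  omega

end Cfsg.Agent.Lib.helper72
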