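/-
helper72: S4291 piece U3 (`v4_unique`): if every 2-subgroup of `G` is cyclic or generalized
quaternion, any two surjections `G → V4` have the same kernel.
-/
import Cfsg.Agent.Lib.helper7.SixDefs

set_option autoImplicit false

namespace Cfsg.Agent.Lib.helper72

open Cfsg.Agent.Lib.helper7.Six

theorem six_v4sq : ∀ x : DihedralGroup 2, x ^ 2 = 1 := by decide

theorem six_v4v4sq (x : DihedralGroup 2 × DihedralGroup 2) : x ^ 2 = 1 := by
  apply Prod.ext
  · exact six_v4sq x.1
  · exact six_v4sq x.2

theorem six_v4pow (x : DihedralGroup 2 × DihedralGroup 2) (k : ℕ) : x ^ k = 1 ∨ x ^ k = x := by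
  rcases Nat.even_or_odd' k with ⟨m, rfl | rfl⟩
  · left
    rw [pow_mul, six_v4v4sq, one_pow]
  · right
    rw [pow_succ, pow_mul, six_v4v4sq, one_pow, one_mul]

/-- The image of `G` in `V4 × V4` has at most 4 elements. -/
theorem six_v4_image_le {G : Type*} [Group G] [Finite G]
    (hpg : ∀ P : Subgroup G, IsPGroup 2 P →
      IsCyclic P ∨ ∃ n : ℕ, Nonempty (P ≃* QuaternionGroup (2 ^ n)))
    (F : G →* DihedralGroup 2 × DihedralGroup 2) : Nat.card F.range ≤ 4 := by
  classical
  obtain ⟨T⟩ : Nonempty (Sylow 2 G) := inferInstance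
  -- the image of `T` is everything
  have hT : ∀ g : G, ∃ t ∈ (T : Subgroup G), F g = F t := by
    intro g
    have hsurj : Function.Surjective F.rangeRestrict := F.rangeRestrict_surjective
    have hR : IsPGroup 2 (⊤ : Subgroup F.range) := by
      intro x
      refine ⟨1, ?_⟩
      apply Subtype.ext
      apply Subtype.ext
      rw [pow_one]
      exact six_v4v4sq _
    have htop : ((T.mapSurjective hsurj : Sylow 2 F.range) : Subgroup F.range) = ⊤ :=
      ((T.mapSurjective hsurj).is_maximal' hR le_top).symm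
    rw [Sylow.coe_mapSurjective] at htop
    have hmem : F.rangeRestrict g ∈ (T : Subgroup G).map F.rangeRestrict := by
      rw [htop]
      trivial
    obtain ⟨t, ht, hte⟩ := hmem
    refine ⟨t, ht, ?_⟩
    have := congrArg Subtype.val hte
    exact this.symm
  -- a finset of size ≤ 4 containing the image of `T`
  have hS : ∃ S : Finset (DihedralGroup 2 × DihedralGroup 2), S.card ≤ 4 ∧
      ∀ t ∈ (T : Subgroup G), F t ∈ S := by
    rcases hpg T T.isPGroup' with hc | ⟨n, ⟨e⟩⟩
    · obtain ⟨g, hg⟩ := hc.exists_generator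
      refine ⟨{1, F g}, Finset.card_le_two.trans (by norm_num), ?_⟩
      intro t ht
      have h1 := hg ⟨t, ht⟩
      rw [← mem_powers_iff_mem_zpowers] at h1
      obtain ⟨k, hk⟩ := h1
      have h2 : F t = (F g) ^ k := by
        have h3 := congrArg (fun x : (T : Subgroup G) => F x) hk
        simp only [Subgroup.coe_pow, map_pow] at h3
        exact h3.symm
      rw [h2]
      rcases six_v4pow (F g) k with h | h <;> simp [h]
    · let ψ : QuaternionGroup (2 ^ n) →* DihedralGroup 2 × DihedralGroup 2 :=
        (F.comp (T : Subgroup G).subtype).comp e.symm.toMonoidHom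
      refine ⟨{1, ψ (QuaternionGroup.a 1), ψ (QuaternionGroup.xa 0),
        ψ (QuaternionGroup.xa 0) * ψ (QuaternionGroup.a 1)}, Finset.card_le_four, ?_⟩
      intro t ht
      have e1 : F t = ψ (e ⟨t, ht⟩) := by
        show F t = F ((e.symm (e ⟨t, ht⟩) : (T : Subgroup G)) : G)
        rw [e.symm_apply_apply]
      rw [e1]
      have hpow : ∀ i : ZMod (2 * 2 ^ n), ψ (QuaternionGroup.a i) = 1 ∨
          ψ (QuaternionGroup.a i) = ψ (QuaternionGroup.a 1) := by
        intro i
        have : NeZero (2 * 2 ^ n) := ⟨by positivity⟩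
        have h3 : (QuaternionGroup.a i : QuaternionGroup (2 ^ n)) =
            (QuaternionGroup.a 1) ^ i.val := by
          rw [QuaternionGroup.a_one_pow, ZMod.natCast_zmod_val]
        rw [h3, map_pow]
        exact six_v4pow _ _
      rcases e ⟨t, ht⟩ with i | i
      · rcases hpow i with h | h <;> simp [h]
      · have h4 : (QuaternionGroup.xa i : QuaternionGroup (2 ^ n)) =
            QuaternionGroup.xa 0 * QuaternionGroup.a i := by
          rw [QuaternionGroup.xa_mul_a, zero_add]
        rw [h4, map_mul]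
        rcases hpow i with h | h <;> simp [h]
  obtain ⟨S, hS4, hS⟩ := hS
  have hsub : (F.range : Set (DihedralGroup 2 × DihedralGroup 2)) ⊆ (S : Set _) := by
    rintro _ ⟨g, rfl⟩
    obtain ⟨t, ht, hgt⟩ := hT g
    rw [hgt]
    exact hS t ht
  have h5 : Nat.card (F.range : Set (DihedralGroup 2 × DihedralGroup 2)) ≤
      Nat.card (S : Set (DihedralGroup 2 × DihedralGroup 2)) :=
    Nat.card_mono S.finite_toSet hsub
  have h6 : Nat.card (S : Set (DihedralGroup 2 × DihedralGroup 2)) = S.card := by
    rw [Nat.card_coe_set_eq, Set.ncard_coe_finset]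
  have h7 : Nat.card F.range = Nat.card (F.range : Set (DihedralGroup 2 × DihedralGroup 2)) :=
    rfl
  omega

/-- PIECE U3 -/
theorem v4_unique {G : Type*} [Group G] [Finite G]
    (hpg : ∀ P : Subgroup G, IsPGroup 2 P →
      IsCyclic P ∨ ∃ n : ℕ, Nonempty (P ≃* QuaternionGroup (2 ^ n)))
    (f₁ f₂ : G →* DihedralGroup 2) (h₁ : Function.Surjective f₁) (h₂ : Function.Surjective f₂) :
    f₁.ker = f₂.ker := by
  have key : ∀ (f g : G →* DihedralGroup 2), Function.Surjective f →
      (f.prod g).ker = f.ker := by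
    intro f g hf
    have hle : (f.prod g).ker ≤ f.ker := by
      rw [MonoidHom.ker_prod]
      exact inf_le_left
    have h4 : f.ker.index = 4 := by
      rw [Subgroup.index_ker, MonoidHom.range_eq_top.2 hf, Subgroup.card_top,
        DihedralGroup.nat_card]
    have h5 : (f.prod g).ker.index ≤ 4 := by
      rw [Subgroup.index_ker]
      exact six_v4_image_le hpg _
    have h6 := Subgroup.relIndex_mul_index hle
    have h7 : (f.prod g).ker.index ≠ 0 := Subgroup.index_ne_zero_of_finite
    have h8 : (f.prod g).ker.relIndex f.ker = 1 := by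
      rw [h4] at h6
      omega
    exact le_antisymm hle (Subgroup.relIndex_eq_one.1 h8)
  have k1 := key f₁ f₂ h₁
  have k2 : (f₁.prod f₂).ker = f₂.ker := by
    rw [MonoidHom.ker_prod, inf_comm, ← MonoidHom.ker_prod]
    exact key f₂ f₁ h₂
  rw [← k1, k2]

end Cfsg.Agent.Lib.helper72
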