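import Mathlib
import Cfsg.Agent.Lib.helper2.BGDefs
import Cfsg.Agent.Lib.helper20.D1EFinal
import Cfsg.Agent.Lib.helper4.CharDecomp
import Cfsg.Agent.Lib.helper81.Kernel
import Cfsg.Agent.Lib.helper82.CharSums

/-!
# S4504 piece O (`sylow_count`), race copy by helper72 (`helper72_sylow_count`)
-/

set_option autoImplicit false

open Cfsg Cfsg.Agent.Lib.helper20.D1E Cfsg.Agent.Lib.helper2.BF
open scoped ComplexConjugate

namespace Cfsg.Agent.Lib.helper2.BG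

/-- The arithmetic core of O. -/
theorem helper72_sylow_arith (p d e z N Gc S2 S4 : ℝ) (hp5 : 5 ≤ p) (hd : 2 * d + 1 = p)
    (he : 2 * e + 1 = p) (hz : 0 < z) (hcard : Gc = N * (e * p * z))
    (hm2 : 2 * p * S2 = Gc * (p - 1)) (hm4 : 8 * p * S4 = Gc * (p ^ 2 - 1))
    (hS : S4 ≤ S2 + z * (d ^ 4 - d ^ 2)) : N ≤ p + 1 := by
  have hde : e = d := by linarith
  subst hde
  have hd2 : 2 ≤ e := by linarith
  have hp : p = 2 * e + 1 := by linarith
  subst hp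
  have h1 : 8 * (2 * e + 1) * S4 ≤ 8 * (2 * e + 1) * (S2 + z * (e ^ 4 - e ^ 2)) :=
    mul_le_mul_of_nonneg_left hS (by linarith)
  have h2 : Gc * ((2 * e + 1) ^ 2 - 1)
      ≤ 4 * (Gc * ((2 * e + 1) - 1)) + 8 * (2 * e + 1) * z * (e ^ 4 - e ^ 2) := by
    linarith [h1, hm2, hm4]
  rw [hcard] at h2
  have hA : 0 < 4 * (2 * e + 1) * z * e ^ 2 * (e - 1) := by
    have h3 : (0 : ℝ) < 2 * e + 1 := by linarith
    have h4 : (0 : ℝ) < e ^ 2 := by positivity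
    have h5 : (0 : ℝ) < e - 1 := by linarith
    positivity
  have h3 : (4 * (2 * e + 1) * z * e ^ 2 * (e - 1)) * N
      ≤ (4 * (2 * e + 1) * z * e ^ 2 * (e - 1)) * ((2 * e + 1) + 1) := by
    linarith [h2]
  exact le_of_mul_le_mul_left h3 hA

variable {G : Type*} [Group G] [Fintype G]

/-- O (the Sylow count). -/
theorem helper72_sylow_count (p : ℕ) [Fact p.Prime] (hp5 : 5 ≤ p) (P : Sylow p G)
    (ψ : IrrCharacter G) (hdeg : 2 * charDegree (ψ : G → ℂ) + 1 = p)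
    (H : Subgroup (ZMod p)ˣ) (he : 2 * Nat.card H + 1 = p)
    (hZ : ∀ z ∈ Subgroup.center G, ¬ p ∣ orderOf z)
    (hcard : Nat.card G =
      Nat.card (Sylow p G) * (Nat.card H * p * Nat.card (Subgroup.center G)))
    (hm2 : (2 * (p : ℝ)) * ∑ g : G, Set.indicator {g : G | ¬ p ∣ orderOf g}
        (fun g => ‖(ψ : G → ℂ) g‖ ^ 2) g = (Nat.card G : ℝ) * ((p : ℝ) - 1))
    (hm4 : (8 * (p : ℝ)) * ∑ g : G, Set.indicator {g : G | ¬ p ∣ orderOf g}
        (fun g => ‖(ψ : G → ℂ) g‖ ^ 4) g = (Nat.card G : ℝ) * ((p : ℝ) ^ 2 - 1))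
    (hb : ∀ h : G, ¬ p ∣ orderOf h → h ∉ Subgroup.center G → ‖(ψ : G → ℂ) h‖ ≤ 1) :
    Nat.card (Sylow p G) ≤ p + 1 := by
  classical
  obtain ⟨d, hd⟩ : ∃ d : ℕ, d = charDegree (ψ : G → ℂ) := ⟨_, rfl⟩
  rw [← hd] at hdeg
  have hdR : (2 : ℝ) * (d : ℝ) + 1 = (p : ℝ) := by exact_mod_cast hdeg
  have heR : (2 : ℝ) * (Nat.card H : ℝ) + 1 = (p : ℝ) := by exact_mod_cast he
  have hnorm : ∀ g : G, ‖(ψ : G → ℂ) g‖ ≤ (d : ℝ) := fun g => by
    rw [hd]
    exact Cfsg.Agent.Lib.helper82.irr_norm_le ψ g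
  have hd1 : (1 : ℝ) ≤ (d : ℝ) := by
    have h : 1 ≤ d := by omega
    exact_mod_cast h
  have hc0 : (0 : ℝ) ≤ (d : ℝ) ^ 4 - (d : ℝ) ^ 2 := by
    have h1 : (0 : ℝ) ≤ (d : ℝ) ^ 2 - 1 := by nlinarith
    nlinarith [mul_nonneg (sq_nonneg (d : ℝ)) h1]
  -- the pointwise inequality
  have hpt : ∀ g : G,
      Set.indicator {g : G | ¬ p ∣ orderOf g} (fun g => ‖(ψ : G → ℂ) g‖ ^ 4) g
      ≤ Set.indicator {g : G | ¬ p ∣ orderOf g} (fun g => ‖(ψ : G → ℂ) g‖ ^ 2) g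
        + Set.indicator ((Subgroup.center G : Subgroup G) : Set G)
            (fun _ => (d : ℝ) ^ 4 - (d : ℝ) ^ 2) g := by
    intro g
    by_cases hg : p ∣ orderOf g
    · have hgc : g ∉ ((Subgroup.center G : Subgroup G) : Set G) := fun h => hZ g h hg
      have hgr : g ∉ {g : G | ¬ p ∣ orderOf g} := fun h => h hg
      rw [Set.indicator_of_notMem hgr, Set.indicator_of_notMem hgr,
        Set.indicator_of_notMem hgc, add_zero]
    · have hgr : g ∈ {g : G | ¬ p ∣ orderOf g} := hg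
      rw [Set.indicator_of_mem hgr, Set.indicator_of_mem hgr]
      have hn0 := norm_nonneg ((ψ : G → ℂ) g)
      by_cases hgc : g ∈ Subgroup.center G
      · have hgc' : g ∈ ((Subgroup.center G : Subgroup G) : Set G) := hgc
        rw [Set.indicator_of_mem hgc']
        have hle := hnorm g
        have h1 : (0 : ℝ) ≤ (d : ℝ) ^ 2 - ‖(ψ : G → ℂ) g‖ ^ 2 := by nlinarith
        have h2 : (0 : ℝ) ≤ (d : ℝ) ^ 2 + ‖(ψ : G → ℂ) g‖ ^ 2 - 1 := by nlinarith
        nlinarith [mul_nonneg h1 h2]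
      · have hgc' : g ∉ ((Subgroup.center G : Subgroup G) : Set G) := hgc
        rw [Set.indicator_of_notMem hgc', add_zero]
        have hle := hb g hg hgc
        have h1 : (0 : ℝ) ≤ 1 - ‖(ψ : G → ℂ) g‖ ^ 2 := by nlinarith
        nlinarith [mul_nonneg (sq_nonneg ‖(ψ : G → ℂ) g‖) h1]
  have hsum := Finset.sum_le_sum (fun g (_ : g ∈ (Finset.univ : Finset G)) => hpt g)
  rw [Finset.sum_add_distrib] at hsum
  have hcen : ∑ g : G, Set.indicator ((Subgroup.center G : Subgroup G) : Set G)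
      (fun _ => (d : ℝ) ^ 4 - (d : ℝ) ^ 2) g
      = (Nat.card (Subgroup.center G) : ℝ) * ((d : ℝ) ^ 4 - (d : ℝ) ^ 2) := by
    simp only [Set.indicator_apply, SetLike.mem_coe]
    rw [Finset.sum_ite, Finset.sum_const, Finset.sum_const_zero, add_zero, nsmul_eq_mul]
    congr 2
    rw [Nat.card_eq_fintype_card, Fintype.card_subtype]
  rw [hcen] at hsum
  have hzpos : (0 : ℝ) < (Nat.card (Subgroup.center G) : ℝ) := by
    have h : 0 < Nat.card (Subgroup.center G) := Nat.card_pos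
    exact_mod_cast h
  have hcardR : (Nat.card G : ℝ) = (Nat.card (Sylow p G) : ℝ) *
      ((Nat.card H : ℝ) * (p : ℝ) * (Nat.card (Subgroup.center G) : ℝ)) := by
    exact_mod_cast hcard
  have hp5R : (5 : ℝ) ≤ (p : ℝ) := by exact_mod_cast hp5
  have hfin := helper72_sylow_arith (p : ℝ) (d : ℝ) (Nat.card H : ℝ)
    (Nat.card (Subgroup.center G) : ℝ) (Nat.card (Sylow p G) : ℝ) (Nat.card G : ℝ) _ _
    hp5R hdR heR hzpos hcardR hm2 hm4 hsum
  exact_mod_cast hfin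

end Cfsg.Agent.Lib.helper2.BG
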