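import Mathlib

/-!
# S4504 piece R2 (`R_exists_sylow`), race copy by helper72 (`helper72_R_exists_sylow`)
-/

set_option autoImplicit false

namespace Cfsg.Agent.Lib.helper2.BG

universe u

/-- R2 (generic): an element of order `p` generates a Sylow `p`-subgroup when `p² ∤ |K|`. -/
theorem helper72_R_exists_sylow {K : Type u} [Group K] [Finite K] (p : ℕ) [Fact p.Prime]
    (hsq : ¬ p ^ 2 ∣ Nat.card K) (x : K) (hx : orderOf x = p) :
    ∃ Q : Sylow p K, (Q : Subgroup K) = Subgroup.zpowers x := by
  have hp : p.Prime := Fact.out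
  have hz : Nat.card (Subgroup.zpowers x) = p := by rw [Nat.card_zpowers, hx]
  have hpg : IsPGroup p (Subgroup.zpowers x) := IsPGroup.of_card (n := 1) (by rw [hz, pow_one])
  obtain ⟨Q, hQ⟩ := hpg.exists_le_sylow
  refine ⟨Q, ?_⟩
  have hcQ : Nat.card Q = p ^ (Nat.card K).factorization p := Sylow.card_eq_multiplicity Q
  have hle1 : (Nat.card K).factorization p ≤ 1 := by
    by_contra h
    push Not at h
    apply hsq
    have h2 : p ^ 2 ∣ p ^ (Nat.card K).factorization p := pow_dvd_pow p h
    exact h2.trans (Nat.ordProj_dvd _ _)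
  have hcard_le : Nat.card Q ≤ Nat.card (Subgroup.zpowers x) := by
    rw [hcQ, hz]
    calc p ^ (Nat.card K).factorization p ≤ p ^ 1 := Nat.pow_le_pow_right hp.pos hle1
      _ = p := pow_one p
  exact (Subgroup.eq_of_le_of_card_ge hQ hcard_le).symm

end Cfsg.Agent.Lib.helper2.BG
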