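import Mathlib

/-!
# S4504 piece R5 (`R_not_normal`), race copy by helper72 (`helper72_R_not_normal`)
-/

set_option autoImplicit false

namespace Cfsg.Agent.Lib.helper2.BG

universe u

/-- R5: a Sylow `p`-subgroup of order `p` of a normal subgroup is not normal in it. -/
theorem helper72_R_not_normal {G : Type u} [Group G] [Finite G] (p : ℕ) [Fact p.Prime]
    (hnn : ∀ H : Subgroup G, H.Normal → Nat.card H ≠ p) (N : Subgroup G) [N.Normal]
    (Q : Sylow p N) (hQ : Nat.card Q = p) : ¬ (Q : Subgroup N).Normal := by
  intro hnorm
  have hchar : (Q : Subgroup N).Characteristic := Sylow.characteristic_of_normal Q hnorm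
  have h1 : ((Q : Subgroup N).map N.subtype).Normal :=
    ConjAct.normal_of_characteristic_of_normal
  apply hnn _ h1
  rw [Subgroup.card_map_of_injective N.subtype_injective]
  exact hQ

end Cfsg.Agent.Lib.helper2.BG
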