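import Mathlib

/-!
# S4504 piece R6 (`R_card_sylow`), race copy by helper72 (`helper72_R_card_sylow`)
-/

set_option autoImplicit false

namespace Cfsg.Agent.Lib.helper2.BG

universe u

/-- A Sylow `p`-subgroup lies in every normal subgroup of index prime to `p`. -/
theorem helper72_sylow_le_normal {G : Type u} [Group G] [Finite G] (p : ℕ) [Fact p.Prime]
    (N : Subgroup G) [N.Normal] (hN : ¬ p ∣ N.index) (P : Sylow p G) :
    (P : Subgroup G) ≤ N := by
  intro g hg
  obtain ⟨k, hk⟩ := P.2 ⟨g, hg⟩
  have hk' : g ^ p ^ k = 1 := by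
    have h := congrArg Subtype.val hk
    simpa using h
  have h1 : (QuotientGroup.mk g : G ⧸ N) ^ p ^ k = 1 := by
    rw [← QuotientGroup.mk_pow, hk']
    rfl
  have h2 : (QuotientGroup.mk g : G ⧸ N) ^ N.index = 1 := by
    rw [Subgroup.index_eq_card]
    exact pow_card_eq_one'
  have hcop : Nat.Coprime (p ^ k) N.index :=
    Nat.Coprime.pow_left k ((Nat.Prime.coprime_iff_not_dvd Fact.out).mpr hN)
  have h3 : (QuotientGroup.mk g : G ⧸ N) = 1 := by
    have h := (pow_gcd_eq_one (a := (QuotientGroup.mk g : G ⧸ N))).mpr ⟨h1, h2⟩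
    rwa [hcop, pow_one] at h
  exact (QuotientGroup.eq_one_iff g).mp h3

/-- R6: a normal subgroup of index prime to `p` has the same number of Sylow `p`-subgroups. -/
theorem helper72_R_card_sylow {G : Type u} [Group G] [Finite G] (p : ℕ) [Fact p.Prime]
    (N : Subgroup G) [N.Normal] (hN : ¬ p ∣ N.index) :
    Nat.card (Sylow p N) = Nat.card (Sylow p G) := by
  have hle : ∀ P : Sylow p G, (P : Subgroup G) ≤ N := helper72_sylow_le_normal p N hN
  symm
  apply Nat.card_congr
  refine Equiv.ofBijective (fun P : Sylow p G => P.subtype (hle P)) ⟨?_, ?_⟩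
  · intro P P' h
    have h' : (P : Subgroup G).subgroupOf N = (P' : Subgroup G).subgroupOf N := by
      have h0 := congrArg (fun Q : Sylow p N => (Q : Subgroup N)) h
      simpa using h0
    rw [Subgroup.subgroupOf_inj, inf_eq_left.mpr (hle P), inf_eq_left.mpr (hle P')] at h'
    exact Sylow.ext h'
  · intro Q
    have hQp : IsPGroup p ((Q : Subgroup N).map N.subtype) := Q.2.map N.subtype
    obtain ⟨P, hP⟩ := hQp.exists_le_sylow
    refine ⟨P, ?_⟩
    have hQle : (Q : Subgroup N) ≤ (P.subtype (hle P) : Subgroup N) := by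
      intro y hy
      rw [Sylow.coe_subtype, Subgroup.mem_subgroupOf]
      exact hP (Subgroup.mem_map_of_mem _ hy)
    have h := Q.is_maximal' (P.subtype (hle P)).2 hQle
    exact Sylow.ext h

end Cfsg.Agent.Lib.helper2.BG
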