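import Mathlib
import Cfsg.Prelude.Def_Characters
import Cfsg.Prelude.Def_Blocks
import Cfsg.Prelude.Def_Solvable
import Cfsg.Prelude.Def_CaseTheorems
import Cfsg.Agent.Lib.helper84.BrDefs
import Cfsg.Agent.Lib.helper14.BR0Defs
import Cfsg.Agent.Lib.helper81.CharOrtho
import Cfsg.Agent.Lib.helper81.Kernel
import Cfsg.Agent.Lib.helper82.BFA1

/-!
# S4700 (Brauer–Reynolds) piece VK (`cent_eq`)

A character `χ ∈ X` of sign `-1` and degree `p - 1` takes the value `χ(1)` on every `p`-regular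
element of `C_G(P)` (finite Fourier analysis on `⟨x⟩`, `x ∈ P ∖ 1`: `Σ_{i<p} χ(x^i y) = 0`), so
these elements lie in the kernel of `χ`, a normal `p'`-subgroup; with `O_{p'}(G) = 1` they are
trivial, `C_G(P)` is a `p`-group containing the Sylow subgroup `P`, hence equal to it.
-/

set_option autoImplicit false

namespace Cfsg.Agent.Lib.helper72.BR

open Cfsg Cfsg.Agent.Lib.helper81 Cfsg.Agent.Lib.helper84.Br Cfsg.Agent.Lib.helper14.BR
open Cfsg.Agent.Lib.helper20.D1E Cfsg.Agent.Lib.helper2.BF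
open scoped ComplexConjugate

universe u

/-- A sum over `range p` of a function constant `= c` on `0 < i < p`. -/
theorem h72vk_sum_range_const (p : ℕ) (hp : 0 < p) (F : ℕ → ℂ) (c : ℂ)
    (hF : ∀ i, 0 < i → i < p → F i = c) :
    ∑ i ∈ Finset.range p, F i = F 0 + ((p : ℂ) - 1) * c := by
  obtain ⟨q, rfl⟩ : ∃ q, p = q + 1 := ⟨p - 1, by omega⟩
  rw [Finset.sum_range_succ']
  have h1 : ∑ i ∈ Finset.range q, F (i + 1) = ∑ _i ∈ Finset.range q, c :=
    Finset.sum_congr rfl (fun i hi => hF (i + 1) (Nat.succ_pos i)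
      (Nat.succ_lt_succ (Finset.mem_range.1 hi)))
  rw [h1, Finset.sum_const, Finset.card_range, nsmul_eq_mul]
  push_cast
  ring

/-- `Σ_{i<p} ζ^{b i} = 0` for `b ≠ 0`. -/
theorem h72vk_sum_zeta_pow (p : ℕ) [Fact p.Prime] (b : ZMod p) (hb : b ≠ 0) :
    ∑ i ∈ Finset.range p, zeta p ^ (b.val * i) = 0 := by
  have hp : p.Prime := Fact.out
  have hz := Cfsg.Agent.Lib.helper83.D1E.zeta_prim p
  have hzp : zeta p ^ p = 1 := Cfsg.Agent.Lib.helper83.D1E.zeta_pow_p p
  have hw1 : zeta p ^ b.val ≠ 1 := by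
    intro h
    have h0 : zeta p ^ b.val = zeta p ^ 0 := by rw [h, pow_zero]
    have := hz.pow_inj (ZMod.val_lt b) hp.pos h0
    exact hb ((ZMod.val_eq_zero b).mp this)
  have hwp : (zeta p ^ b.val) ^ p = 1 := by
    rw [← pow_mul, mul_comm, pow_mul, hzp, one_pow]
  have e : ∑ i ∈ Finset.range p, zeta p ^ (b.val * i) =
      ∑ i ∈ Finset.range p, (zeta p ^ b.val) ^ i :=
    Finset.sum_congr rfl (fun i _ => by rw [pow_mul])
  rw [e, geom_sum_eq hw1, hwp, sub_self, zero_div]

section pieces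

variable {G : Type u} [Group G] [Fintype G] {p : ℕ} [Fact p.Prime] {P : Sylow p G} {e n : ℕ}

/-- VK : a character of `X` of degree `p - 1` and sign `-1` forces `C_G(P) = P`
when `O_{p'}(G) = 1`. -/
theorem cent_eq (D : Data0 G p P e) (hP : Nat.card P = p) (hcore : Cfsg.pPrimeCore p G = ⊥)
    (χ : IrrCharacter G) (hχ : χ ∈ D.X) (hδ : D.δ χ = -1)
    (hdeg : charDegree (χ : G → ℂ) = p - 1) :
    Subgroup.centralizer ((P : Subgroup G) : Set G) = (P : Subgroup G) := by
  classical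
  have hp : p.Prime := Fact.out
  have hpc : (p : ℂ) ≠ 0 := by exact_mod_cast hp.ne_zero
  obtain ⟨x, hx, hx1⟩ : ∃ x : G, x ∈ (P : Subgroup G) ∧ x ≠ 1 := by
    have h1 : 1 < Nat.card (P : Subgroup G) := by
      rw [hP]
      exact hp.one_lt
    have : Nontrivial ↥(P : Subgroup G) := (Finite.one_lt_card_iff_nontrivial).mp h1
    obtain ⟨y, hy⟩ := exists_ne (1 : ↥(P : Subgroup G))
    exact ⟨y, y.2, fun h => hy (Subtype.ext h)⟩
  -- `x ^ p = 1`
  have hxp : x ^ p = 1 := by
    have h1 : (⟨x, hx⟩ : ↥(P : Subgroup G)) ^ Nat.card ↥(P : Subgroup G) = 1 := pow_card_eq_one'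
    rw [hP] at h1
    have := congrArg Subtype.val h1
    simpa using this
  have hord : orderOf x = p := by
    have hdvd : orderOf x ∣ p := orderOf_dvd_of_pow_eq_one hxp
    rcases (Nat.dvd_prime hp).mp hdvd with h1 | h1
    · exact absurd (orderOf_eq_one_iff.mp h1) hx1
    · exact h1
  have hxi : ∀ i : ℕ, 0 < i → i < p → x ^ i ∈ (P : Subgroup G) ∧ x ^ i ≠ 1 := by
    intro i hi0 hip
    refine ⟨pow_mem hx i, ?_⟩
    intro h
    have hdvd : p ∣ i := by
      rw [← hord]
      exact orderOf_dvd_of_pow_eq_one h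
    exact absurd (Nat.le_of_dvd hi0 hdvd) (not_le.mpr hip)
  have hval : ∀ y ∈ Subgroup.centralizer ((P : Subgroup G) : Set G), ¬ p ∣ orderOf y →
      ∀ i : ℕ, 0 < i → i < p → (χ : G → ℂ) (x ^ i * y) = -1 := by
    intro y hy hyp i hi0 hip
    have := D.val_X χ hχ (x ^ i) (hxi i hi0 hip).1 (hxi i hi0 hip).2 y hy hyp
    rw [this, hδ]
    push_cast
    ring
  have h1mem : (1 : G) ∈ Subgroup.centralizer ((P : Subgroup G) : Set G) := Subgroup.one_mem _
  have h1ord : ¬ p ∣ orderOf (1 : G) := by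
    rw [orderOf_one]
    exact fun h => hp.one_lt.ne' (Nat.dvd_one.mp h)
  have hdeg1 : (χ : G → ℂ) 1 = (p : ℂ) - 1 := by
    rw [irr_one_eq_charDegree, hdeg, Nat.cast_sub hp.one_le]
    push_cast
    ring
  -- the multiplicity of the eigenvalue `1` of `x` is `0`
  have h0 : mu p x (χ : G → ℂ) 0 = 0 := by
    unfold mu
    have h2 : ∑ i ∈ Finset.range p, (χ : G → ℂ) (x ^ i) * (zeta p ^ ((0 : ZMod p).val * i))⁻¹ =
        ∑ i ∈ Finset.range p, (χ : G → ℂ) (x ^ i) :=
      Finset.sum_congr rfl (fun i _ => by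
        rw [ZMod.val_zero, zero_mul, pow_zero, inv_one, mul_one])
    rw [h2, h72vk_sum_range_const p hp.pos (fun i => (χ : G → ℂ) (x ^ i)) (-1)
      (fun i hi0 hip => by
        have := hval 1 h1mem h1ord i hi0 hip
        rwa [mul_one] at this)]
    simp only [pow_zero]
    rw [hdeg1]
    ring
  -- `p`-regular elements of `C_G(P)` are in the kernel of `χ`
  have hker : ∀ y ∈ Subgroup.centralizer ((P : Subgroup G) : Set G), ¬ p ∣ orderOf y →
      (χ : G → ℂ) y = (χ : G → ℂ) 1 := by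
    intro y hy hyp
    have hcomm : Commute x y := (Subgroup.mem_centralizer_iff.mp hy) x hx
    obtain ⟨τ, hτ0, hτ⟩ := mu_twist p x hxp (χ : G → ℂ) (irr_isCharacter χ) y hcomm
    have hsum : ∑ i ∈ Finset.range p, (χ : G → ℂ) (x ^ i * y) = 0 := by
      have e1 : ∑ i ∈ Finset.range p, (χ : G → ℂ) (x ^ i * y) =
          ∑ i ∈ Finset.range p, ∑ b : ZMod p, τ b * zeta p ^ (b.val * i) :=
        Finset.sum_congr rfl (fun i _ => hτ i)
      rw [e1, Finset.sum_comm]
      refine Finset.sum_eq_zero (fun b _ => ?_)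
      rw [← Finset.mul_sum]
      by_cases hb : b = 0
      · rw [hb, hτ0 0 h0, zero_mul]
      · rw [h72vk_sum_zeta_pow p b hb, mul_zero]
    rw [h72vk_sum_range_const p hp.pos (fun i => (χ : G → ℂ) (x ^ i * y)) (-1)
      (fun i hi0 hip => hval y hy hyp i hi0 hip)] at hsum
    simp only [pow_zero, one_mul] at hsum
    rw [hdeg1]
    linear_combination hsum
  -- the kernel meets `P` trivially
  have hKP : ∀ g ∈ charKer (χ : G → ℂ) (irr_isCharacter χ), g ∈ (P : Subgroup G) → g = 1 := by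
    intro g hgK hgP
    by_contra hg1
    have h1 := D.val_X χ hχ g hgP hg1 1 h1mem h1ord
    rw [mul_one, hδ] at h1
    rw [mem_charKer] at hgK
    rw [hgK, hdeg1] at h1
    apply hpc
    push_cast at h1
    linear_combination h1
  -- the kernel is a `p'`-group
  have hKcop : (Nat.card (charKer (χ : G → ℂ) (irr_isCharacter χ))).Coprime p := by
    rw [Nat.coprime_comm, Nat.Prime.coprime_iff_not_dvd hp]
    intro hdvd
    obtain ⟨k, hk⟩ := exists_prime_orderOf_dvd_card' p hdvd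
    have hkG : orderOf (k : G) = p := by rw [Subgroup.orderOf_coe]; exact hk
    have hpg : IsPGroup p ↥(Subgroup.zpowers (k : G)) :=
      IsPGroup.of_card (n := 1) (by rw [Nat.card_zpowers, hkG, pow_one])
    obtain ⟨Q, hQ⟩ := hpg.exists_le_sylow
    obtain ⟨c, hc⟩ := MulAction.exists_smul_eq G Q P
    have h1 : (k : G) ∈ (Q : Subgroup G) := hQ (Subgroup.mem_zpowers _)
    have h2 : c * (k : G) * c⁻¹ ∈ ((c • Q : Sylow p G) : Subgroup G) := by
      rw [Sylow.coe_subgroup_smul]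
      exact Subgroup.smul_mem_pointwise_smul _ _ _ h1
    rw [hc] at h2
    have h3 : c * (k : G) * c⁻¹ ∈ charKer (χ : G → ℂ) (irr_isCharacter χ) :=
      (charKer_normal (χ : G → ℂ) (irr_isCharacter χ)).conj_mem _ k.2 c
    have h4 := hKP _ h3 h2
    have h5 : (k : G) = 1 := by
      have e1 : (k : G) = c⁻¹ * (c * (k : G) * c⁻¹) * c := by group
      rw [e1, h4]
      group
    rw [h5, orderOf_one] at hkG
    exact hp.one_lt.ne hkG
  have hKbot : charKer (χ : G → ℂ) (irr_isCharacter χ) = ⊥ := by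
    have h1 : charKer (χ : G → ℂ) (irr_isCharacter χ) ≤ Cfsg.pPrimeCore p G :=
      le_sSup ⟨charKer_normal (χ : G → ℂ) (irr_isCharacter χ), hKcop⟩
    rw [hcore] at h1
    exact le_bot_iff.mp h1
  have hreg1 : ∀ y ∈ Subgroup.centralizer ((P : Subgroup G) : Set G), ¬ p ∣ orderOf y →
      y = 1 := by
    intro y hy hyp
    have h1 : y ∈ charKer (χ : G → ℂ) (irr_isCharacter χ) :=
      (mem_charKer _ _ y).mpr (hker y hy hyp)
    rw [hKbot] at h1
    exact Subgroup.mem_bot.mp h1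
  -- `C_G(P)` is a `p`-group
  have hCp : IsPGroup p ↥(Subgroup.centralizer ((P : Subgroup G) : Set G)) := by
    rintro ⟨c, hc⟩
    obtain ⟨k, m, hm, ho⟩ :=
      Nat.exists_eq_pow_mul_and_not_dvd (orderOf_pos c).ne' p hp.ne_one
    refine ⟨k, ?_⟩
    apply Subtype.ext
    have hordc : orderOf (c ^ (p ^ k)) = m := by
      rw [orderOf_pow' c (pow_ne_zero k hp.ne_zero), ho,
        Nat.gcd_eq_right (Dvd.intro m rfl), Nat.mul_div_cancel_left m (pow_pos hp.pos k)]
    have h1 := hreg1 (c ^ (p ^ k)) (pow_mem hc _) (by rw [hordc]; exact hm)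
    simpa using h1
  -- `P ≤ C_G(P)`
  have hzP : Subgroup.zpowers x = (P : Subgroup G) := by
    have hle : Subgroup.zpowers x ≤ (P : Subgroup G) := by
      rw [Subgroup.zpowers_le]
      exact hx
    apply Subgroup.eq_of_le_of_card_ge hle
    rw [hP, Nat.card_zpowers, hord]
  have hPC : (P : Subgroup G) ≤ Subgroup.centralizer ((P : Subgroup G) : Set G) := by
    intro b hb
    rw [Subgroup.mem_centralizer_iff]
    intro a ha
    rw [← hzP] at hb
    have ha' : a ∈ Subgroup.zpowers x := by rw [hzP]; exact ha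
    obtain ⟨i, rfl⟩ := Subgroup.mem_zpowers_iff.mp hb
    obtain ⟨j, rfl⟩ := Subgroup.mem_zpowers_iff.mp ha'
    rw [← zpow_add, ← zpow_add, add_comm]
  exact P.is_maximal' hCp hPC

end pieces

end Cfsg.Agent.Lib.helper72.BR
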