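import Mathlib

/-!
# S0997 piece AR2 (`ar_minus`): the arithmetic of the case `ε = -1`
-/

set_option autoImplicit false

namespace Cfsg.Agent.Lib.helper72.BU

/-- `e` and `p - e` are coprime when `e ∣ p - 1`, `e ≤ p`. -/
theorem h72_coprime_sub (p e : ℕ) (hp1 : 1 ≤ p) (hep : e ∣ p - 1) (hle : e ≤ p) :
    Nat.Coprime e (p - e) := by
  obtain ⟨g, hg⟩ : ∃ g, g = Nat.gcd e (p - e) := ⟨_, rfl⟩
  have h1 : g ∣ e := hg ▸ Nat.gcd_dvd_left _ _
  have h2 : g ∣ p - e := hg ▸ Nat.gcd_dvd_right _ _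
  have h3 : g ∣ p := by
    have h := Nat.dvd_add h1 h2
    have h' : e + (p - e) = p := by omega
    rwa [h'] at h
  have h4 : g ∣ p - 1 := h1.trans hep
  have h5 : g ∣ 1 := by
    have h := Nat.dvd_sub h3 h4
    have h' : p - (p - 1) = 1 := by omega
    rwa [h'] at h
  show Nat.gcd e (p - e) = 1
  rw [← hg]
  exact Nat.dvd_one.mp h5

/-- AR2 : the case `ε = -1` (`S = X ∖ 1`, `d` = degrees, `δ` = signs, `N = |Syl_p|`). -/
theorem ar_minus (p q e b N : ℕ) (hp : p.Prime) (hq : q.Prime) (hpq : p ≠ q)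
    (he2 : 2 ≤ e) (hep : e ∣ p - 1) (hef : e + 2 ≤ p) (hN : e * N = q ^ b * (p - e))
    {ι : Type*} (S : Finset ι) (d : ι → ℕ) (δ : ι → ℤ) (hS : S.card + 1 = e)
    (hδ : ∀ i ∈ S, δ i = 1 ∨ δ i = -1)
    (hq' : ∀ i ∈ S, q ∣ d i) (hd : ∀ i ∈ S, d i ∣ q ^ b * (p - e))
    (hmod : ∀ i ∈ S, (d i : ℤ) ≡ δ i [ZMOD p])
    (hsum : ∑ i ∈ S, δ i * (d i : ℤ) = -((p : ℤ) - (e : ℤ)) - 1) :
    q = 2 ∧ ((e = 2 ∧ ∃ i ∈ S, δ i = -1 ∧ d i = p - 1 ∧ ∃ k : ℕ, p - 1 = 2 ^ k) ∨
      (4 ≤ e ∧ p - 1 = 2 * e ∧ ∃ a : ℕ, e = 2 ^ a)) := by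
  have hcop : Nat.Coprime e (p - e) := h72_coprime_sub p e (by omega) hep (by omega)
  have heq : e ∣ q ^ b := hcop.dvd_of_dvd_mul_right (Dvd.intro N hN)
  obtain ⟨a, hab, hea⟩ := (Nat.dvd_prime_pow hq).mp heq
  have ha1 : 1 ≤ a := by
    by_contra h
    have h0 : a = 0 := by omega
    rw [h0, pow_zero] at hea
    omega
  have hqe : q ∣ e := by
    rw [hea]
    exact dvd_pow_self q (by omega)
  have hqp1 : q ∣ p - 1 := hqe.trans hep
  have hpe1 : ((p - 1 : ℕ) : ℤ) = (p : ℤ) - 1 := by omega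
  -- q = 2
  have hq2 : q = 2 := by
    have h1 : (q : ℤ) ∣ ∑ i ∈ S, δ i * (d i : ℤ) := by
      apply Finset.dvd_sum
      intro i hi
      exact Dvd.dvd.mul_left (Int.natCast_dvd_natCast.mpr (hq' i hi)) _
    rw [hsum] at h1
    have h2 : (q : ℤ) ∣ (e : ℤ) := Int.natCast_dvd_natCast.mpr hqe
    have h3 : (q : ℤ) ∣ (p : ℤ) - 1 := by
      have h := Int.natCast_dvd_natCast.mpr hqp1
      rwa [hpe1] at h
    have h4 : (q : ℤ) ∣ 2 := by
      have h : (2 : ℤ) = (-(-((p : ℤ) - (e : ℤ)) - 1)) + (e : ℤ) - ((p : ℤ) - 1) := by ring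
      rw [h]
      exact dvd_sub (dvd_add (dvd_neg.mpr h1) h2) h3
    have h5 : q ∣ 2 := Int.natCast_dvd_natCast.mp (by exact_mod_cast h4)
    have h6 := Nat.le_of_dvd (by norm_num) h5
    have h7 := hq.two_le
    omega
  subst hq2
  refine ⟨rfl, ?_⟩
  rcases Nat.lt_or_ge a 2 with ha | ha
  · -- `e = 2`
    left
    have ha' : a = 1 := by omega
    rw [ha', pow_one] at hea
    refine ⟨hea, ?_⟩
    have hc1 : S.card = 1 := by omega
    obtain ⟨i, hi⟩ := Finset.card_eq_one.mp hc1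
    have hiS : i ∈ S := by rw [hi]; simp
    rw [hi, Finset.sum_singleton] at hsum
    have hd0 : (0 : ℤ) ≤ (d i : ℤ) := Int.natCast_nonneg _
    have heZ : (e : ℤ) = 2 := by exact_mod_cast hea
    have hpZ : (4 : ℤ) ≤ (p : ℤ) := by omega
    rcases hδ i hiS with h | h
    · rw [h] at hsum
      exfalso
      linarith
    · rw [h] at hsum
      have hdi : (d i : ℤ) = (p : ℤ) - 1 := by linarith
      have hdi' : d i = p - 1 := by omega
      refine ⟨i, hiS, h, hdi', ?_⟩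
      have hdv := hd i hiS
      rw [hdi', hea] at hdv
      have hcop2 : Nat.Coprime (p - 1) (p - 2) := by
        have h' : p - 1 = (p - 2) + 1 := by omega
        rw [h']
        simp
      have h6 : p - 1 ∣ 2 ^ b := hcop2.dvd_of_dvd_mul_right hdv
      obtain ⟨k, _, hk⟩ := (Nat.dvd_prime_pow Nat.prime_two).mp h6
      exact ⟨k, hk⟩
  · -- `e = 2 ^ a`, `a ≥ 2`
    right
    have h4e : 4 ∣ e := by
      rw [hea]
      have h : (2 : ℕ) ^ a = 2 ^ 2 * 2 ^ (a - 2) := by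
        rw [← pow_add]
        congr 1
        omega
      rw [h]
      exact Dvd.intro _ rfl
    have he4 : 4 ≤ e := Nat.le_of_dvd (by omega) h4e
    have h4p : 4 ∣ p - 1 := h4e.trans hep
    have h2e : 2 * e ≤ p - 1 := by
      obtain ⟨c, hc⟩ := hep
      have hc2 : 2 ≤ c := by
        by_contra h
        have h' : c = 0 ∨ c = 1 := by omega
        rcases h' with h | h
        · rw [h] at hc; omega
        · rw [h] at hc; omega
      calc 2 * e = e * 2 := by ring
        _ ≤ e * c := Nat.mul_le_mul_left e hc2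
        _ = p - 1 := hc.symm
    -- some `d i` is not divisible by `4`
    have hex : ∃ i ∈ S, ¬ 4 ∣ d i := by
      by_contra hcon
      push Not at hcon
      have h1 : (4 : ℤ) ∣ ∑ i ∈ S, δ i * (d i : ℤ) := by
        apply Finset.dvd_sum
        intro i hi
        have h := Int.natCast_dvd_natCast.mpr (hcon i hi)
        exact Dvd.dvd.mul_left (by exact_mod_cast h) _
      rw [hsum] at h1
      have h2 : (4 : ℤ) ∣ (e : ℤ) := by
        have h := Int.natCast_dvd_natCast.mpr h4e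
        exact_mod_cast h
      have h3 : (4 : ℤ) ∣ (p : ℤ) - 1 := by
        have h := Int.natCast_dvd_natCast.mpr h4p
        rw [hpe1] at h
        exact_mod_cast h
      omega
    obtain ⟨i, hiS, hi4⟩ := hex
    obtain ⟨d', hd'⟩ := hq' i hiS
    have hd'odd : d' % 2 = 1 := by
      by_contra h
      apply hi4
      omega
    have hdge : p - 1 ≤ d i := by
      have hm := hmod i hiS
      have hdpos : 2 ≤ d i := by omega
      rcases hδ i hiS with h | h
      · rw [h] at hm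
        have hdv : (p : ℤ) ∣ (d i : ℤ) - 1 := Int.modEq_iff_dvd.mp hm.symm
        have h' := Int.le_of_dvd (by omega) hdv
        omega
      · rw [h] at hm
        have hdv : (p : ℤ) ∣ (d i : ℤ) - (-1) := Int.modEq_iff_dvd.mp hm.symm
        have h' := Int.le_of_dvd (by omega) hdv
        omega
    have hd'dv : d' ∣ p - e := by
      have h1 : d' ∣ 2 ^ b * (p - e) := (Dvd.intro_left 2 hd'.symm).trans (hd i hiS)
      have hc : Nat.Coprime d' (2 ^ b) := by
        apply Nat.Coprime.pow_right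
        rw [Nat.coprime_comm, Nat.coprime_two_left]
        exact Nat.odd_iff.mpr hd'odd
      exact hc.dvd_of_dvd_mul_left h1
    obtain ⟨m, hm⟩ := hd'dv
    have hm1 : m = 1 := by
      by_contra h
      have hm0 : m ≠ 0 := by
        rintro rfl
        omega
      have hm2 : 2 ≤ m := by omega
      have h' : d' * 2 ≤ d' * m := Nat.mul_le_mul_left d' hm2
      omega
    rw [hm1, mul_one] at hm
    have hdi : (d i : ℤ) = 2 * ((p : ℤ) - e) := by omega
    have hm' := hmod i hiS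
    refine ⟨he4, ?_, a, hea⟩
    rcases hδ i hiS with h | h
    · rw [h] at hm'
      have hdv : (p : ℤ) ∣ (d i : ℤ) - 1 := Int.modEq_iff_dvd.mp hm'.symm
      rw [hdi] at hdv
      have hdv2 : (p : ℤ) ∣ 2 * (e : ℤ) + 1 := by
        have h' : 2 * (e : ℤ) + 1 = 2 * (p : ℤ) - (2 * ((p : ℤ) - e) - 1) := by ring
        rw [h']
        exact dvd_sub (Dvd.intro_left 2 rfl) hdv
      have h'' := Int.le_of_dvd (by omega) hdv2
      omega
    · rw [h] at hm'
      have hdv : (p : ℤ) ∣ (d i : ℤ) - (-1) := Int.modEq_iff_dvd.mp hm'.symm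
      rw [hdi] at hdv
      have hdv2 : (p : ℤ) ∣ 2 * (e : ℤ) - 1 := by
        have h' : 2 * (e : ℤ) - 1 = 2 * (p : ℤ) - (2 * ((p : ℤ) - e) - (-1)) := by ring
        rw [h']
        exact dvd_sub (Dvd.intro_left 2 rfl) hdv
      have h'' := Int.le_of_dvd (by omega) hdv2
      omega

end Cfsg.Agent.Lib.helper72.BU
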