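import Mathlib

set_option autoImplicit false

namespace Cfsg.Agent.Lib.helper72

/-- Hand-off AL1' for S2149 (Bruhat decomposition by counting, inequality version): if
`|G| ≤ |B| (1 + |U|)` and `w U w⁻¹ ∩ B = 1` for a nontrivial `U ≤ B`, then `G = B ∪ B w U`. -/
theorem bruhat_of_card_le {G : Type*} [Group G] [Finite G] (B U : Subgroup G) (w : G)
    (hUB : U ≤ B) (hU : U ≠ ⊥) (hdisj : ∀ u ∈ U, w * u * w⁻¹ ∈ B → u = 1)
    (hcard : Nat.card G ≤ Nat.card B * (1 + Nat.card U)) :
    ∀ g : G, g ∈ B ∨ ∃ b ∈ B, ∃ u ∈ U, g = b * w * u := by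
  classical
  obtain ⟨u0, hu0, hu01⟩ : ∃ u ∈ U, u ≠ 1 := by
    by_contra h
    push Not at h
    exact hU ((Subgroup.eq_bot_iff_forall _).mpr h)
  have hwB : w ∉ B := fun hw =>
    hu01 (hdisj u0 hu0 (B.mul_mem (B.mul_mem hw (hUB hu0)) (B.inv_mem hw)))
  have hmix : ∀ (b b' : B) (u' : U), (b : G) ≠ (b' : G) * w * (u' : G) := by
    intro b b' u' h
    apply hwB
    have hw : w = (b' : G)⁻¹ * (b : G) * (u' : G)⁻¹ := by rw [h]; group
    rw [hw]
    exact B.mul_mem (B.mul_mem (B.inv_mem b'.2) b.2) (B.inv_mem (hUB u'.2))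
  let f : B ⊕ (B × U) → G :=
    Sum.elim (fun b => (b : G)) (fun x => (x.1 : G) * w * (x.2 : G))
  have hinj : Function.Injective f := by
    rintro (b | ⟨b, u⟩) (b' | ⟨b', u'⟩) h
    · have h' : (b : G) = (b' : G) := h
      rw [Subtype.ext h']
    · exact absurd (show (b : G) = (b' : G) * w * (u' : G) from h) (hmix b b' u')
    · exact absurd (show (b' : G) = (b : G) * w * (u : G) from h.symm) (hmix b' b u)
    · have h' : (b : G) * w * (u : G) = (b' : G) * w * (u' : G) := h
      have h1 : w * ((u : G) * (u' : G)⁻¹) * w⁻¹ = (b : G)⁻¹ * (b' : G) := by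
        have h2 : w * (u : G) = (b : G)⁻¹ * ((b' : G) * w * (u' : G)) := by
          rw [← h']; group
        calc w * ((u : G) * (u' : G)⁻¹) * w⁻¹ = (w * (u : G)) * (u' : G)⁻¹ * w⁻¹ := by group
          _ = (b : G)⁻¹ * ((b' : G) * w * (u' : G)) * (u' : G)⁻¹ * w⁻¹ := by rw [h2]
          _ = (b : G)⁻¹ * (b' : G) := by group
      have h3 : (u : G) * (u' : G)⁻¹ = 1 :=
        hdisj _ (U.mul_mem u.2 (U.inv_mem u'.2)) (h1 ▸ B.mul_mem (B.inv_mem b.2) b'.2)
      have huu : u = u' := Subtype.ext (mul_inv_eq_one.mp h3)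
      subst huu
      have hbb : (b : G) = (b' : G) := mul_right_cancel (mul_right_cancel h')
      rw [Subtype.ext hbb]
  have hcard' : Nat.card G ≤ Nat.card (B ⊕ (B × U)) := by
    rw [Nat.card_sum, Nat.card_prod]
    calc Nat.card G ≤ Nat.card B * (1 + Nat.card U) := hcard
      _ = Nat.card B + Nat.card B * Nat.card U := by ring
  have hsurj : Function.Surjective f :=
    (Function.Injective.bijective_of_nat_card_le hinj hcard').2
  intro g
  obtain ⟨y, rfl⟩ := hsurj g
  rcases y with b | ⟨b, u⟩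
  · exact Or.inl b.2
  · exact Or.inr ⟨b, b.2, u, u.2, rfl⟩

/-- Hand-off AL5 for S2149: transport of "minimal index of a proper subgroup is 50" along a
group isomorphism. -/
theorem transport_min_index {G : Type*} {G' : Type*} [Group G] [Group G'] (e : G ≃* G')
    (h : (∀ H : Subgroup G', H ≠ ⊤ → 50 ≤ H.index) ∧ (∃ H : Subgroup G', H.index = 50)) :
    (∀ H : Subgroup G, H ≠ ⊤ → 50 ≤ H.index) ∧ (∃ H : Subgroup G, H.index = 50) := by
  obtain ⟨h1, H', hH'⟩ := h
  refine ⟨?_, ?_⟩
  · intro H hH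
    have hidx : (H.map e.toMonoidHom).index = H.index := Subgroup.index_map_equiv H e
    rw [← hidx]
    apply h1
    intro htop
    apply hH
    have : H.index = 1 := by rw [← hidx, htop, Subgroup.index_top]
    exact Subgroup.index_eq_one.mp this
  · refine ⟨H'.map e.symm.toMonoidHom, ?_⟩
    exact (Subgroup.index_map_equiv H' e.symm).trans hH'

end Cfsg.Agent.Lib.helper72
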