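import Mathlib
import Cfsg.Agent.S4134
import Cfsg.Agent.Lib.helper1.Frob2
import Cfsg.Agent.Lib.helper70.Basic

/-!
# Groups of automorphisms acting freely modulo a fixed subgroup (helper72)

`W` is a finite abelian group, `Z₀ ≤ W`, and `Hs` a group of automorphisms of `W` fixing `Z₀`
pointwise such that every non-identity element of `Hs` has all its fixed points in `Z₀`.

* `frob_avg_mod`: Frobenius averaging modulo `Z₀`.
* `no_commuting_pair`: an element of order `p` and an element of prime order `ℓ ≠ p` of such a group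
  cannot commute if `W` has a `p`-element outside `Z₀`.
* `sylow_ti_of_props`, `false_of_two_primes`: pure group theory: Sylow subgroups for two primes
  cannot both be Frobenius complements.
* `false_of_free_action`: `W` cannot have both an `r`-element and a `q`-element outside `Z₀` when
  `Hs` has non-identity `r`- and `q`-elements (`r ≠ q`).
-/

set_option autoImplicit false

namespace Cfsg.Agent.Lib.helper72

open Cfsg
open scoped Pointwise

/-- **Frobenius averaging modulo a subgroup.** -/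
theorem frob_avg_mod {A W : Type*} [Group A] [CommGroup W] [MulDistribMulAction A W]
    (R C : Subgroup A) [Finite R] [Finite C] (Z₀ : Subgroup W)
    (hCR : ∀ c ∈ C, ∀ r ∈ R, c * r * c⁻¹ ∈ R)
    (h1 : ∀ c ∈ C, c ≠ 1 → ∀ r ∈ R, c * r * c⁻¹ = r → r = 1)
    (hR : ∃ r ∈ R, r ≠ 1 ∧ ∀ w : W, r • w = w → w ∈ Z₀)
    (hC : ∃ c ∈ C, c ≠ 1 ∧ ∀ w : W, c • w = w → w ∈ Z₀)
    (hZ : ∀ r ∈ R, ∀ z ∈ Z₀, r • z ∈ Z₀) (w : W) :
    w ^ Nat.card R ∈ Z₀ := by
  classical
  have := Fintype.ofFinite R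
  have := Fintype.ofFinite C
  obtain ⟨r₀, hr₀, hr₀1, hr₀fix⟩ := hR
  obtain ⟨c₀, hc₀, hc₀1, hc₀fix⟩ := hC
  -- orbit products lie in Z₀
  have hTR : ∀ v : W, ∏ r : R, (r : A) • v ∈ Z₀ := by
    intro v
    apply hr₀fix
    exact Cfsg.Agent.Lib.helper1.smul_prod_smul_eq (B := R) ⟨r₀, hr₀⟩ v
  have hTC : ∀ v : W, ∏ c : C, (c : A) • v ∈ Z₀ := by
    intro v
    apply hc₀fix
    exact Cfsg.Agent.Lib.helper1.smul_prod_smul_eq (B := C) ⟨c₀, hc₀⟩ v
  set f : C → W := fun c => ∏ r : R, ((r : A) * (c : A)) • w with hf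
  set g : C → W := fun c => ∏ r : R, ((r : A) * (c : A) * (r : A)⁻¹) • w with hg
  have hf1 : f 1 = ∏ r : R, (r : A) • w := by
    simp only [hf, OneMemClass.coe_one, mul_one]
  have hg1 : g 1 = w ^ Nat.card R := by
    simp only [hg, OneMemClass.coe_one, mul_one, mul_inv_cancel, one_smul, Finset.prod_const,
      Finset.card_univ, Nat.card_eq_fintype_card]
  have hfmem : ∀ c : C, f c ∈ Z₀ := by
    intro c
    have : f c = ∏ r : R, (r : A) • ((c : A) • w) := by
      simp only [hf, mul_smul]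
    rw [this]
    exact hTR _
  have hfg : ∀ c : C, c ≠ 1 → f c = g c := by
    intro c hc
    have hc1 : (c : A) ≠ 1 := fun h => hc (Subtype.ext h)
    let β : R → R := fun r => ⟨(r : A) * ((c : A) * (r : A)⁻¹ * (c : A)⁻¹),
      R.mul_mem r.2 (hCR c c.2 _ (R.inv_mem r.2))⟩
    have hβinj : Function.Injective β := by
      intro r r' hrr
      have h2 : (r : A) * ((c : A) * (r : A)⁻¹ * (c : A)⁻¹) =
          (r' : A) * ((c : A) * (r' : A)⁻¹ * (c : A)⁻¹) := congrArg Subtype.val hrr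
      have h3 : (c : A) * ((r' : A)⁻¹ * r) * (c : A)⁻¹ = (r' : A)⁻¹ * r := by
        have e1 : (c : A) * ((r' : A)⁻¹ * r) * (c : A)⁻¹ =
            (r' : A)⁻¹ * ((r' : A) * ((c : A) * (r' : A)⁻¹ * (c : A)⁻¹)) *
              ((c : A) * (r : A)⁻¹ * (c : A)⁻¹)⁻¹ := by group
        rw [e1, ← h2]; group
      have h4 := h1 c c.2 hc1 _ (R.mul_mem (R.inv_mem r'.2) r.2) h3
      exact Subtype.ext (inv_mul_eq_one.mp h4).symm
    have hβ : Function.Bijective β := Finite.injective_iff_bijective.mp hβinj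
    have e : ∀ r : R, ((r : A) * (c : A) * (r : A)⁻¹) • w = ((β r : A) * (c : A)) • w := by
      intro r
      congr 1
      simp only [β]
      group
    simp only [hf, hg]
    rw [Finset.prod_congr rfl (fun r _ => e r)]
    exact (Fintype.prod_bijective β hβ (fun r => ((β r : A) * (c : A)) • w)
      (fun r => ((r : A) * (c : A)) • w) (fun r => rfl)).symm
  have hgprod : ∏ c : C, g c ∈ Z₀ := by
    simp only [hg]
    rw [Finset.prod_comm]
    apply Subgroup.prod_mem
    intro r _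
    have : ∏ c : C, ((r : A) * (c : A) * (r : A)⁻¹) • w =
        (r : A) • ∏ c : C, (c : A) • ((r : A)⁻¹ • w) := by
      rw [Finset.smul_prod']
      apply Finset.prod_congr rfl
      intro c _
      rw [mul_smul, mul_smul]
    rw [this]
    exact hZ r r.2 _ (hTC _)
  have hfprod : ∏ c : C, f c ∈ Z₀ := Subgroup.prod_mem _ (fun c _ => hfmem c)
  have e1 : ∏ c : C, f c = f 1 * ∏ c ∈ Finset.univ.erase (1 : C), f c :=
    (Finset.mul_prod_erase Finset.univ f (Finset.mem_univ 1)).symm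
  have e2 : ∏ c : C, g c = g 1 * ∏ c ∈ Finset.univ.erase (1 : C), g c :=
    (Finset.mul_prod_erase Finset.univ g (Finset.mem_univ 1)).symm
  have e3 : ∏ c ∈ Finset.univ.erase (1 : C), f c = ∏ c ∈ Finset.univ.erase (1 : C), g c :=
    Finset.prod_congr rfl (fun c hc => hfg c (Finset.ne_of_mem_erase hc))
  have hX : ∏ c ∈ Finset.univ.erase (1 : C), g c ∈ Z₀ := by
    rw [← e3]
    have : ∏ c ∈ Finset.univ.erase (1 : C), f c = (f 1)⁻¹ * ∏ c : C, f c := by
      rw [e1]; group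
    rw [this]
    exact Z₀.mul_mem (Z₀.inv_mem (hfmem 1)) hfprod
  rw [← hg1]
  have : g 1 = (∏ c : C, g c) * (∏ c ∈ Finset.univ.erase (1 : C), g c)⁻¹ := by
    rw [e2]; group
  rw [this]
  exact Z₀.mul_mem hgprod (Z₀.inv_mem hX)

section autos
variable {W : Type*} [CommGroup W]

/-- the norm map of an automorphism -/
noncomputable def normHom (d : MulAut W) (ℓ : ℕ) : W →* W :=
  ∏ j ∈ Finset.range ℓ, ((d ^ j : MulAut W) : W ≃* W).toMonoidHom

lemma normHom_apply (d : MulAut W) (ℓ : ℕ) (w : W) :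
    normHom d ℓ w = ∏ j ∈ Finset.range ℓ, (d ^ j) w := by
  simp [normHom]

lemma normHom_map (d : MulAut W) (ℓ : ℕ) (hd : d ^ ℓ = 1) (w : W) :
    normHom d ℓ (d w) = normHom d ℓ w := by
  rw [normHom_apply, normHom_apply]
  have h1 : ∀ k, (d ^ k) (d w) = (d ^ (k + 1)) w := by
    intro k; rw [pow_succ, MulAut.mul_apply]
  simp only [h1]
  have h2 := Finset.prod_range_succ (fun k => (d ^ k) w) ℓ
  have h3 := Finset.prod_range_succ' (fun k => (d ^ k) w) ℓ
  rw [h2] at h3
  simp only [hd, pow_zero, MulAut.one_apply] at h3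
  exact (mul_right_cancel h3).symm

lemma pow_apply_of_fix (d : MulAut W) (z : W) (hz : d z = z) (j : ℕ) : (d ^ j) z = z := by
  induction j with
  | zero => simp
  | succ j ih => rw [pow_succ, MulAut.mul_apply, hz, ih]

lemma normHom_of_fix (d : MulAut W) (ℓ : ℕ) (z : W) (hz : d z = z) : normHom d ℓ z = z ^ ℓ := by
  rw [normHom_apply]
  simp only [pow_apply_of_fix d z hz, Finset.prod_const, Finset.card_range]

lemma normHom_comm (c d : MulAut W) (hcd : Commute c d) (ℓ : ℕ) (w : W) :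
    normHom d ℓ (c w) = c (normHom d ℓ w) := by
  rw [normHom_apply, normHom_apply, map_prod]
  apply Finset.prod_congr rfl
  intro j _
  have h := (hcd.pow_right j).eq
  rw [← MulAut.mul_apply, ← MulAut.mul_apply, h]

/-- **No commuting pair.** An automorphism `c` of order `p` and an automorphism `d` of prime order
`ℓ ≠ p` commuting with it cannot both have all their fixed points in a subgroup `Z₀` fixed
pointwise by `d`, if there is a `p`-element outside `Z₀`. -/
theorem no_commuting_pair [Finite W] (Z₀ : Subgroup W) (p ℓ : ℕ) [hp : Fact p.Prime]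
    (hℓ : ℓ.Prime) (hpℓ : p ≠ ℓ) (c d : MulAut W) (hcd : Commute c d)
    (hcp : c ^ p = 1) (hdℓ : d ^ ℓ = 1)
    (hcfix : ∀ w, c w = w → w ∈ Z₀) (hdfix : ∀ w, d w = w → w ∈ Z₀) (hdZ : ∀ z ∈ Z₀, d z = z)
    (w₀ : W) (hw₀ : w₀ ∉ Z₀) (k : ℕ) (hw₀p : w₀ ^ p ^ k = 1) : False := by
  classical
  set K : Subgroup W := (normHom d ℓ).ker ⊓ (powMonoidHom (p ^ k) : W →* W).ker with hK
  have hmemK : ∀ w, w ∈ K ↔ normHom d ℓ w = 1 ∧ w ^ p ^ k = 1 := by
    intro w
    rw [hK, Subgroup.mem_inf, MonoidHom.mem_ker, MonoidHom.mem_ker, powMonoidHom_apply]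
  have hcK : ∀ w ∈ K, c w ∈ K := by
    intro w hw
    rw [hmemK] at hw ⊢
    refine ⟨?_, ?_⟩
    · rw [normHom_comm c d hcd, hw.1, map_one]
    · rw [← map_pow, hw.2, map_one]
  -- a nontrivial element of K
  have hk₀ : d w₀ * w₀⁻¹ ∈ K := by
    rw [hmemK]
    refine ⟨?_, ?_⟩
    · rw [map_mul, normHom_map d ℓ hdℓ, map_inv, mul_inv_cancel]
    · rw [mul_pow, inv_pow, ← map_pow, hw₀p, map_one, inv_one, mul_one]
  have hk₀1 : d w₀ * w₀⁻¹ ≠ 1 := by
    intro h
    exact hw₀ (hdfix w₀ (mul_inv_eq_one.mp h))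
  -- fixed points of c in K are trivial
  have hfixK : ∀ w ∈ K, c w = w → w = 1 := by
    intro w hw hcw
    rw [hmemK] at hw
    have hwZ : w ∈ Z₀ := hcfix w hcw
    have h1 : w ^ ℓ = 1 := by rw [← normHom_of_fix d ℓ w (hdZ w hwZ)]; exact hw.1
    have hcop : Nat.Coprime ℓ (p ^ k) :=
      Nat.Coprime.pow_right k ((Nat.coprime_primes hℓ hp.out).mpr (Ne.symm hpℓ))
    have h2 : orderOf w ∣ Nat.gcd ℓ (p ^ k) :=
      Nat.dvd_gcd (orderOf_dvd_of_pow_eq_one h1) (orderOf_dvd_of_pow_eq_one hw.2)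
    rw [hcop] at h2
    exact orderOf_eq_one_iff.mp (Nat.dvd_one.mp h2)
  -- the permutation of K induced by c
  have hinj : Function.Injective (fun w : K => (⟨c w, hcK w w.2⟩ : K)) := by
    intro a b hab
    have : c (a : W) = c (b : W) := congrArg Subtype.val hab
    exact Subtype.ext (c.injective this)
  let σ : Equiv.Perm K := Equiv.ofBijective _ (Finite.injective_iff_bijective.mp hinj)
  have hσ : ∀ (n : ℕ) (w : K), ((σ ^ n) w : W) = (c ^ n) (w : W) := by
    intro n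
    induction n with
    | zero => intro w; simp
    | succ n ih =>
      intro w
      rw [pow_succ', Equiv.Perm.mul_apply, pow_succ', MulAut.mul_apply, ← ih w]
      rfl
  have hσp : σ ^ p ^ 1 = 1 := by
    ext w
    rw [pow_one, hσ p w, hcp]
    rfl
  have := Fintype.ofFinite K
  have hpK : p ∣ Fintype.card K := by
    have h1 : orderOf (⟨d w₀ * w₀⁻¹, hk₀⟩ : K) ∣ p ^ k := by
      apply orderOf_dvd_of_pow_eq_one
      apply Subtype.ext
      rw [Subgroup.coe_pow]
      exact ((hmemK _).mp hk₀).2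
    obtain ⟨i, -, hi⟩ := (Nat.dvd_prime_pow hp.out).mp h1
    have hi0 : i ≠ 0 := by
      rintro rfl
      rw [pow_zero, orderOf_eq_one_iff] at hi
      exact hk₀1 (congrArg Subtype.val hi)
    have h2 : p ∣ orderOf (⟨d w₀ * w₀⁻¹, hk₀⟩ : K) := hi ▸ dvd_pow_self p hi0
    exact dvd_trans h2 (orderOf_dvd_card)
  have h1fix : σ (1 : K) = 1 := by
    apply Subtype.ext
    change c ((1 : K) : W) = ((1 : K) : W)
    simp
  obtain ⟨b, hb, hb1⟩ := Equiv.Perm.exists_fixed_point_of_prime' hpK hσp h1fix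
  apply hb1
  apply Subtype.ext
  have hcb : c (b : W) = b := congrArg Subtype.val hb
  exact hfixK b b.2 hcb

end autos

section grp
variable {H : Type*} [Group H]

/-- a non-identity element of a cyclic group of prime order generates it -/
lemma mem_zpowers_of_prime [Finite H] {p : ℕ} (hp : p.Prime) {z s : H} (hz : z ^ p = 1)
    (hs : s ∈ Subgroup.zpowers z) (hs1 : s ≠ 1) : z ∈ Subgroup.zpowers s := by
  haveI : Fact p.Prime := ⟨hp⟩
  have hz1 : z ≠ 1 := by
    rintro rfl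
    rw [Subgroup.zpowers_one_eq_bot, Subgroup.mem_bot] at hs
    exact hs1 hs
  have hoz : orderOf z = p := orderOf_eq_prime hz hz1
  have hsp : s ^ p = 1 := by
    obtain ⟨i, rfl⟩ := Subgroup.mem_zpowers_iff.mp hs
    rw [← zpow_natCast, ← zpow_mul, mul_comm, zpow_mul, zpow_natCast, hz, one_zpow]
  have hos : orderOf s = p := orderOf_eq_prime hsp hs1
  have hle : Subgroup.zpowers s ≤ Subgroup.zpowers z := Subgroup.zpowers_le.mpr hs
  have heq : Subgroup.zpowers s = Subgroup.zpowers z :=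
    Subgroup.eq_of_le_of_card_ge hle (by rw [Nat.card_zpowers, Nat.card_zpowers, hoz, hos])
  rw [heq]
  exact Subgroup.mem_zpowers z

/-- in a finite group, an element conjugating a subgroup into itself normalizes it -/
lemma mem_normalizer_of_conj_mem [Finite H] (K : Subgroup H) (g : H)
    (h : ∀ x ∈ K, g * x * g⁻¹ ∈ K) : g ∈ Subgroup.normalizer (K : Set H) := by
  rw [Subgroup.mem_normalizer_iff]
  intro x
  refine ⟨h x, ?_⟩
  intro hx
  have hinj : Function.Injective (fun y : K => (⟨g * y * g⁻¹, h y y.2⟩ : K)) := by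
    intro a b hab
    have h1 : g * (a : H) * g⁻¹ = g * (b : H) * g⁻¹ := congrArg Subtype.val hab
    exact Subtype.ext (mul_left_cancel (mul_right_cancel h1))
  obtain ⟨y, hy⟩ := (Finite.injective_iff_bijective.mp hinj).2 ⟨g * x * g⁻¹, hx⟩
  have h1 : g * (y : H) * g⁻¹ = g * x * g⁻¹ := congrArg Subtype.val hy
  have h2 : (y : H) = x := mul_left_cancel (mul_right_cancel h1)
  rw [← h2]
  exact y.2

/-- **Sylow subgroups are TI and self-normalizing** under the two averaging properties. -/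
theorem sylow_ti_of_props [Finite H] (p : ℕ) [hp : Fact p.Prime]
    (hP1 : ∀ s t : H, Commute s t → s ≠ 1 → s ^ p = 1 → t ^ p = 1 → t ∈ Subgroup.zpowers s)
    (hP2 : ∀ (c d : H) (ℓ : ℕ), ℓ.Prime → ℓ ≠ p → c ≠ 1 → c ^ p = 1 → d ≠ 1 → d ^ ℓ = 1 →
      d * c * d⁻¹ ∈ Subgroup.zpowers c → False)
    (P : Sylow p H) (hP : (P : Subgroup H) ≠ ⊥) :
    ∀ g : H, g ∉ (P : Subgroup H) →
      (P : Subgroup H) ⊓ (MulAut.conj g • (P : Subgroup H)) = ⊥ := by
  classical
  -- a central element of order p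
  have hnt : Nontrivial (P : Subgroup H) := (Subgroup.nontrivial_iff_ne_bot _).mpr hP
  have hcnt : Nontrivial (Subgroup.center (P : Subgroup H)) := P.2.center_nontrivial
  have hcp : IsPGroup p (Subgroup.center (P : Subgroup H)) := P.2.to_subgroup _
  obtain ⟨n, hn⟩ := IsPGroup.iff_card.mp hcp
  have hn0 : n ≠ 0 := by
    rintro rfl
    rw [pow_zero] at hn
    have := Finite.one_lt_card_iff_nontrivial.mpr hcnt
    omega
  have hdvd : p ∣ Nat.card (Subgroup.center (P : Subgroup H)) := hn ▸ dvd_pow_self p hn0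
  obtain ⟨z', hz'⟩ := exists_prime_orderOf_dvd_card' p hdvd
  set z : H := ((z' : (P : Subgroup H)) : H) with hz
  have hzP : z ∈ (P : Subgroup H) := (z' : (P : Subgroup H)).2
  have hzo : orderOf z = p := by
    rw [hz, Subgroup.orderOf_coe, Subgroup.orderOf_coe, hz']
  have hzp : z ^ p = 1 := by rw [← hzo]; exact pow_orderOf_eq_one z
  have hz1 : z ≠ 1 := by
    intro h
    rw [← orderOf_eq_one_iff, hzo] at h
    exact hp.out.one_lt.ne' h
  have hzc : ∀ s ∈ (P : Subgroup H), Commute z s := by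
    intro s hs
    have h1 := Subgroup.mem_center_iff.mp z'.2 ⟨s, hs⟩
    have h2 : s * z = z * s := congrArg Subtype.val h1
    exact h2.symm
  -- the normalizer of ⟨z⟩ is P
  set Nz : Subgroup H := Subgroup.normalizer ((Subgroup.zpowers z : Subgroup H) : Set H) with hNz
  have hNzp : IsPGroup p Nz := by
    by_contra hcon
    have hex : ∃ ℓ : ℕ, ℓ.Prime ∧ ℓ ∣ Nat.card Nz ∧ ℓ ≠ p := by
      by_contra hno
      push Not at hno
      apply hcon
      have := Nat.eq_prime_pow_of_unique_prime_dvd (Nat.card_pos (α := Nz)).ne'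
        (fun {d} hd hdvd => hno d hd hdvd)
      exact IsPGroup.of_card this
    obtain ⟨ℓ, hℓ, hℓdvd, hℓp⟩ := hex
    have : Fact ℓ.Prime := ⟨hℓ⟩
    obtain ⟨d', hd'⟩ := exists_prime_orderOf_dvd_card' ℓ hℓdvd
    have hdo : orderOf (d' : H) = ℓ := by rw [Subgroup.orderOf_coe, hd']
    have hd1 : (d' : H) ≠ 1 := by
      intro h
      rw [← orderOf_eq_one_iff, hdo] at h
      exact hℓ.one_lt.ne' h
    have hdℓ : (d' : H) ^ ℓ = 1 := by rw [← hdo]; exact pow_orderOf_eq_one _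
    have hconj : (d' : H) * z * (d' : H)⁻¹ ∈ Subgroup.zpowers z :=
      (Subgroup.mem_normalizer_iff.mp d'.2 z).mp (Subgroup.mem_zpowers z)
    exact hP2 z d' ℓ hℓ hℓp hz1 hzp hd1 hdℓ hconj
  have hPle : (P : Subgroup H) ≤ Nz := by
    intro s hs
    apply mem_normalizer_of_conj_mem
    intro x hx
    obtain ⟨i, rfl⟩ := Subgroup.mem_zpowers_iff.mp hx
    have hc : Commute s (z ^ i) := ((hzc s hs).symm).zpow_right i
    have : s * z ^ i * s⁻¹ = z ^ i := by rw [hc.eq]; group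
    rw [this]
    exact Subgroup.zpow_mem _ (Subgroup.mem_zpowers z) i
  have hNzP : Nz = (P : Subgroup H) := P.3 hNzp hPle
  have hN : ∀ d : H, d * z * d⁻¹ ∈ Subgroup.zpowers z → d ∈ (P : Subgroup H) := by
    intro d hd
    rw [← hNzP]
    apply mem_normalizer_of_conj_mem
    intro x hx
    obtain ⟨i, rfl⟩ := Subgroup.mem_zpowers_iff.mp hx
    have : d * z ^ i * d⁻¹ = (d * z * d⁻¹) ^ i := by
      rw [conj_zpow]
    rw [this]
    exact Subgroup.zpow_mem _ hd i
  -- main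
  intro g hg
  rw [eq_bot_iff]
  intro x hx
  rw [Subgroup.mem_bot]
  by_contra hx1
  obtain ⟨hxP, hxg⟩ := Subgroup.mem_inf.mp hx
  -- a power of x of order p
  obtain ⟨m, hm⟩ := (IsPGroup.iff_orderOf.mp P.2) ⟨x, hxP⟩
  rw [Subgroup.orderOf_mk] at hm
  have hm0 : m ≠ 0 := by
    rintro rfl
    rw [pow_zero, orderOf_eq_one_iff] at hm
    exact hx1 hm
  obtain ⟨m', rfl⟩ := Nat.exists_eq_succ_of_ne_zero hm0
  set s : H := x ^ p ^ m' with hs
  have hsp : s ^ p = 1 := by
    rw [hs, ← pow_mul, ← pow_succ, ← hm, pow_orderOf_eq_one]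
  have hs1 : s ≠ 1 := by
    intro h
    have h1 : orderOf x ∣ p ^ m' := orderOf_dvd_of_pow_eq_one h
    rw [hm] at h1
    have := Nat.le_of_dvd (pow_pos hp.out.pos _) h1
    have h2 : p ^ m' < p ^ m'.succ := Nat.pow_lt_pow_right hp.out.one_lt (Nat.lt_succ_self _)
    omega
  have hsP : s ∈ (P : Subgroup H) := Subgroup.pow_mem _ hxP _
  have hsg : s ∈ MulAut.conj g • (P : Subgroup H) := Subgroup.pow_mem _ hxg _
  have hsz : s ∈ Subgroup.zpowers z := hP1 z s (hzc s hsP) hz1 hzp hsp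
  have hzs : z ∈ Subgroup.zpowers s := mem_zpowers_of_prime hp.out hzp hsz hs1
  -- y = g⁻¹ s g ∈ P
  have hy : g⁻¹ * s * g ∈ (P : Subgroup H) := by
    rw [Subgroup.mem_pointwise_smul_iff_inv_smul_mem] at hsg
    simpa [MulAut.smul_def, MulAut.conj_apply] using hsg
  have hy1 : g⁻¹ * s * g ≠ 1 := by
    intro h
    apply hs1
    have : s = g * (g⁻¹ * s * g) * g⁻¹ := by group
    rw [this, h]; group
  have hyp : (g⁻¹ * s * g) ^ p = 1 := by
    have : (g⁻¹ * s * g) ^ p = g⁻¹ * s ^ p * g := by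
      have := conj_pow (a := g⁻¹) (b := s) (i := p)
      simpa using this
    rw [this, hsp]; group
  have hyz : g⁻¹ * s * g ∈ Subgroup.zpowers z := hP1 z _ (hzc _ hy) hz1 hzp hyp
  -- g⁻¹ z g ∈ ⟨z⟩
  have hgz : g⁻¹ * z * g⁻¹⁻¹ ∈ Subgroup.zpowers z := by
    obtain ⟨i, hi⟩ := Subgroup.mem_zpowers_iff.mp hzs
    have : g⁻¹ * z * g⁻¹⁻¹ = (g⁻¹ * s * g) ^ i := by
      rw [← hi, inv_inv]
      have := conj_zpow (a := g⁻¹) (b := s) (i := i)
      simpa using this.symm
    rw [this]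
    exact Subgroup.zpow_mem _ hyz i
  have := hN g⁻¹ hgz
  exact hg (by simpa using Subgroup.inv_mem _ this)

/-- **Two primes.** Sylow subgroups for two different primes cannot both be Frobenius
complements. -/
theorem false_of_two_primes [Finite H] (r q : ℕ) [hr : Fact r.Prime] [hq : Fact q.Prime]
    (hrq : r ≠ q)
    (hP1 : ∀ p : ℕ, p.Prime → ∀ s t : H, Commute s t → s ≠ 1 → s ^ p = 1 → t ^ p = 1 →
      t ∈ Subgroup.zpowers s)
    (hP2r : ∀ (c d : H) (ℓ : ℕ), ℓ.Prime → ℓ ≠ r → c ≠ 1 → c ^ r = 1 → d ≠ 1 → d ^ ℓ = 1 →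
      d * c * d⁻¹ ∈ Subgroup.zpowers c → False)
    (hP2q : ∀ (c d : H) (ℓ : ℕ), ℓ.Prime → ℓ ≠ q → c ≠ 1 → c ^ q = 1 → d ≠ 1 → d ^ ℓ = 1 →
      d * c * d⁻¹ ∈ Subgroup.zpowers c → False)
    (hrH : r ∣ Nat.card H) (hqH : q ∣ Nat.card H) : False := by
  obtain ⟨Pr⟩ : Nonempty (Sylow r H) := inferInstance
  obtain ⟨Pq⟩ : Nonempty (Sylow q H) := inferInstance
  have hPr1 : (Pr : Subgroup H) ≠ ⊥ := Pr.ne_bot_of_dvd_card hrH
  have hPq1 : (Pq : Subgroup H) ≠ ⊥ := Pq.ne_bot_of_dvd_card hqH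
  obtain ⟨a, ha⟩ := IsPGroup.iff_card.mp Pr.2
  obtain ⟨b, hb⟩ := IsPGroup.iff_card.mp Pq.2
  have hPrT : (Pr : Subgroup H) ≠ ⊤ := by
    intro h
    have h1 : Nat.card H = r ^ a := by rw [← ha, h, Subgroup.card_top]
    rw [h1] at hqH
    exact hrq ((Nat.prime_dvd_prime_iff_eq hq.out hr.out).mp (hq.out.dvd_of_dvd_pow hqH)).symm
  have hPqT : (Pq : Subgroup H) ≠ ⊤ := by
    intro h
    have h1 : Nat.card H = q ^ b := by rw [← hb, h, Subgroup.card_top]
    rw [h1] at hrH
    exact hrq ((Nat.prime_dvd_prime_iff_eq hr.out hq.out).mp (hr.out.dvd_of_dvd_pow hrH))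
  have hFr : IsFrobeniusComplement (Pr : Subgroup H) :=
    ⟨hPr1, hPrT, sylow_ti_of_props r (hP1 r hr.out) hP2r Pr hPr1⟩
  have hFq : IsFrobeniusComplement (Pq : Subgroup H) :=
    ⟨hPq1, hPqT, sylow_ti_of_props q (hP1 q hq.out) hP2q Pq hPq1⟩
  obtain ⟨g, hg⟩ := Cfsg.Agent.Lib.helper1.frob_complements_conj (Pr : Subgroup H)
    (Pq : Subgroup H) hFr hFq
  have hcard : Nat.card (Pq : Subgroup H) = Nat.card (Pr : Subgroup H) := by
    rw [← hg, Cfsg.Agent.Lib.helper1.card_conj_smul]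
  rw [ha, hb] at hcard
  have ha0 : a ≠ 0 := by
    rintro rfl
    apply hPr1
    rw [pow_zero] at ha
    exact (Subgroup.card_eq_one).mp ha
  have h1 : r ∣ q ^ b := hcard ▸ dvd_pow_self r ha0
  exact hrq ((Nat.prime_dvd_prime_iff_eq hr.out hq.out).mp (hr.out.dvd_of_dvd_pow h1))

end grp

section final
variable {W : Type*} [CommGroup W] [Finite W]

/-- **Free action modulo `Z₀`.** A group `Hs` of automorphisms of the finite abelian group `W`
fixing `Z₀` pointwise, all of whose non-identity elements have their fixed points in `Z₀`, cannot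
contain non-identity `r`- and `q`-elements for two primes `r ≠ q` such that `W` has an `r`-element
and a `q`-element outside `Z₀`. -/
theorem false_of_free_action (Hs : Subgroup (MulAut W)) (Z₀ : Subgroup W)
    (hZ : ∀ σ ∈ Hs, ∀ z ∈ Z₀, σ z = z)
    (hfix : ∀ σ ∈ Hs, σ ≠ 1 → ∀ w : W, σ w = w → w ∈ Z₀)
    (r q : ℕ) [hr : Fact r.Prime] [hq : Fact q.Prime] (hrq : r ≠ q)
    (wr wq : W) (hwr : wr ∉ Z₀) (hwq : wq ∉ Z₀) (kr kq : ℕ)
    (hwr' : wr ^ r ^ kr = 1) (hwq' : wq ^ q ^ kq = 1)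
    (σr σq : MulAut W) (hσr : σr ∈ Hs) (hσq : σq ∈ Hs) (hσr1 : σr ≠ 1) (hσq1 : σq ≠ 1)
    (jr jq : ℕ) (hσr' : σr ^ r ^ jr = 1) (hσq' : σq ^ q ^ jq = 1) : False := by
  classical
  have hfin : Finite (MulAut W) :=
    Finite.of_injective (fun σ : MulAut W => (σ : W → W)) DFunLike.coe_injective
  have key0 : ∀ p : ℕ, p.Prime → (∀ w : W, w ^ p ∈ Z₀) → False := by
    intro p hp hall
    by_cases hpr : p = r
    · apply hwq
      have hcop : Nat.Coprime p (q ^ kq) :=
        Nat.Coprime.pow_right kq ((Nat.coprime_primes hp hq.out).mpr (hpr ▸ hrq))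
      exact Cfsg.Agent.Lib.helper70.mem_of_pow_mem_of_coprime Z₀ hcop (hall wq)
        (hwq' ▸ Z₀.one_mem)
    · apply hwr
      have hcop : Nat.Coprime p (r ^ kr) :=
        Nat.Coprime.pow_right kr ((Nat.coprime_primes hp hr.out).mpr hpr)
      exact Cfsg.Agent.Lib.helper70.mem_of_pow_mem_of_coprime Z₀ hcop (hall wr)
        (hwr' ▸ Z₀.one_mem)
  have hne : ∀ s : Hs, s ≠ 1 → (s : MulAut W) ≠ 1 := fun s hs h => hs (Subtype.ext h)
  have hP1 : ∀ p : ℕ, p.Prime → ∀ s t : Hs, Commute s t → s ≠ 1 → s ^ p = 1 → t ^ p = 1 →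
      t ∈ Subgroup.zpowers s := by
    intro p hp s t hst hs1 hsp htp
    by_contra ht
    apply key0 p hp
    intro w
    have : Fact p.Prime := ⟨hp⟩
    have hos : orderOf s = p := orderOf_eq_prime hsp hs1
    refine Cfsg.Agent.S4134.avg_fix Z₀ p hp.pos (s : MulAut W) (t : MulAut W) ?_ ?_ ?_ ?_ ?_ w
    · exact (congrArg Subtype.val hst.eq : (s : MulAut W) * t = t * s)
    · exact_mod_cast congrArg Subtype.val hsp
    · exact_mod_cast congrArg Subtype.val htp
    · intro k hk0 hkp m hm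
      have hsk : s ^ k ≠ 1 := by
        intro h
        have := orderOf_dvd_of_pow_eq_one h
        rw [hos] at this
        exact absurd (Nat.le_of_dvd hk0 this) (not_le.mpr hkp)
      exact hfix _ (s ^ k).2 (hne _ hsk) m (by exact_mod_cast hm)
    · intro i hi m hm
      have hsit : s ^ i * t ≠ 1 := by
        intro h
        apply ht
        have : t = (s ^ i)⁻¹ := eq_inv_of_mul_eq_one_right h
        rw [this]
        exact Subgroup.inv_mem _ (Subgroup.pow_mem _ (Subgroup.mem_zpowers s) i)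
      exact hfix _ (s ^ i * t).2 (hne _ hsit) m (by exact_mod_cast hm)
  have hP2 : ∀ (p : ℕ) [hp : Fact p.Prime] (wp : W) (_ : wp ∉ Z₀) (kp : ℕ) (_ : wp ^ p ^ kp = 1)
      (c d : Hs) (ℓ : ℕ), ℓ.Prime → ℓ ≠ p → c ≠ 1 → c ^ p = 1 → d ≠ 1 → d ^ ℓ = 1 →
      d * c * d⁻¹ ∈ Subgroup.zpowers c → False := by
    intro p hp wp hwp kp hwp' c d ℓ hℓ hℓp hc1 hcp hd1 hdℓ hconj
    have hcp' : (c : MulAut W) ^ p = 1 := by exact_mod_cast congrArg Subtype.val hcp
    have hdℓ' : (d : MulAut W) ^ ℓ = 1 := by exact_mod_cast congrArg Subtype.val hdℓ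
    by_cases hcomm : Commute c d
    · have hcomm' : Commute (c : MulAut W) (d : MulAut W) :=
        (congrArg Subtype.val hcomm.eq : (c : MulAut W) * d = d * c)
      exact no_commuting_pair Z₀ p ℓ hℓ (Ne.symm hℓp) (c : MulAut W) (d : MulAut W) hcomm'
        hcp' hdℓ' (hfix c c.2 (hne c hc1)) (hfix d d.2 (hne d hd1)) (hZ d d.2) wp hwp kp hwp'
    · apply key0 p hp.out
      intro w
      have hconj' : (d : MulAut W) * c * (d : MulAut W)⁻¹ ∈ Subgroup.zpowers (c : MulAut W) := by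
        obtain ⟨i, hi⟩ := Subgroup.mem_zpowers_iff.mp hconj
        rw [Subgroup.mem_zpowers_iff]
        refine ⟨i, ?_⟩
        have := congrArg Subtype.val hi
        simpa using this
      have hdn : (d : MulAut W) ∈ Subgroup.normalizer
          ((Subgroup.zpowers (c : MulAut W) : Subgroup (MulAut W)) : Set (MulAut W)) := by
        apply mem_normalizer_of_conj_mem
        intro x hx
        obtain ⟨i, rfl⟩ := Subgroup.mem_zpowers_iff.mp hx
        have : (d : MulAut W) * (c : MulAut W) ^ i * (d : MulAut W)⁻¹ =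
            ((d : MulAut W) * c * (d : MulAut W)⁻¹) ^ i := by rw [conj_zpow]
        rw [this]
        exact Subgroup.zpow_mem _ hconj' i
      have hCR : ∀ c' ∈ Subgroup.zpowers (d : MulAut W), ∀ r' ∈ Subgroup.zpowers (c : MulAut W),
          c' * r' * c'⁻¹ ∈ Subgroup.zpowers (c : MulAut W) := by
        intro c' hc' r' hr'
        have h1 : c' ∈ Subgroup.normalizer
            ((Subgroup.zpowers (c : MulAut W) : Subgroup (MulAut W)) : Set (MulAut W)) :=
          (Subgroup.zpowers_le.mpr hdn) hc'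
        exact (Subgroup.mem_normalizer_iff.mp h1 r').mp hr'
      have h1 : ∀ c' ∈ Subgroup.zpowers (d : MulAut W), c' ≠ 1 →
          ∀ r' ∈ Subgroup.zpowers (c : MulAut W), c' * r' * c'⁻¹ = r' → r' = 1 := by
        intro c' hc' hc'1 r' hr' hfx
        by_contra hr'1
        have e1 : (c : MulAut W) ∈ Subgroup.zpowers r' :=
          mem_zpowers_of_prime hp.out hcp' hr' hr'1
        have e2 : (d : MulAut W) ∈ Subgroup.zpowers c' :=
          mem_zpowers_of_prime hℓ hdℓ' hc' hc'1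
        have hcr : Commute c' r' := by
          have : c' * r' = r' * c' := by
            calc c' * r' = (c' * r' * c'⁻¹) * c' := by group
              _ = r' * c' := by rw [hfx]
          exact this
        obtain ⟨a, ha⟩ := Subgroup.mem_zpowers_iff.mp e1
        obtain ⟨b, hb⟩ := Subgroup.mem_zpowers_iff.mp e2
        have hdc : Commute (d : MulAut W) (c : MulAut W) := by
          rw [← ha, ← hb]
          exact (hcr.zpow_left b).zpow_right a
        exact hcomm (Subtype.ext hdc.symm.eq)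
      have hR : ∃ r' ∈ Subgroup.zpowers (c : MulAut W), r' ≠ 1 ∧ ∀ w : W, r' • w = w → w ∈ Z₀ :=
        ⟨c, Subgroup.mem_zpowers _, hne c hc1, fun w hw => hfix c c.2 (hne c hc1) w hw⟩
      have hC : ∃ c' ∈ Subgroup.zpowers (d : MulAut W), c' ≠ 1 ∧ ∀ w : W, c' • w = w → w ∈ Z₀ :=
        ⟨d, Subgroup.mem_zpowers _, hne d hd1, fun w hw => hfix d d.2 (hne d hd1) w hw⟩
      have hZ' : ∀ r' ∈ Subgroup.zpowers (c : MulAut W), ∀ z ∈ Z₀, r' • z ∈ Z₀ := by
        intro r' hr' z hz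
        have : r' ∈ Hs := (Subgroup.zpowers_le.mpr c.2) hr'
        have h2 : r' • z = z := hZ r' this z hz
        rw [h2]; exact hz
      have key := frob_avg_mod (A := MulAut W) (Subgroup.zpowers (c : MulAut W))
        (Subgroup.zpowers (d : MulAut W)) Z₀ hCR h1 hR hC hZ' w
      rwa [Nat.card_zpowers, orderOf_eq_prime hcp' (hne c hc1)] at key
  have hcardH : ∀ (p : ℕ) [hp : Fact p.Prime] (σ : MulAut W) (_ : σ ∈ Hs) (_ : σ ≠ 1) (j : ℕ)
      (_ : σ ^ p ^ j = 1), p ∣ Nat.card Hs := by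
    intro p hp σ hσ hσ1 j hσj
    have h1 : orderOf (⟨σ, hσ⟩ : Hs) ∣ p ^ j := by
      apply orderOf_dvd_of_pow_eq_one
      exact Subtype.ext (by simpa using hσj)
    obtain ⟨i, -, hi⟩ := (Nat.dvd_prime_pow hp.out).mp h1
    have hi0 : i ≠ 0 := by
      rintro rfl
      rw [pow_zero, orderOf_eq_one_iff] at hi
      exact hσ1 (congrArg Subtype.val hi)
    exact dvd_trans (hi ▸ dvd_pow_self p hi0) (orderOf_dvd_natCard _)
  exact false_of_two_primes (H := Hs) r q hrq hP1 (hP2 r wr hwr kr hwr') (hP2 q wq hwq kq hwq')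
    (hcardH r σr hσr hσr1 jr hσr') (hcardH q σq hσq hσq1 jq hσq')

end final

end Cfsg.Agent.Lib.helper72
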