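import Mathlib
import Cfsg.Agent.Lib.helper3.PGroupFrattini
import Cfsg.Agent.Lib.helper72.FreeAct

/-!
# Camina pairs (helper72)

`Cam N` is the Camina condition for a subgroup `N` of `G`: for every `g ∉ N` and `n ∈ N` the
element `g * n` is conjugate to `g`.

* `cam_prime_dvd`: if `g ∉ N` commutes with `x ∈ N` of prime order `s` and `g ^ k ∈ N`, then `s ∣ k`.
* `cam_card_centralizer_dvd`: `|C_G(u)|` divides `|G : N|` for `u ∉ N`.
* `cam_sylow_frattini`: `N ⊓ P ≤ Φ(P)` for a Sylow subgroup `P` not contained in `N`.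
* `cam_sylow_pair`: if moreover `N ⊓ P ≠ 1`, then `P / (P ⊓ N)` has a rank two elementary abelian
  subgroup.
* `cam_no_rank_two`: averaging for a rank two elementary abelian group acting freely.
* `cam_quotient_false`, `cam_finish`: a Camina kernel cannot have a nilpotent `p'`-quotient
  (by a `G`-invariant subgroup) when `p` divides both `|N|` and `|G : N|`.
-/

set_option autoImplicit false

namespace Cfsg.Agent.Lib.helper72

section camina

variable {G : Type*} [Group G]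

/-- The Camina condition for a subgroup `N`. -/
def Cam (N : Subgroup G) : Prop := ∀ g : G, g ∉ N → ∀ n ∈ N, ∃ x : G, x * g * x⁻¹ = g * n

lemma cam_mem_of_coprime (H : Subgroup G) {x : G} {a b : ℕ} (hab : Nat.Coprime a b)
    (ha : x ^ a ∈ H) (hb : x ^ b ∈ H) : x ∈ H := by
  have h1 : (1 : ℤ) = a * Nat.gcdA a b + b * Nat.gcdB a b := by
    have h := Nat.gcd_eq_gcd_ab a b
    rw [hab.gcd_eq_one] at h
    exact_mod_cast h
  have h2 : x = (x ^ a) ^ (Nat.gcdA a b) * (x ^ b) ^ (Nat.gcdB a b) := by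
    rw [← zpow_natCast, ← zpow_natCast, ← zpow_mul, ← zpow_mul, ← zpow_add, ← h1, zpow_one]
  rw [h2]
  exact H.mul_mem (H.zpow_mem ha _) (H.zpow_mem hb _)

lemma cam_exists_pow_prime_order [Finite G] {x : G} (hx : x ≠ 1) :
    ∃ m : ℕ, (orderOf (x ^ m)).Prime := by
  have h1 : orderOf x ≠ 1 := by rwa [Ne, orderOf_eq_one_iff]
  obtain ⟨s, hs, hsd⟩ := Nat.exists_prime_and_dvd h1
  refine ⟨orderOf x / s, ?_⟩
  rw [orderOf_pow_orderOf_div (orderOf_pos x).ne' hsd]
  exact hs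

/-- In a Camina pair, if `g ∉ N` commutes with `x ∈ N` of prime order `s`, then `s` divides the
order of `g` modulo `N`. -/
theorem cam_prime_dvd [Finite G] {N : Subgroup G} (hcam : Cam N) {g x : G} (hg : g ∉ N)
    (hx : x ∈ N) (hc : Commute g x) {s : ℕ} (hs : s.Prime) (hxs : orderOf x = s) {k : ℕ}
    (hk : g ^ k ∈ N) : s ∣ k := by
  by_contra hsk
  have hn0 : orderOf g ≠ 0 := (orderOf_pos g).ne'
  obtain ⟨a, m, hm, hnm⟩ := Nat.exists_eq_pow_mul_and_not_dvd hn0 s hs.ne_one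
  have hg1 : g ^ (s ^ a) ∉ N := by
    intro h
    exact hg (cam_mem_of_coprime N
      (Nat.Coprime.pow_left a ((Nat.Prime.coprime_iff_not_dvd hs).mpr hsk)) h hk)
  obtain ⟨y, hy⟩ := hcam _ hg1 x hx
  have hc1 : Commute (g ^ (s ^ a)) x := hc.pow_left _
  have h1 : (g ^ (s ^ a) * x) ^ m = x ^ m := by
    rw [hc1.mul_pow, ← pow_mul, ← hnm, pow_orderOf_eq_one, one_mul]
  have h2 : (g ^ (s ^ a) * x) ^ m = 1 := by
    rw [← hy, conj_pow, ← pow_mul, ← hnm, pow_orderOf_eq_one, mul_one, mul_inv_cancel]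
  rw [h1] at h2
  have h3 := orderOf_dvd_of_pow_eq_one h2
  rw [hxs] at h3
  exact hm h3

/-- a nontrivial fixed point gives a fixed point of prime order dividing `k` -/
theorem cam_fix [Finite G] {N : Subgroup G} (hcam : Cam N) {g x : G} (hg : g ∉ N) (hx : x ∈ N)
    (hc : Commute g x) (hx1 : x ≠ 1) {k : ℕ} (hk : g ^ k ∈ N) :
    ∃ m : ℕ, (orderOf (x ^ m)).Prime ∧ orderOf (x ^ m) ∣ k := by
  obtain ⟨m, hm⟩ := cam_exists_pow_prime_order hx1
  exact ⟨m, hm, cam_prime_dvd hcam hg (N.pow_mem hx m) (hc.pow_right m) hm rfl hk⟩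

/-- In a Camina pair, the centralizer of an element outside `N` has order dividing `|G : N|`. -/
theorem cam_card_centralizer_dvd [Finite G] {N : Subgroup G} [hNn : N.Normal] (hcam : Cam N)
    {u : G} (hu : u ∉ N) : Nat.card (Subgroup.centralizer ({u} : Set G)) ∣ N.index := by
  classical
  set X : Set G := MulAction.orbit (ConjAct G) u with hX
  have hsat : (QuotientGroup.mk : G → G ⧸ N) ⁻¹' ((QuotientGroup.mk : G → G ⧸ N) '' X) = X := by
    apply Set.Subset.antisymm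
    · rintro g ⟨g', hg', hgg'⟩
      have hn : g'⁻¹ * g ∈ N := QuotientGroup.eq.mp hgg'
      rw [hX, ConjAct.mem_orbit_conjAct, isConj_iff] at hg' ⊢
      obtain ⟨c, hc⟩ := hg'
      have hn' : c * (g'⁻¹ * g) * c⁻¹ ∈ N := hNn.conj_mem _ hn c
      obtain ⟨y, hy⟩ := hcam u hu _ hn'
      refine ⟨y⁻¹ * c, ?_⟩
      have h1 : c * g * c⁻¹ = u * (c * (g'⁻¹ * g) * c⁻¹) := by rw [← hc]; group
      have h2 : y⁻¹ * c * g * (y⁻¹ * c)⁻¹ = y⁻¹ * (c * g * c⁻¹) * y := by group
      rw [h2, h1, ← hy]; group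
    · exact Set.subset_preimage_image _ _
  have h1 : Nat.card X = Nat.card N * Nat.card ((QuotientGroup.mk : G → G ⧸ N) '' X) := by
    rw [← QuotientGroup.card_preimage_mk, hsat]
  have h2 : (MulAction.stabilizer (ConjAct G) u).index = X.ncard :=
    MulAction.index_stabilizer (ConjAct G) u
  have h3 := Subgroup.nat_card_centralizer_nat_card_stabilizer u
  have h4 := Subgroup.card_mul_index (MulAction.stabilizer (ConjAct G) u)
  have h5 := Subgroup.card_mul_index N
  have h6 : Nat.card (ConjAct G) = Nat.card G := rfl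
  rw [h3]
  set t := Nat.card ((QuotientGroup.mk : G → G ⧸ N) '' X) with ht
  have h7 : Nat.card N * (Nat.card (MulAction.stabilizer (ConjAct G) u) * t) =
      Nat.card N * N.index := by
    rw [h5, ← h6, ← h4, h2, ← Nat.card_coe_set_eq, h1]; ring
  exact ⟨t, (Nat.eq_of_mul_eq_mul_left Nat.card_pos h7).symm⟩

/-- In a finite `p`-group, a proper normal subgroup `M` admits an element of order `p` modulo `M`
which is central modulo `M`. -/
theorem cam_exists_central_mod {R : Type*} [Group R] [Finite R] {p : ℕ} [hp : Fact p.Prime]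
    (hR : IsPGroup p R) (M : Subgroup R) [M.Normal] (hM : M ≠ ⊤) :
    ∃ u : R, u ∉ M ∧ u ^ p ∈ M ∧ ∀ y : R, y * u * y⁻¹ * u⁻¹ ∈ M := by
  have hQ : IsPGroup p (R ⧸ M) := hR.to_quotient M
  have : Nontrivial (R ⧸ M) := by
    rw [QuotientGroup.nontrivial_iff]; exact hM
  have : Nontrivial (Subgroup.center (R ⧸ M)) := hQ.center_nontrivial
  have hZ : IsPGroup p (Subgroup.center (R ⧸ M)) := hQ.to_subgroup _
  have hdvd : p ∣ Nat.card (Subgroup.center (R ⧸ M)) := by
    rcases hZ.card_eq_or_dvd with h | h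
    · exact absurd h (Finite.one_lt_card).ne'
    · exact h
  obtain ⟨z, hz⟩ := exists_prime_orderOf_dvd_card' p hdvd
  obtain ⟨u, hu⟩ := QuotientGroup.mk_surjective (z : R ⧸ M)
  refine ⟨u, ?_, ?_, ?_⟩
  · intro huM
    have h1 : (z : R ⧸ M) = 1 := by rw [← hu]; exact (QuotientGroup.eq_one_iff u).mpr huM
    have h2 : z = 1 := Subtype.ext h1
    rw [h2, orderOf_one] at hz
    exact hp.out.ne_one hz.symm
  · rw [← QuotientGroup.eq_one_iff, QuotientGroup.mk_pow, hu, ← Subgroup.coe_pow, ← hz,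
      pow_orderOf_eq_one]
    rfl
  · intro y
    rw [← QuotientGroup.eq_one_iff, QuotientGroup.mk_mul, QuotientGroup.mk_mul,
      QuotientGroup.mk_mul, QuotientGroup.mk_inv, QuotientGroup.mk_inv, hu]
    have hc := Subgroup.mem_center_iff.mp z.2 (y : R ⧸ M)
    rw [hc, mul_inv_cancel_right, mul_inv_cancel]

/-- **Second generator.** In a finite `p`-group `R` with a nontrivial normal subgroup `M`, if `u`
has order `p` and is central modulo `M`, and every element of `M` is a commutator `[y, u]`, then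
there is `v` of order `p` modulo `M` independent of `u` modulo `M`. -/
theorem cam_exists_second {R : Type*} [Group R] [Finite R] {p : ℕ} [hp : Fact p.Prime]
    (hR : IsPGroup p R) (M : Subgroup R) [hMn : M.Normal] (hM : M ≠ ⊥) (u : R)
    (hup : u ^ p ∈ M)
    (hsurj : ∀ n ∈ M, ∃ y : R, y * u * y⁻¹ * u⁻¹ = n) :
    ∃ v : R, v ^ p ∈ M ∧ ∀ i j : ℕ, u ^ i * v ^ j ∈ M → p ∣ i ∧ p ∣ j := by
  classical
  by_contra hno
  push Not at hno
  have hupow : ∀ i : ℕ, p ∣ i → u ^ i ∈ M := by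
    rintro i ⟨c, rfl⟩; rw [pow_mul]; exact M.pow_mem hup c
  have F1 : ∀ y : R, y ∉ M → ∃ t n₁ : R, n₁ ∈ M ∧ Commute y t ∧ u = t * n₁ := by
    intro y hy
    have hex : ∃ e : ℕ, y ^ (p ^ e) ∈ M := by
      obtain ⟨k, hk⟩ := hR y
      exact ⟨k, by rw [hk]; exact M.one_mem⟩
    have hespec : y ^ (p ^ Nat.find hex) ∈ M := Nat.find_spec hex
    have he0 : Nat.find hex ≠ 0 := by
      intro h0
      rw [h0, pow_zero, pow_one] at hespec
      exact hy hespec
    obtain ⟨e', he'⟩ := Nat.exists_eq_succ_of_ne_zero he0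
    have hv : y ^ (p ^ e') ∉ M := Nat.find_min hex (by omega)
    have hvp : (y ^ (p ^ e')) ^ p ∈ M := by
      rw [← pow_mul, ← pow_succ, ← Nat.succ_eq_add_one, ← he']; exact hespec
    obtain ⟨i, j, hij, hnot⟩ := hno (y ^ (p ^ e')) hvp
    have hpi : ¬ p ∣ i := by
      intro hpi
      have h1 : (y ^ (p ^ e')) ^ j ∈ M := by
        have := M.mul_mem (M.inv_mem (hupow i hpi)) hij
        rwa [inv_mul_cancel_left] at this
      have hpj : p ∣ j := by
        by_contra hpj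
        exact hv (cam_mem_of_coprime M
          ((Nat.Prime.coprime_iff_not_dvd hp.out).mpr hpj).symm h1 hvp)
      exact hnot hpi hpj
    have hq : ((u : R) : R ⧸ M) ∈ Subgroup.zpowers (((y ^ (p ^ e') : R)) : R ⧸ M) := by
      apply cam_mem_of_coprime (Subgroup.zpowers (((y ^ (p ^ e') : R)) : R ⧸ M)) (a := i) (b := p)
        ((Nat.Prime.coprime_iff_not_dvd hp.out).mpr hpi).symm
      · have h1 : ((u : R) : R ⧸ M) ^ i * (((y ^ (p ^ e') : R)) : R ⧸ M) ^ j = 1 := by
          rw [← QuotientGroup.mk_pow, ← QuotientGroup.mk_pow, ← QuotientGroup.mk_mul]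
          exact (QuotientGroup.eq_one_iff _).mpr hij
        have h2 : ((u : R) : R ⧸ M) ^ i = ((((y ^ (p ^ e') : R)) : R ⧸ M) ^ j)⁻¹ :=
          eq_inv_of_mul_eq_one_left h1
        rw [h2]
        exact Subgroup.inv_mem _ (Subgroup.pow_mem _ (Subgroup.mem_zpowers _) j)
      · rw [← QuotientGroup.mk_pow, (QuotientGroup.eq_one_iff _).mpr hup]
        exact Subgroup.one_mem _
    obtain ⟨z, hz⟩ := Subgroup.mem_zpowers_iff.mp hq
    refine ⟨(y ^ (p ^ e')) ^ z, ((y ^ (p ^ e')) ^ z)⁻¹ * u, ?_, ?_, ?_⟩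
    · apply QuotientGroup.eq.mp
      rw [QuotientGroup.mk_zpow, hz]
    · exact ((Commute.refl y).pow_right _).zpow_right z
    · group
  have F2 : ∀ y : R, y * u * y⁻¹ * u⁻¹ ∈ ⁅M, (⊤ : Subgroup R)⁆ := by
    intro y
    by_cases hy : y ∈ M
    · have := Subgroup.commutator_mem_commutator hy (Subgroup.mem_top u)
      rwa [commutatorElement_def] at this
    · obtain ⟨t, n₁, hn₁, hyt, hu⟩ := F1 y hy
      have h1 : y * u * y⁻¹ * u⁻¹ = t * (n₁ * y * n₁⁻¹ * y⁻¹)⁻¹ * t⁻¹ := by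
        rw [hu]
        have h := hyt.eq
        calc y * (t * n₁) * y⁻¹ * (t * n₁)⁻¹ = (y * t) * n₁ * y⁻¹ * n₁⁻¹ * t⁻¹ := by group
          _ = (t * y) * n₁ * y⁻¹ * n₁⁻¹ * t⁻¹ := by rw [h]
          _ = _ := by group
      rw [h1]
      have h2 := Subgroup.commutator_mem_commutator hn₁ (Subgroup.mem_top y)
      rw [commutatorElement_def] at h2
      exact (inferInstance : (⁅M, (⊤ : Subgroup R)⁆).Normal).conj_mem _ (Subgroup.inv_mem _ h2) t
  have F3 : M ≤ ⁅M, (⊤ : Subgroup R)⁆ := by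
    intro n hn
    obtain ⟨y, rfl⟩ := hsurj n hn
    exact F2 y
  have F4 : ∀ k : ℕ, M ≤ (⊤ : Subgroup R).lowerCentralSeries k := by
    intro k
    induction k with
    | zero => simp
    | succ k ih =>
      change M ≤ ⁅(⊤ : Subgroup R).lowerCentralSeries k, (⊤ : Subgroup R)⁆
      exact F3.trans (Subgroup.commutator_mono ih le_rfl)
  have hnilR : Group.IsNilpotent R := hR.isNilpotent
  obtain ⟨k, hk⟩ := Subgroup.nilpotent_iff_lowerCentralSeries.mp hnilR
  exact hM (le_bot_iff.mp (hk ▸ F4 k))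

/-- **Rank two averaging.** Two commuting automorphisms `c`, `d` of an abelian group with
`c ^ p = d ^ p = 1`, such that every `c ^ i * d ^ j` with `(i, j) ≢ (0, 0)` mod `p` is
fixed-point-free, force `w ^ p = 1` for all `w`. -/
theorem cam_no_rank_two {W : Type*} [CommGroup W] (p : ℕ) (hp : 1 < p) (c d : MulAut W)
    (hcd : Commute c d)
    (hfix : ∀ i j : ℕ, ¬ (p ∣ i ∧ p ∣ j) → ∀ w, (c ^ i * d ^ j) w = w → w = 1)
    (hcp : c ^ p = 1) (hdp : d ^ p = 1) (w : W) : w ^ p = 1 := by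
  have hnorm : ∀ e : MulAut W, e ^ p = 1 → (∀ w, e w = w → w = 1) → ∀ w, normHom e p w = 1 := by
    intro e hep hefix w
    apply hefix
    rw [← normHom_comm e e (Commute.refl e), normHom_map e p hep]
  have h1 : ∀ i ∈ Finset.range p, normHom (c * d ^ i) p w = 1 := by
    intro i _
    apply hnorm
    · rw [(hcd.pow_right i).mul_pow, hcp, ← pow_mul, mul_comm, pow_mul, hdp, one_pow, mul_one]
    · intro w hw
      refine hfix 1 i (fun h => ?_) w (by simpa using hw)
      exact absurd (Nat.le_of_dvd one_pos h.1) (by omega)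
  have h2 : ∏ i ∈ Finset.range p, normHom (c * d ^ i) p w = 1 := Finset.prod_eq_one h1
  have h3 : ∏ i ∈ Finset.range p, normHom (c * d ^ i) p w =
      ∏ j ∈ Finset.range p, (c ^ j) (normHom (d ^ j) p w) := by
    simp only [normHom_apply]
    rw [Finset.prod_comm]
    apply Finset.prod_congr rfl
    intro j _
    rw [map_prod]
    apply Finset.prod_congr rfl
    intro i _
    rw [(hcd.pow_right i).mul_pow, ← pow_mul, mul_comm i j, pow_mul, MulAut.mul_apply]
  rw [h3] at h2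
  have h4 : ∏ j ∈ Finset.range p, (c ^ j) (normHom (d ^ j) p w) = w ^ p := by
    rw [Finset.prod_eq_single 0]
    · simp [normHom_apply]
    · intro j hj hj0
      have h5 : normHom (d ^ j) p w = 1 := by
        apply hnorm
        · rw [← pow_mul, mul_comm, pow_mul, hdp, one_pow]
        · intro w hw
          refine hfix 0 j (fun h => ?_) w (by simpa using hw)
          exact hj0 (Nat.eq_zero_of_dvd_of_lt h.2 (Finset.mem_range.mp hj))
      rw [h5, map_one]
    · intro h; exact absurd (Finset.mem_range.mpr (by omega)) h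
  rw [h4] at h2
  exact h2

/-- `cam_no_rank_two` for a group with commuting elements. -/
theorem cam_no_rank_two' {W : Type*} [inst : Group W] (hW : ∀ a b : W, a * b = b * a) (p : ℕ)
    (hp : 1 < p) (c d : MulAut W) (hcd : Commute c d)
    (hfix : ∀ i j : ℕ, ¬ (p ∣ i ∧ p ∣ j) → ∀ w, (c ^ i * d ^ j) w = w → w = 1)
    (hcp : c ^ p = 1) (hdp : d ^ p = 1) (w : W) : w ^ p = 1 := by
  let _ : CommGroup W := { inst with mul_comm := hW }
  exact cam_no_rank_two p hp c d hcd hfix hcp hdp w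

/-- For a Sylow `p`-subgroup `P` and `u ∈ P ∖ N` central modulo `N` in `P`, the `P`-class of `u`
is the whole coset `(P ⊓ N) u`. -/
theorem cam_sylow_class [Finite G] {N : Subgroup G} [hNn : N.Normal] (hcam : Cam N) {p : ℕ}
    [hp : Fact p.Prime] (P : Sylow p G) {u : G} (huP : u ∈ (P : Subgroup G)) (huN : u ∉ N)
    (hcen : ∀ y ∈ (P : Subgroup G), y * u * y⁻¹ * u⁻¹ ∈ N) :
    ∀ n ∈ N, n ∈ (P : Subgroup G) → ∃ y ∈ (P : Subgroup G), y * u * y⁻¹ * u⁻¹ = n := by
  classical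
  let act : MulAction ↥(P : Subgroup G) G :=
    MulAction.compHom G ((MulAut.conj : G →* MulAut G).comp (P : Subgroup G).subtype)
  set O : Set G := @MulAction.orbit ↥(P : Subgroup G) G act.toSMul u with hO
  set S : Subgroup ↥(P : Subgroup G) := @MulAction.stabilizer ↥(P : Subgroup G) G _ act u with hS
  have horb : ∀ g : G, g ∈ O ↔ ∃ y : ↥(P : Subgroup G), (y : G) * u * (y : G)⁻¹ = g :=
    fun g => Iff.rfl
  have hstab : ∀ y : ↥(P : Subgroup G), y ∈ S ↔ (y : G) * u * (y : G)⁻¹ = u := fun y => Iff.rfl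
  set T : Set G := (fun n => n * u) '' (((P : Subgroup G) ⊓ N : Subgroup G) : Set G) with hT
  have hOT : O ⊆ T := by
    intro g hg
    obtain ⟨y, rfl⟩ := (horb g).mp hg
    refine ⟨(y : G) * u * (y : G)⁻¹ * u⁻¹, ⟨?_, hcen y y.2⟩, by simp⟩
    exact Subgroup.mul_mem _ (Subgroup.mul_mem _ (Subgroup.mul_mem _ y.2 huP)
      (Subgroup.inv_mem _ y.2)) (Subgroup.inv_mem _ huP)
  have hTcard : T.ncard = Nat.card ↥((P : Subgroup G) ⊓ N) := by
    rw [hT, Set.ncard_image_of_injective _ (mul_left_injective u), ← Nat.card_coe_set_eq]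
    rfl
  have h1 : S.index = O.ncard := @MulAction.index_stabilizer ↥(P : Subgroup G) G _ act u
  have h2 : Nat.card S * S.index = Nat.card ↥(P : Subgroup G) := Subgroup.card_mul_index S
  have h3 : Nat.card S ∣ Nat.card (Subgroup.centralizer ({u} : Set G)) := by
    have hle : S.map (P : Subgroup G).subtype ≤ Subgroup.centralizer ({u} : Set G) := by
      rintro _ ⟨y, hy, rfl⟩
      rw [Subgroup.mem_centralizer_iff]
      intro h hh
      rw [Set.mem_singleton_iff] at hh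
      subst hh
      have h' : (y : G) * h * (y : G)⁻¹ = h := (hstab y).mp hy
      exact (mul_inv_eq_iff_eq_mul.mp h').symm
    have hc : Nat.card (S.map (P : Subgroup G).subtype) = Nat.card S :=
      Subgroup.card_map_of_injective (Subgroup.subtype_injective _)
    rw [← hc]
    exact Subgroup.card_dvd_of_le hle
  have h4 : Nat.card S ∣ N.index := h3.trans (cam_card_centralizer_dvd hcam huN)
  obtain ⟨k, hk⟩ := (P.isPGroup'.to_subgroup S).exists_card_eq
  obtain ⟨j, hj⟩ :=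
    (P.isPGroup'.to_le (inf_le_left : (P : Subgroup G) ⊓ N ≤ P)).exists_card_eq
  have ha := P.card_eq_multiplicity
  have hjk : j + k ≤ (Nat.card G).factorization p := by
    have h5 : p ^ j ∣ Nat.card N := by
      rw [← hj]; exact Subgroup.card_dvd_of_le inf_le_right
    have h6 : p ^ (j + k) ∣ Nat.card G := by
      rw [pow_add, ← Subgroup.card_mul_index N]
      exact mul_dvd_mul h5 (hk ▸ h4)
    exact (Nat.Prime.pow_dvd_iff_le_factorization hp.out Nat.card_pos.ne').mp h6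
  have hOcard : O.ncard = p ^ ((Nat.card G).factorization p - k) := by
    rw [h1, hk, ha] at h2
    have h7 : p ^ (Nat.card G).factorization p = p ^ k * p ^ ((Nat.card G).factorization p - k) := by
      rw [← pow_add]; congr 1; omega
    rw [h7] at h2
    exact Nat.eq_of_mul_eq_mul_left (pow_pos hp.out.pos k) h2
  have hle : T.ncard ≤ O.ncard := by
    rw [hTcard, hj, hOcard]
    exact Nat.pow_le_pow_right hp.out.pos (by omega)
  have hOTeq : O = T := Set.eq_of_subset_of_ncard_le hOT hle (Set.toFinite T)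
  intro n hnN hnP
  have hmem : n * u ∈ O := by
    rw [hOTeq]; exact ⟨n, ⟨hnP, hnN⟩, rfl⟩
  obtain ⟨y, hy⟩ := (horb _).mp hmem
  exact ⟨y, y.2, by rw [hy, mul_inv_cancel_right]⟩

theorem cam_sylow_exists_u [Finite G] {N : Subgroup G} [hNn : N.Normal] {p : ℕ}
    [hp : Fact p.Prime] (P : Sylow p G) (hPN : ¬ (P : Subgroup G) ≤ N) :
    ∃ u ∈ (P : Subgroup G), u ∉ N ∧ u ^ p ∈ N ∧
      ∀ y ∈ (P : Subgroup G), y * u * y⁻¹ * u⁻¹ ∈ N := by
  have hM : N.subgroupOf (P : Subgroup G) ≠ ⊤ := by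
    rw [Ne, Subgroup.subgroupOf_eq_top]; exact hPN
  obtain ⟨u, hu1, hu2, hu3⟩ :=
    cam_exists_central_mod P.isPGroup' (N.subgroupOf (P : Subgroup G)) hM
  refine ⟨u, u.2, ?_, ?_, ?_⟩
  · simpa [Subgroup.mem_subgroupOf] using hu1
  · simpa [Subgroup.mem_subgroupOf] using hu2
  · intro y hy
    simpa [Subgroup.mem_subgroupOf] using hu3 ⟨y, hy⟩

/-- In a Camina pair, `N ⊓ P ≤ Φ(P)` for every Sylow subgroup `P` not contained in `N`. -/
theorem cam_sylow_frattini [Finite G] {N : Subgroup G} [hNn : N.Normal] (hcam : Cam N) {p : ℕ}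
    [hp : Fact p.Prime] (P : Sylow p G) (hPN : ¬ (P : Subgroup G) ≤ N) :
    N ⊓ (P : Subgroup G) ≤ (frattini ↥(P : Subgroup G)).map (P : Subgroup G).subtype := by
  obtain ⟨u, huP, huN, -, hcen⟩ := cam_sylow_exists_u (N := N) P hPN
  intro n hn
  obtain ⟨y, hyP, hy⟩ := cam_sylow_class hcam P huP huN hcen n hn.1 hn.2
  have h1 : (⟨y, hyP⟩ : ↥(P : Subgroup G)) * ⟨u, huP⟩ * (⟨y, hyP⟩ : ↥(P : Subgroup G))⁻¹ *
      (⟨u, huP⟩ : ↥(P : Subgroup G))⁻¹ ∈ commutator ↥(P : Subgroup G) := by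
    rw [commutator_def]
    have h := Subgroup.commutator_mem_commutator
      (Subgroup.mem_top (⟨y, hyP⟩ : ↥(P : Subgroup G)))
      (Subgroup.mem_top (⟨u, huP⟩ : ↥(P : Subgroup G)))
    rwa [commutatorElement_def] at h
  refine ⟨_, Cfsg.Agent.Lib.helper3.commutator_le_frattini P.isPGroup' h1, ?_⟩
  rw [← hy]; rfl

/-- In a Camina pair, if `P ⊓ N ≠ 1` and `P ≰ N`, then `P / (P ⊓ N)` contains a rank two elementary
abelian subgroup. -/
theorem cam_sylow_pair [Finite G] {N : Subgroup G} [hNn : N.Normal] (hcam : Cam N) {p : ℕ}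
    [hp : Fact p.Prime] (P : Sylow p G) (hPN : ¬ (P : Subgroup G) ≤ N)
    (hP0 : ∃ n ∈ N, n ∈ (P : Subgroup G) ∧ n ≠ 1) :
    ∃ u ∈ (P : Subgroup G), ∃ v ∈ (P : Subgroup G), u ^ p ∈ N ∧ v ^ p ∈ N ∧
      u * v * u⁻¹ * v⁻¹ ∈ N ∧ ∀ i j : ℕ, u ^ i * v ^ j ∈ N → p ∣ i ∧ p ∣ j := by
  obtain ⟨u, huP, huN, hup, hcen⟩ := cam_sylow_exists_u (N := N) P hPN
  have hcl := cam_sylow_class hcam P huP huN hcen
  have hM0 : N.subgroupOf (P : Subgroup G) ≠ ⊥ := by
    obtain ⟨n, hnN, hnP, hn1⟩ := hP0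
    intro h
    have h1 : (⟨n, hnP⟩ : ↥(P : Subgroup G)) ∈ N.subgroupOf (P : Subgroup G) := by
      rw [Subgroup.mem_subgroupOf]; exact hnN
    rw [h, Subgroup.mem_bot] at h1
    exact hn1 (congrArg Subtype.val h1)
  obtain ⟨v, hvp, hv⟩ := cam_exists_second P.isPGroup' (N.subgroupOf (P : Subgroup G)) hM0
    ⟨u, huP⟩ (by rw [Subgroup.mem_subgroupOf]; exact hup)
    (by
      intro n hn
      obtain ⟨y, hyP, hy⟩ := hcl n (Subgroup.mem_subgroupOf.mp hn) n.2
      exact ⟨⟨y, hyP⟩, Subtype.ext hy⟩)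
  refine ⟨u, huP, v, v.2, hup, ?_, ?_, ?_⟩
  · simpa [Subgroup.mem_subgroupOf] using hvp
  · have h1 := N.inv_mem (hcen v v.2)
    have h2 : ((v : G) * u * (v : G)⁻¹ * u⁻¹)⁻¹ = u * v * u⁻¹ * (v : G)⁻¹ := by group
    rwa [h2] at h1
  · intro i j hij
    exact hv i j (by rw [Subgroup.mem_subgroupOf]; exact hij)

/-- **Key contradiction**, for an arbitrary surjection `π` whose kernel lies in `N`: the image
of `N` cannot be a nontrivial nilpotent group without `p`-torsion if `G` has elements `u`, `v`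
whose images generate a rank two elementary abelian `p`-group meeting the image of `N`
trivially. -/
theorem cam_image_false [Finite G] {N : Subgroup G} [hNn : N.Normal] (hcam : Cam N) {p : ℕ}
    [hp : Fact p.Prime] {H : Type*} [Group H] (π : G →* H) (hπs : Function.Surjective π)
    (hker : π.ker ≤ N) (hK1 : ∃ x ∈ N, π x ≠ 1) (hnil : Group.IsNilpotent ↥(N.map π))
    (hp' : ∀ x ∈ N, π x ^ p = 1 → π x = 1) (u v : G) (hu : π u ^ p = 1) (hv : π v ^ p = 1)
    (huv : Commute (π u) (π v))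
    (hind : ∀ i j : ℕ, u ^ i * v ^ j ∈ N → p ∣ i ∧ p ∣ j) : False := by
  classical
  have : Finite H := Finite.of_surjective π hπs
  have hNbn : (N.map π).Normal := hNn.map π hπs
  have hmemNb : ∀ g : G, π g ∈ N.map π ↔ g ∈ N := by
    intro g
    constructor
    · rintro ⟨n, hn, hng⟩
      have h1 : n⁻¹ * g ∈ π.ker := by
        rw [MonoidHom.mem_ker, map_mul, map_inv, hng, inv_mul_cancel]
      have h2 := N.mul_mem hn (hker h1)
      rwa [mul_inv_cancel_left] at h2
    · intro hg; exact Subgroup.mem_map_of_mem π hg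
  have hcamb : Cam (N.map π) := by
    intro gb hgb nb hnb
    obtain ⟨g, rfl⟩ := hπs gb
    obtain ⟨n, hn, rfl⟩ := hnb
    have hg : g ∉ N := fun h => hgb ((hmemNb g).mpr h)
    obtain ⟨x, hx⟩ := hcam g hg n hn
    exact ⟨π x, by rw [← map_inv, ← map_mul, ← map_mul, hx, map_mul]⟩
  have hNbp : ∀ w ∈ N.map π, w ^ p = 1 → w = 1 := by
    rintro _ ⟨x, hx, rfl⟩ hw
    exact hp' x hx hw
  have : Nontrivial ↥(N.map π) := by
    obtain ⟨x, hx, hx1⟩ := hK1
    exact ⟨⟨⟨π x, Subgroup.mem_map_of_mem π hx⟩, 1, fun h => hx1 (congrArg Subtype.val h)⟩⟩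
  obtain ⟨z, hz1⟩ := (Subgroup.ne_bot_iff_exists_ne_one).mp
    (Group.IsNilpotent.center_ne_bot (G := ↥(N.map π)))
  set Wb : Subgroup H := N.map π ⊓ Subgroup.centralizer ((N.map π : Subgroup H) : Set H) with hWb
  have hmemW : ∀ w : H, w ∈ Wb ↔
      w ∈ N.map π ∧ w ∈ Subgroup.centralizer ((N.map π : Subgroup H) : Set H) :=
    fun w => Subgroup.mem_inf
  have hWn : Wb.Normal := by
    constructor
    intro w hw g
    rw [hmemW] at hw ⊢
    refine ⟨hNbn.conj_mem w hw.1 g, ?_⟩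
    rw [Subgroup.mem_centralizer_iff]
    intro n hn
    have hn' : g⁻¹ * n * g ∈ N.map π := by simpa using hNbn.conj_mem n hn g⁻¹
    have h := (Subgroup.mem_centralizer_iff.mp hw.2) _ hn'
    calc n * (g * w * g⁻¹) = g * ((g⁻¹ * n * g) * w) * g⁻¹ := by group
      _ = g * (w * (g⁻¹ * n * g)) * g⁻¹ := by rw [h]
      _ = g * w * g⁻¹ * n := by group
  have hWcomm : ∀ a b : ↥Wb, a * b = b * a := by
    intro a b
    apply Subtype.ext
    have ha := (hmemW _).mp a.2
    have hb := (hmemW _).mp b.2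
    exact Subgroup.mem_centralizer_iff.mp hb.2 (a : H) ha.1
  have hz0 : ((z : ↥(N.map π)) : H) ∈ Wb := by
    rw [hmemW]
    refine ⟨(z : ↥(N.map π)).2, ?_⟩
    rw [Subgroup.mem_centralizer_iff]
    intro n hn
    have h := Subgroup.mem_center_iff.mp z.2 ⟨n, hn⟩
    exact congrArg Subtype.val h
  have hcd : Commute (MulAut.conjNormal (H := Wb) (π u)) (MulAut.conjNormal (H := Wb) (π v)) :=
    huv.map (MulAut.conjNormal (H := Wb))
  have hcp : (MulAut.conjNormal (H := Wb) (π u)) ^ p = 1 := by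
    rw [← map_pow, hu, map_one]
  have hdp : (MulAut.conjNormal (H := Wb) (π v)) ^ p = 1 := by
    rw [← map_pow, hv, map_one]
  have hfix : ∀ i j : ℕ, ¬ (p ∣ i ∧ p ∣ j) → ∀ w : ↥Wb,
      ((MulAut.conjNormal (H := Wb) (π u)) ^ i * (MulAut.conjNormal (H := Wb) (π v)) ^ j) w = w →
      w = 1 := by
    intro i j hij w hw
    have hcd' : (MulAut.conjNormal (H := Wb) (π u)) ^ i * (MulAut.conjNormal (H := Wb) (π v)) ^ j
        = MulAut.conjNormal (H := Wb) (π (u ^ i * v ^ j)) := by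
      simp only [map_mul, map_pow]
    rw [hcd'] at hw
    have hw' : π (u ^ i * v ^ j) * (w : H) * (π (u ^ i * v ^ j))⁻¹ = (w : H) := by
      rw [← MulAut.conjNormal_apply]; exact congrArg Subtype.val hw
    have hcomm : Commute (π (u ^ i * v ^ j)) (w : H) := mul_inv_eq_iff_eq_mul.mp hw'
    by_contra hw1
    have hw1' : (w : H) ≠ 1 := fun h => hw1 (Subtype.ext h)
    have hgb : π (u ^ i * v ^ j) ∉ N.map π := fun h => hij (hind i j ((hmemNb _).mp h))
    have hgp : π (u ^ i * v ^ j) ^ p ∈ N.map π := by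
      have h1 : π (u ^ i * v ^ j) ^ p = 1 := by
        rw [map_mul, map_pow, map_pow, (huv.pow_pow i j).mul_pow, ← pow_mul, ← pow_mul,
          mul_comm i p, mul_comm j p, pow_mul, pow_mul, hu, hv, one_pow, one_pow, mul_one]
      rw [h1]; exact Subgroup.one_mem _
    obtain ⟨m, hm, hmd⟩ := cam_fix hcamb hgb w.2.1 hcomm hw1' hgp
    have hmp : orderOf ((w : H) ^ m) = p := (Nat.prime_dvd_prime_iff_eq hm hp.out).mp hmd
    have h1 : ((w : H) ^ m) ^ p = 1 := by rw [← hmp]; exact pow_orderOf_eq_one _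
    have h2 := hNbp _ (Subgroup.pow_mem _ w.2.1 m) h1
    rw [h2, orderOf_one] at hmp
    exact hp.out.ne_one hmp.symm
  have hfin := cam_no_rank_two' hWcomm p hp.out.one_lt _ _ hcd hfix hcp hdp ⟨_, hz0⟩
  have h3 : ((z : ↥(N.map π)) : H) ^ p = 1 := congrArg Subtype.val hfin
  have h4 := hNbp _ (z : ↥(N.map π)).2 h3
  exact hz1 (Subtype.ext (Subtype.ext h4))

/-- **Final contradiction.** A Camina kernel `N` for which `p` divides `|G : N|` and `|N|`
(witnessed by `u`, `v` in a `p`-subgroup `T`) has no proper `G`-invariant subgroup `K'` with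
`N / K'` nilpotent without `p`-torsion. -/
theorem cam_finish [Finite G] {N : Subgroup G} [hNn : N.Normal] (hcam : Cam N) {p : ℕ}
    [hp : Fact p.Prime] (T : Subgroup G) (hT : IsPGroup p T) (u v : G) (huT : u ∈ T) (hvT : v ∈ T)
    (hup : u ^ p ∈ N) (hvp : v ^ p ∈ N) (huv : u * v * u⁻¹ * v⁻¹ ∈ N)
    (hind : ∀ i j : ℕ, u ^ i * v ^ j ∈ N → p ∣ i ∧ p ∣ j)
    (K' : Subgroup ↥N) [hK'n : K'.Normal]
    (hinv : ∀ (g : G) (x : ↥N), x ∈ K' → (⟨g * x * g⁻¹, hNn.conj_mem x x.2 g⟩ : ↥N) ∈ K')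
    (hne : K' ≠ ⊤) (hp' : ∀ x : ↥N, x ^ p ∈ K' → x ∈ K')
    (hnil : Group.IsNilpotent (↥N ⧸ K')) : False := by
  classical
  set K : Subgroup G := K'.map N.subtype with hK
  have hmemK : ∀ x : ↥N, (x : G) ∈ K ↔ x ∈ K' := by
    intro x
    constructor
    · rintro ⟨y, hy, hyx⟩
      have h1 : y = x := Subtype.ext hyx
      rwa [← h1]
    · intro hx; exact ⟨x, hx, rfl⟩
  have hKN : K ≤ N := by
    rintro _ ⟨y, -, rfl⟩; exact y.2
  have hKn : K.Normal := by
    constructor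
    rintro _ ⟨y, hy, rfl⟩ g
    exact (hmemK ⟨g * y * g⁻¹, hNn.conj_mem y y.2 g⟩).mpr (hinv g y hy)
  have hK1 : ∃ x ∈ N, (QuotientGroup.mk' K) x ≠ 1 := by
    obtain ⟨x, -, hx⟩ := SetLike.exists_of_lt (lt_top_iff_ne_top.mpr hne)
    refine ⟨x, x.2, ?_⟩
    intro h
    exact hx ((hmemK x).mp ((QuotientGroup.eq_one_iff _).mp h))
  have hpK : ∀ x ∈ N, x ^ p ∈ K → x ∈ K := by
    intro x hx hxp
    exact (hmemK ⟨x, hx⟩).mpr (hp' ⟨x, hx⟩ ((hmemK (⟨x, hx⟩ ^ p)).mp hxp))
  have hpel : ∀ k : ℕ, ∀ x ∈ N, x ^ (p ^ k) = 1 → x ∈ K := by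
    intro k
    induction k with
    | zero => intro x _ hx; rw [pow_zero, pow_one] at hx; rw [hx]; exact K.one_mem
    | succ k ih =>
      intro x hx hxk
      apply hpK x hx
      apply ih _ (N.pow_mem hx p)
      rw [← pow_mul, ← pow_succ']; exact hxk
  have hTK : ∀ x ∈ T, x ∈ N → x ∈ K := by
    intro x hxT hxN
    obtain ⟨k, hk⟩ := hT ⟨x, hxT⟩
    exact hpel k x hxN (congrArg Subtype.val hk)
  have hnil' : Group.IsNilpotent ↥(N.map (QuotientGroup.mk' K)) := by
    have hf : Function.Surjective ((QuotientGroup.mk' K).subgroupMap N) :=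
      (QuotientGroup.mk' K).subgroupMap_surjective N
    have hfk : K' ≤ ((QuotientGroup.mk' K).subgroupMap N).ker := by
      intro x hx
      rw [MonoidHom.mem_ker]
      apply Subtype.ext
      exact (QuotientGroup.eq_one_iff _).mpr ((hmemK x).mpr hx)
    have hf' : Function.Surjective (QuotientGroup.lift K' ((QuotientGroup.mk' K).subgroupMap N) hfk) := by
      intro y
      obtain ⟨x, rfl⟩ := hf y
      exact ⟨(x : ↥N ⧸ K'), QuotientGroup.lift_mk K' hfk x⟩
    exact Group.nilpotent_of_surjective _ hf'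
  refine cam_image_false hcam (QuotientGroup.mk' K) (QuotientGroup.mk'_surjective K)
    (by rw [QuotientGroup.ker_mk']; exact hKN) hK1 hnil' ?_ u v ?_ ?_ ?_ hind
  · intro x hx h
    rw [← map_pow] at h
    exact (QuotientGroup.eq_one_iff _).mpr (hpK x hx ((QuotientGroup.eq_one_iff _).mp h))
  · rw [← map_pow]
    exact (QuotientGroup.eq_one_iff _).mpr (hTK _ (T.pow_mem huT p) hup)
  · rw [← map_pow]
    exact (QuotientGroup.eq_one_iff _).mpr (hTK _ (T.pow_mem hvT p) hvp)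
  · have h := (QuotientGroup.eq_one_iff _).mpr
      (hTK _ (T.mul_mem (T.mul_mem (T.mul_mem huT hvT) (T.inv_mem huT)) (T.inv_mem hvT)) huv)
    have h' : (QuotientGroup.mk' K) u * (QuotientGroup.mk' K) v * ((QuotientGroup.mk' K) u)⁻¹ *
        ((QuotientGroup.mk' K) v)⁻¹ = 1 := by
      rw [← map_inv, ← map_inv, ← map_mul, ← map_mul, ← map_mul]; exact h
    exact mul_inv_eq_iff_eq_mul.mp (mul_inv_eq_one.mp h')

end camina

end Cfsg.Agent.Lib.helper72
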