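/-
Class sizes `{1, n, m, n m}` with `n`, `m` coprime (S4146): the "straight case" (Part B of
helper74's plan).  If some element of prime power order `p ^ k` with `p ∣ n` has class size `n`,
then `G` is nilpotent and `n`, `m` are prime powers.
-/
import Mathlib
import Cfsg.Agent.S4134
import Cfsg.Agent.Lib.helper72.TIHall
import Cfsg.Agent.Lib.helper72.FreeAct
import Cfsg.Agent.Lib.helper72.Camina
import Cfsg.Agent.Lib.helper40.PNil

set_option autoImplicit false

namespace Cfsg.Agent.Lib.helper72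

open Subgroup

section CS4B

variable {G : Type*} [Group G] [Finite G]

local notation "ci(" x ")" => Subgroup.index (Subgroup.centralizer {x})
local notation "cz(" x ")" => Subgroup.centralizer {x}

omit [Finite G] in
lemma cs4_mem_center_iff (x : G) : x ∈ Subgroup.center G ↔ ci(x) = 1 := by
  rw [Subgroup.index_eq_one]
  constructor
  · intro hx
    rw [eq_top_iff]
    intro g _
    rw [Subgroup.mem_centralizer_singleton_iff]
    exact Subgroup.mem_center_iff.mp hx g
  · intro hx
    rw [Subgroup.mem_center_iff]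
    intro g
    exact Subgroup.mem_centralizer_singleton_iff.mp (hx ▸ Subgroup.mem_top g)

lemma cs4_central_of_pow {x : G} {t : ℕ} (hx : x ^ t ∈ Subgroup.center G)
    (hcop : t.Coprime (orderOf x)) : x ∈ Subgroup.center G := by
  obtain ⟨r, hr⟩ := exists_pow_eq_self_of_coprime hcop
  rw [← hr]; exact pow_mem hx r

omit [Finite G] in
lemma cs4_index_sub (E : Subgroup G) (y : E) :
    (Subgroup.centralizer ({y} : Set E)).index = cz((y : G)).relIndex E := by
  have h1 : Subgroup.centralizer ({y} : Set E) = cz((y : G)).subgroupOf E := by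
    ext g
    rw [Subgroup.mem_centralizer_singleton_iff, Subgroup.mem_subgroupOf,
      Subgroup.mem_centralizer_singleton_iff]
    exact Subtype.ext_iff
  rw [h1]; rfl

lemma cs4_relIndex_mul {a g : G} (hc : Commute a g) (hcop : (orderOf a).Coprime (orderOf g)) :
    cz(g).relIndex cz(a) * ci(a) = ci(a * g) := by
  rw [Cfsg.Agent.S4134.cent_mul hc hcop, ← Subgroup.inf_relIndex_left]
  exact Subgroup.relIndex_mul_index inf_le_left

omit [Finite G] in
lemma cs4_cases {n m : ℕ} (hn : 1 < n) (hcop : n.Coprime m) {t : ℕ}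
    (h : t * n = 1 ∨ t * n = n ∨ t * n = m ∨ t * n = n * m) : t = 1 ∨ t = m := by
  have hn0 : 0 < n := by omega
  rcases h with h | h | h | h
  · exfalso
    have h1 : n ∣ 1 := ⟨t, by rw [← h, mul_comm]⟩
    have := Nat.dvd_one.mp h1
    omega
  · left
    exact Nat.eq_of_mul_eq_mul_right hn0 (by rw [h, one_mul])
  · exfalso
    have h1 : n ∣ m := Dvd.intro_left t h
    have := Nat.Coprime.eq_one_of_dvd hcop h1
    omega
  · right
    exact Nat.eq_of_mul_eq_mul_right hn0 (h.trans (mul_comm n m))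

lemma cs4_exists_primary {n m : ℕ} (hn : 1 < n) (hm : 1 < m) (hcop : n.Coprime m)
    (h : ∀ x : G, ci(x) = 1 ∨ ci(x) = n ∨ ci(x) = m ∨ ci(x) = n * m)
    (hex : ∃ x : G, ci(x) = m) :
    ∃ (b : G) (s l : ℕ), s.Prime ∧ orderOf b = s ^ l ∧ ci(b) = m := by
  have hdvd : ∀ x : G, ci(x) ∣ m → ci(x) = 1 ∨ ci(x) = m := by
    intro x hx
    rcases h x with h1 | h1 | h1 | h1
    · exact Or.inl h1
    · exfalso
      rw [h1] at hx
      have := Nat.Coprime.eq_one_of_dvd hcop hx
      omega
    · exact Or.inr h1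
    · exfalso
      rw [h1] at hx
      have h2 : n ∣ m := (Dvd.intro _ rfl : n ∣ n * m).trans hx
      have := Nat.Coprime.eq_one_of_dvd hcop h2
      omega
  have key : ∀ N : ℕ, ∀ x : G, orderOf x = N → ci(x) = m →
      ∃ (b : G) (s l : ℕ), s.Prime ∧ orderOf b = s ^ l ∧ ci(b) = m := by
    intro N
    induction N using Nat.strong_induction_on with
    | _ N ih =>
      intro x hxN hx
      have hx1 : orderOf x ≠ 1 := by
        intro h1
        rw [orderOf_eq_one_iff] at h1
        have h2 : x ∈ Subgroup.center G := by rw [h1]; exact one_mem _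
        rw [cs4_mem_center_iff, hx] at h2
        omega
      obtain ⟨s, hs, hsd⟩ := Nat.exists_prime_and_dvd hx1
      obtain ⟨w, u, hxwu, hwu, ⟨l, hul⟩, hwd, hws⟩ := Cfsg.Agent.S4106.exists_decomp s hs x
      have hc : Commute w u := hwu
      have hco : (orderOf w).Coprime (orderOf u) := by
        rw [hul]
        exact Nat.Coprime.pow_right l ((Nat.Prime.coprime_iff_not_dvd hs).mpr hws).symm
      have hcent := Cfsg.Agent.S4134.cent_mul hc hco
      rw [← hxwu] at hcent
      have hw : ci(w) ∣ m := by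
        rw [← hx]
        apply Subgroup.index_dvd_of_le
        rw [hcent]; exact inf_le_left
      have hu : ci(u) ∣ m := by
        rw [← hx]
        apply Subgroup.index_dvd_of_le
        rw [hcent]; exact inf_le_right
      rcases hdvd u hu with hu1 | hu1
      · rcases hdvd w hw with hw1 | hw1
        · exfalso
          have h2 : x ∈ Subgroup.center G := by
            rw [hxwu]
            exact mul_mem ((cs4_mem_center_iff w).mpr hw1) ((cs4_mem_center_iff u).mpr hu1)
          rw [cs4_mem_center_iff, hx] at h2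
          omega
        · have hlt : orderOf w < N := by
            rw [← hxN]
            apply lt_of_le_of_ne (Nat.le_of_dvd (orderOf_pos x) hwd)
            intro heq
            apply hws
            rw [heq]; exact hsd
          exact ih (orderOf w) hlt w rfl hw1
      · exact ⟨u, s, l, hs, hul, hu1⟩
  obtain ⟨x, hx⟩ := hex
  exact key _ x rfl hx

/-- If no class size is divisible by `r`, the Sylow `r`-subgroups are central. -/
lemma cs4_sylow_central {r : ℕ} [Fact r.Prime] (hr : ∀ g : G, ¬ r ∣ ci(g)) (S : Sylow r G) :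
    (S : Subgroup G) ≤ Subgroup.center G := by
  have htop : Subgroup.centralizer ((S : Subgroup G) : Set G) = ⊤ := by
    apply Cfsg.Agent.S4127.eq_top_of_forall_conj_mem
    intro g
    obtain ⟨x, hx⟩ := S.isPGroup'.nonempty_fixed_point_of_prime_not_dvd_card
      (G ⧸ Subgroup.centralizer ({g} : Set G)) (hr g)
    induction x using QuotientGroup.induction_on with
    | H c =>
      refine ⟨c⁻¹, ?_⟩
      rw [Subgroup.mem_centralizer_iff]
      intro s hs
      have h1 := hx ⟨s, hs⟩
      have h2 : ((s * c : G) : G ⧸ Subgroup.centralizer ({g} : Set G)) =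
          (c : G ⧸ Subgroup.centralizer ({g} : Set G)) := h1
      rw [QuotientGroup.eq, Subgroup.mem_centralizer_singleton_iff] at h2
      have h3 : s⁻¹ * (c * g * c⁻¹) = (c * g * c⁻¹) * s⁻¹ := by
        calc s⁻¹ * (c * g * c⁻¹) = c * ((s * c)⁻¹ * c * g) * c⁻¹ := by group
          _ = c * (g * ((s * c)⁻¹ * c)) * c⁻¹ := by rw [h2]
          _ = c * g * c⁻¹ * s⁻¹ := by group
      rw [inv_inv]
      calc s * (c * g * c⁻¹) = s * ((c * g * c⁻¹) * s⁻¹) * s := by group
        _ = s * (s⁻¹ * (c * g * c⁻¹)) * s := by rw [h3]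
        _ = c * g * c⁻¹ * s := by group
  intro s hs
  rw [Subgroup.mem_center_iff]
  intro g
  have hg : g ∈ Subgroup.centralizer ((S : Subgroup G) : Set G) := by rw [htop]; trivial
  exact (Subgroup.mem_centralizer_iff.mp hg s hs).symm

/-- If all class sizes divide `N`, elements of order prime to `N` are central. -/
lemma cs4_central_of_coprime {N : ℕ} (hN : ∀ g : G, ci(g) ∣ N) {x : G}
    (hx : (orderOf x).Coprime N) : x ∈ Subgroup.center G := by
  have hcop : (Subgroup.center G).index.Coprime (orderOf x) := by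
    apply Nat.coprime_of_dvd
    intro r hr hr1 hr2
    haveI : Fact r.Prime := ⟨hr⟩
    have hrN : ¬ r ∣ N := fun hd => hr.one_lt.ne' (Nat.eq_one_of_dvd_coprimes hx hr2 hd)
    obtain ⟨S⟩ : Nonempty (Sylow r G) := inferInstance
    have hS := cs4_sylow_central (fun g hd => hrN (hd.trans (hN g))) S
    exact S.not_dvd_index (hr1.trans (Subgroup.index_dvd_of_le hS))
  have h1 : x ^ (Subgroup.center G).index ∈ Subgroup.center G := Subgroup.pow_index_mem _ x
  have h2 : x ^ orderOf x ∈ Subgroup.center G := by rw [pow_orderOf_eq_one]; exact one_mem _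
  exact cam_mem_of_coprime _ hcop h1 h2

lemma cs4_nilpotent {p q : ℕ} [Fact p.Prime] [Fact q.Prime]
    (hp : Cfsg.HasNormalPComplement p G) (hq : Cfsg.HasNormalPComplement q G)
    (hcen : ∀ x : G, (orderOf x).Coprime p → (orderOf x).Coprime q → x ∈ Subgroup.center G) :
    Group.IsNilpotent G := by
  obtain ⟨Np, hNpn, hNpcop, jp, hNpidx⟩ :=
    Cfsg.Agent.Lib.helper40.exists_normal_coprime_of_hasNPC hp
  obtain ⟨Nq, hNqn, hNqcop, jq, hNqidx⟩ :=
    Cfsg.Agent.Lib.helper40.exists_normal_coprime_of_hasNPC hq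
  haveI := hNpn
  haveI := hNqn
  haveI h1 : Group.IsNilpotent (G ⧸ Np) :=
    IsPGroup.isNilpotent (p := p) (IsPGroup.of_card (n := jp) hNpidx)
  haveI h2 : Group.IsNilpotent (G ⧸ Nq) :=
    IsPGroup.isNilpotent (p := q) (IsPGroup.of_card (n := jq) hNqidx)
  apply Subgroup.isNilpotent_of_ker_le_center
    ((QuotientGroup.mk' Np).prod (QuotientGroup.mk' Nq))
  rw [MonoidHom.ker_prod, QuotientGroup.ker_mk', QuotientGroup.ker_mk']
  intro x hx
  obtain ⟨hxp, hxq⟩ := Subgroup.mem_inf.mp hx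
  exact hcen x (Nat.Coprime.coprime_dvd_left (Subgroup.orderOf_dvd_natCard _ hxp) hNpcop)
    (Nat.Coprime.coprime_dvd_left (Subgroup.orderOf_dvd_natCard _ hxq) hNqcop)

/-- The core of the straight case: the class size `m` is a power of a prime `q`, and every
element of prime power order with class size `m` is a `q`-element. -/
theorem cs4_half (n m : ℕ) (hn : 1 < n) (hm : 1 < m) (hcop : n.Coprime m)
    (h : ∀ x : G, ci(x) = 1 ∨ ci(x) = n ∨ ci(x) = m ∨ ci(x) = n * m)
    (a : G) (p k : ℕ) (hp : p.Prime) (ha : ci(a) = n) (hord : orderOf a = p ^ k) (hpn : p ∣ n)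
    (hexm : ∃ b : G, ci(b) = m)
    (hcomm : ∀ b : G, ci(b) = m → a * b = b * a) :
    ∃ q β : ℕ, q.Prime ∧ m = q ^ β ∧
      ∀ (b : G) (s l : ℕ), s.Prime → orderOf b = s ^ l → ci(b) = m → s = q := by
  classical
  haveI : Fact p.Prime := ⟨hp⟩
  have hpm : ¬ p ∣ m := fun hd => hp.one_lt.ne' (Nat.eq_one_of_dvd_coprimes hcop hpn hd)
  have key1 : ∀ g ∈ cz(a), ¬ p ∣ orderOf g →
      cz(g).relIndex cz(a) = 1 ∨ cz(g).relIndex cz(a) = m := by
    intro g hg hpg
    have hc : Commute a g := (Subgroup.mem_centralizer_singleton_iff.mp hg).symm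
    have hco : (orderOf a).Coprime (orderOf g) := by
      rw [hord]; exact Nat.Coprime.pow_left k ((Nat.Prime.coprime_iff_not_dvd hp).mpr hpg)
    have h1 := cs4_relIndex_mul hc hco
    rw [ha] at h1
    apply cs4_cases hn hcop
    rw [h1]; exact h (a * g)
  have hA : ∀ y : cz(a), ¬ p ∣ orderOf y →
      ¬ p ∣ (Subgroup.centralizer ({y} : Set cz(a))).index := by
    intro y hy
    rw [cs4_index_sub]
    have hy' : ¬ p ∣ orderOf (y : G) := by rw [Subgroup.orderOf_coe]; exact hy
    rcases key1 y.1 y.2 hy' with h1 | h1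
    · rw [h1]; exact fun hd => hp.one_lt.ne' (Nat.dvd_one.mp hd)
    · rw [h1]; exact hpm
  obtain ⟨K', hK'n, hK'cop, ⟨j, hK'card⟩, hK'mem, hK'cent⟩ := Cfsg.Agent.S4127.lemmaA p hA
  obtain ⟨K, hKdef⟩ : ∃ K : Subgroup G, K = K'.map cz(a).subtype := ⟨_, rfl⟩
  have hKE : K ≤ cz(a) := by rw [hKdef]; exact Subgroup.map_subtype_le K'
  have hKcard : Nat.card K = Nat.card K' := by
    rw [hKdef]; exact Subgroup.card_map_of_injective (Subgroup.subtype_injective _)
  have hKmem : ∀ y ∈ cz(a), ¬ p ∣ orderOf y → y ∈ K := by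
    intro y hy hyo
    rw [hKdef]
    refine Subgroup.mem_map.mpr ⟨⟨y, hy⟩, hK'mem _ ?_, rfl⟩
    rw [Subgroup.orderOf_mk]; exact hyo
  have hKcent : ∀ x ∈ cz(a), (∃ e : ℕ, orderOf x = p ^ e) → ∀ k ∈ K, k * x = x * k := by
    intro x hx ⟨e, he⟩ k hk
    rw [hKdef] at hk
    obtain ⟨k', hk', rfl⟩ := Subgroup.mem_map.mp hk
    have h0 := hK'cent ⟨x, hx⟩ ⟨e, by rw [Subgroup.orderOf_mk]; exact he⟩ k' hk'
    exact congrArg Subtype.val h0
  have hKcop : (Nat.card K).Coprime p := by rw [hKcard]; exact hK'cop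
  have hKord : ∀ k ∈ K, ¬ p ∣ orderOf k := by
    intro k hk hd
    exact (Nat.Prime.coprime_iff_not_dvd hp).mp hKcop.symm
      (hd.trans (Subgroup.orderOf_dvd_natCard K hk))
  have hEcard : Nat.card cz(a) = Nat.card K * p ^ j := by rw [hKcard]; exact hK'card
  have hKidxE : K.relIndex cz(a) = p ^ j := by
    have h1 := card_mul_relIndex' hKE
    rw [hEcard] at h1
    exact Nat.eq_of_mul_eq_mul_left Nat.card_pos h1
  have hKnorm : cz(a) ≤ Subgroup.normalizer (K : Set G) := by
    intro e he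
    apply mem_normalizer_of_conj_mem
    intro x hx
    apply hKmem _ (mul_mem (mul_mem he (hKE hx)) (inv_mem he))
    intro hd
    apply hKord x hx
    apply hd.trans
    apply orderOf_dvd_of_pow_eq_one
    rw [conj_pow, pow_orderOf_eq_one, mul_one, mul_inv_cancel]
  have hB3 : ∀ x ∈ K, cz(x).relIndex K = cz(x).relIndex cz(a) := by
    intro x hx
    have he := key1 x (hKE hx) (hKord x hx)
    have c1 : Nat.card ↥(cz(x) ⊓ cz(a)) * cz(x).relIndex cz(a) = Nat.card cz(a) := by
      have h1 := card_mul_relIndex' (inf_le_right : cz(x) ⊓ cz(a) ≤ cz(a))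
      rwa [Subgroup.inf_relIndex_right] at h1
    have c2 : Nat.card ↥(cz(x) ⊓ K) * cz(x).relIndex K = Nat.card K := by
      have h1 := card_mul_relIndex' (inf_le_right : cz(x) ⊓ K ≤ K)
      rwa [Subgroup.inf_relIndex_right] at h1
    have hBA : cz(x) ⊓ K ≤ cz(x) ⊓ cz(a) := inf_le_inf_left _ hKE
    have c3 : Nat.card ↥(cz(x) ⊓ K) * (cz(x) ⊓ K).relIndex (cz(x) ⊓ cz(a)) =
        Nat.card ↥(cz(x) ⊓ cz(a)) := card_mul_relIndex' hBA
    have ht : (cz(x) ⊓ K).relIndex (cz(x) ⊓ cz(a)) = K.relIndex (cz(x) ⊓ cz(a)) := by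
      have h1 : cz(x) ⊓ K = (cz(x) ⊓ cz(a)) ⊓ K := by
        rw [inf_assoc, inf_eq_right.mpr hKE]
      rw [h1, Subgroup.inf_relIndex_left]
    have ht1 : K.relIndex (cz(x) ⊓ cz(a)) ∣ p ^ j := by
      haveI : (K.subgroupOf cz(a)).Normal :=
        (Subgroup.normal_subgroupOf_iff_le_normalizer hKE).mpr hKnorm
      have h1 := Subgroup.relIndex_dvd_index_of_normal (K.subgroupOf cz(a))
        ((cz(x) ⊓ cz(a)).subgroupOf cz(a))
      rw [Subgroup.relIndex_subgroupOf inf_le_right] at h1
      rw [← hKidxE]; exact h1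
    have hcop_e : (p ^ j).Coprime (cz(x).relIndex cz(a)) := by
      rcases he with h1 | h1
      · rw [h1]; exact Nat.coprime_one_right _
      · rw [h1]; exact Nat.Coprime.pow_left j ((Nat.Prime.coprime_iff_not_dvd hp).mpr hpm)
    have h5 : p ^ j ∣ Nat.card ↥(cz(x) ⊓ cz(a)) := by
      have h6 : p ^ j ∣ Nat.card ↥(cz(x) ⊓ cz(a)) * cz(x).relIndex cz(a) := by
        rw [c1, hEcard]; exact Dvd.intro_left _ rfl
      exact hcop_e.dvd_of_dvd_mul_right h6
    have hcopB : (p ^ j).Coprime (Nat.card ↥(cz(x) ⊓ K)) := by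
      apply Nat.Coprime.pow_left
      apply Nat.Coprime.symm
      exact Nat.Coprime.coprime_dvd_left (Subgroup.card_dvd_of_le inf_le_right) hKcop
    have h6 : p ^ j ∣ K.relIndex (cz(x) ⊓ cz(a)) := by
      rw [← c3, ht] at h5
      exact hcopB.dvd_of_dvd_mul_left h5
    have ht2 : K.relIndex (cz(x) ⊓ cz(a)) = p ^ j := Nat.dvd_antisymm ht1 h6
    rw [ht, ht2] at c3
    have h7 : Nat.card ↥(cz(x) ⊓ K) * p ^ j * cz(x).relIndex K =
        Nat.card ↥(cz(x) ⊓ K) * p ^ j * cz(x).relIndex cz(a) := by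
      calc Nat.card ↥(cz(x) ⊓ K) * p ^ j * cz(x).relIndex K
          = (Nat.card ↥(cz(x) ⊓ K) * cz(x).relIndex K) * p ^ j := by ring
        _ = Nat.card cz(a) := by rw [c2, hEcard]
        _ = Nat.card ↥(cz(x) ⊓ K) * p ^ j * cz(x).relIndex cz(a) := by rw [c3, c1]
    exact Nat.eq_of_mul_eq_mul_left (Nat.mul_pos Nat.card_pos (pow_pos hp.pos j)) h7
  have h5 : ∀ x : K, (Subgroup.centralizer ({x} : Set K)).index = 1 ∨
      (Subgroup.centralizer ({x} : Set K)).index = m := by
    intro x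
    rw [cs4_index_sub, hB3 x.1 x.2]
    exact key1 x.1 (hKE x.2) (hKord x.1 x.2)
  have h6 : ∃ x : K, (Subgroup.centralizer ({x} : Set K)).index = m := by
    by_contra hcon
    push Not at hcon
    have hall : ∀ x ∈ K, cz(a) ≤ cz(x) := by
      intro x hx
      have h1 : (Subgroup.centralizer ({(⟨x, hx⟩ : K)} : Set K)).index = 1 := by
        rcases h5 ⟨x, hx⟩ with h | h
        · exact h
        · exact absurd h (hcon ⟨x, hx⟩)
      rw [cs4_index_sub, hB3 x hx] at h1
      exact Subgroup.relIndex_eq_one.mp h1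
    obtain ⟨b, hb⟩ := hexm
    have hbE : b ∈ cz(a) := Subgroup.mem_centralizer_singleton_iff.mpr (hcomm b hb).symm
    obtain ⟨q, hq, hqm⟩ := Nat.exists_prime_and_dvd (by omega : m ≠ 1)
    haveI : Fact q.Prime := ⟨hq⟩
    have hqp : q ≠ p := fun h => hpm (h ▸ hqm)
    have hqn : ¬ q ∣ n := fun hd => hq.one_lt.ne' (Nat.eq_one_of_dvd_coprimes hcop hd hqm)
    obtain ⟨Q₀⟩ : Nonempty (Sylow q cz(a)) := inferInstance
    obtain ⟨e', he'⟩ := IsPGroup.iff_card.mp Q₀.isPGroup'
    have hQb : (Q₀ : Subgroup cz(a)).map cz(a).subtype ≤ cz(b) := by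
      rintro _ ⟨y, hy, rfl⟩
      have hyo : ¬ p ∣ orderOf (y : G) := by
        rw [Subgroup.orderOf_coe]
        intro hd
        have h1 : orderOf y ∣ q ^ e' := by
          rw [← he']; exact Subgroup.orderOf_dvd_natCard _ hy
        exact hqp ((Nat.prime_dvd_prime_iff_eq hp hq).mp (hp.dvd_of_dvd_pow (hd.trans h1))).symm
      have h2 := hall y.1 (hKmem y.1 y.2 hyo) hbE
      rw [Subgroup.mem_centralizer_singleton_iff] at h2 ⊢
      exact h2.symm
    have hcard1 : q ^ e' ∣ Nat.card cz(b) := by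
      rw [← he', ← Subgroup.card_map_of_injective (Subgroup.subtype_injective cz(a))]
      exact Subgroup.card_dvd_of_le hQb
    obtain ⟨c, hc⟩ := hcard1
    have hG1 : Nat.card G = q ^ e' * (c * m) := by
      rw [← Subgroup.card_mul_index cz(b), hb, hc, mul_assoc]
    have hG2 : Nat.card G = q ^ e' * ((Q₀ : Subgroup cz(a)).index * n) := by
      rw [← Subgroup.card_mul_index cz(a), ha,
        ← Subgroup.card_mul_index (Q₀ : Subgroup cz(a)), he', mul_assoc]
    have h7 : c * m = (Q₀ : Subgroup cz(a)).index * n :=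
      Nat.eq_of_mul_eq_mul_left (pow_pos hq.pos e') (hG1.symm.trans hG2)
    have h8 : q ∣ (Q₀ : Subgroup cz(a)).index * n := by
      rw [← h7]; exact Dvd.dvd.mul_left hqm c
    rcases (hq.dvd_mul).mp h8 with h9 | h9
    · exact Q₀.not_dvd_index h9
    · exact hqn h9
  obtain ⟨q, hqF, β, hmq, hSyl⟩ := Cfsg.Agent.S4134.result (G := K) m hm h5 h6
  have hq : q.Prime := hqF.out
  haveI := hqF
  obtain ⟨Q⟩ : Nonempty (Sylow q K) := inferInstance
  obtain ⟨-, ⟨N, -, hNc, hNab, hNQ⟩, -⟩ := hSyl Q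
  obtain ⟨e, he⟩ := IsPGroup.iff_card.mp Q.isPGroup'
  have hcenK : ∀ x : K, ¬ q ∣ orderOf x → ∀ y : K, x * y = y * x := by
    intro x hx y
    have hxN : x ∈ N := by
      obtain ⟨⟨u, v⟩, huv⟩ := hNc.2 x
      have huv' : (u : K) * (v : K) = x := huv
      have hcuv : Commute (u : K) (v : K) := hNQ u.1 u.2 v.1 v.2
      have hv : (v : K) ^ (q ^ e) = 1 := by
        apply orderOf_dvd_iff_pow_eq_one.mp
        rw [← he]; exact Subgroup.orderOf_dvd_natCard _ v.2
      have h1 : x ^ (q ^ e) ∈ N := by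
        rw [← huv', hcuv.mul_pow, hv, mul_one]
        exact pow_mem u.2 _
      obtain ⟨r, hr⟩ := exists_pow_eq_self_of_coprime (x := x) (n := q ^ e)
        (Nat.Coprime.pow_left e ((Nat.Prime.coprime_iff_not_dvd hq).mpr hx))
      rw [← hr]; exact pow_mem h1 r
    obtain ⟨⟨u', v'⟩, huv⟩ := hNc.2 y
    have huv' : (u' : K) * (v' : K) = y := huv
    have h1 : x * (u' : K) = (u' : K) * x := by
      have h0 := hNab.is_comm.comm ⟨x, hxN⟩ u'
      exact congrArg Subtype.val h0
    have h2 : x * (v' : K) = (v' : K) * x := hNQ x hxN v'.1 v'.2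
    calc x * y = x * ((u' : K) * (v' : K)) := by rw [huv']
      _ = (x * (u' : K)) * (v' : K) := by rw [mul_assoc]
      _ = ((u' : K) * x) * (v' : K) := by rw [h1]
      _ = (u' : K) * (x * (v' : K)) := by rw [mul_assoc]
      _ = (u' : K) * ((v' : K) * x) := by rw [h2]
      _ = y * x := by rw [← mul_assoc, huv']
  refine ⟨q, β, hq, hmq, ?_⟩
  intro b s l hs hbo hb
  have hbE : b ∈ cz(a) := Subgroup.mem_centralizer_singleton_iff.mpr (hcomm b hb).symm
  by_cases hsp : s = p
  · exfalso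
    have hKb : K ≤ cz(b) := by
      intro k hk
      rw [Subgroup.mem_centralizer_singleton_iff]
      exact hKcent b hbE ⟨l, by rw [hbo, hsp]⟩ k hk
    have h1 : m ∣ K.index := by rw [← hb]; exact Subgroup.index_dvd_of_le hKb
    have h2 : K.index = p ^ j * n := by
      rw [← Subgroup.relIndex_mul_index hKE, hKidxE, ha]
    rw [h2] at h1
    have h3 : m.Coprime (p ^ j * n) :=
      Nat.Coprime.mul_right
        (Nat.Coprime.pow_right j ((Nat.Prime.coprime_iff_not_dvd hp).mpr hpm).symm) hcop.symm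
    have h4 := Nat.Coprime.eq_one_of_dvd h3 h1
    omega
  · have hbo' : ¬ p ∣ orderOf b := by
      rw [hbo]; intro hd
      exact hsp ((Nat.prime_dvd_prime_iff_eq hp hs).mp (hp.dvd_of_dvd_pow hd)).symm
    have hbK : b ∈ K := hKmem b hbE hbo'
    have h1 : cz(b).relIndex cz(a) = m := by
      rcases key1 b hbE hbo' with h | h
      · exfalso
        have h2 : cz(a) ≤ cz(b) := Subgroup.relIndex_eq_one.mp h
        have h3 : m ∣ n := by rw [← hb, ← ha]; exact Subgroup.index_dvd_of_le h2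
        have h4 := Nat.Coprime.eq_one_of_dvd hcop.symm h3
        omega
      · exact h
    have h2 : (Subgroup.centralizer ({(⟨b, hbK⟩ : K)} : Set K)).index = m := by
      rw [cs4_index_sub, hB3 b hbK]; exact h1
    by_contra hsq
    have hqb : ¬ q ∣ orderOf (⟨b, hbK⟩ : K) := by
      rw [Subgroup.orderOf_mk, hbo]; intro hd
      exact hsq ((Nat.prime_dvd_prime_iff_eq hq hs).mp (hq.dvd_of_dvd_pow hd)).symm
    have h3 : (Subgroup.centralizer ({(⟨b, hbK⟩ : K)} : Set K)) = ⊤ := by
      rw [eq_top_iff]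
      intro y _
      rw [Subgroup.mem_centralizer_singleton_iff]
      exact (hcenK ⟨b, hbK⟩ hqb y).symm
    rw [h3, Subgroup.index_top] at h2
    omega

/-- Part B of S4146 (straight case), with Part A as a hypothesis. -/
theorem cs4_partB_of (n m : ℕ) (hn : 1 < n) (hm : 1 < m) (hcop : n.Coprime m)
    (h : Set.range (fun x : G => (Subgroup.centralizer ({x} : Set G)).index) =
      ({1, n, m, n * m} : Set ℕ))
    (hA : ∀ a b : G, ci(a) = n → ci(b) = m → a * b ≠ b * a →
      a ^ m ∈ Subgroup.center G ∧ b ^ n ∈ Subgroup.center G)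
    (a : G) (p k : ℕ) (hp : p.Prime) (ha : (Subgroup.centralizer ({a} : Set G)).index = n)
    (hord : orderOf a = p ^ k) (hpn : p ∣ n) :
    Group.IsNilpotent G ∧ IsPrimePow n ∧ IsPrimePow m := by
  have h1 : ∀ x : G, ci(x) = 1 ∨ ci(x) = n ∨ ci(x) = m ∨ ci(x) = n * m := by
    intro x
    have h2 : ci(x) ∈ Set.range (fun x : G => (Subgroup.centralizer ({x} : Set G)).index) :=
      Set.mem_range_self x
    rw [h] at h2
    simpa using h2
  have hexm : ∃ b : G, ci(b) = m := by
    have h2 : m ∈ Set.range (fun x : G => (Subgroup.centralizer ({x} : Set G)).index) := by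
      rw [h]; simp
    exact h2
  have hpm : ¬ p ∣ m := fun hd => hp.one_lt.ne' (Nat.eq_one_of_dvd_coprimes hcop hpn hd)
  have hcomm_a : ∀ b : G, ci(b) = m → a * b = b * a := by
    intro b hb
    by_contra hne
    have h2 := (hA a b ha hb hne).1
    have h3 : a ∈ Subgroup.center G := cs4_central_of_pow h2 (by
      rw [hord]
      exact Nat.Coprime.pow_right k ((Nat.Prime.coprime_iff_not_dvd hp).mpr hpm).symm)
    rw [cs4_mem_center_iff, ha] at h3
    omega
  obtain ⟨q, β, hq, hmq, hprim⟩ :=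
    cs4_half n m hn hm hcop h1 a p k hp ha hord hpn hexm hcomm_a
  obtain ⟨b, s, l, hs, hbo, hb⟩ := cs4_exists_primary hn hm hcop h1 hexm
  have hsq := hprim b s l hs hbo hb
  rw [hsq] at hbo
  have hβ : β ≠ 0 := by
    intro h0
    rw [h0, pow_zero] at hmq
    omega
  have hqm : q ∣ m := by rw [hmq]; exact dvd_pow_self q hβ
  have hqn : ¬ q ∣ n := fun hd => hq.one_lt.ne' (Nat.eq_one_of_dvd_coprimes hcop hd hqm)
  have h1' : ∀ x : G, ci(x) = 1 ∨ ci(x) = m ∨ ci(x) = n ∨ ci(x) = m * n := by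
    intro x
    rcases h1 x with h2 | h2 | h2 | h2
    · exact Or.inl h2
    · exact Or.inr (Or.inr (Or.inl h2))
    · exact Or.inr (Or.inl h2)
    · exact Or.inr (Or.inr (Or.inr (by rw [h2, mul_comm])))
  have hcomm_b : ∀ a' : G, ci(a') = n → b * a' = a' * b := by
    intro a' ha'
    by_contra hne
    have h2 := (hA a' b ha' hb (fun h3 => hne h3.symm)).2
    have h3 : b ∈ Subgroup.center G := cs4_central_of_pow h2 (by
      rw [hbo]
      exact Nat.Coprime.pow_right l ((Nat.Prime.coprime_iff_not_dvd hq).mpr hqn).symm)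
    rw [cs4_mem_center_iff, hb] at h3
    omega
  obtain ⟨p', α, hp', hnp, hprim'⟩ :=
    cs4_half m n hm hn hcop.symm h1' b q l hq hb hbo hqm ⟨a, ha⟩ hcomm_b
  have hpp := hprim' a p k hp hord ha
  rw [← hpp] at hnp
  have hα : α ≠ 0 := by
    intro h0
    rw [h0, pow_zero] at hnp
    omega
  have hpq : p ≠ q := by
    intro hpq
    apply hpm
    rw [hpq]; exact hqm
  refine ⟨?_, ?_, ?_⟩
  · haveI : Fact p.Prime := ⟨hp⟩
    haveI : Fact q.Prime := ⟨hq⟩
    have hNPCp : Cfsg.HasNormalPComplement p G := by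
      apply Cfsg.Agent.S4127.result p α
      · intro y hd
        rcases h1 y with h2 | h2 | h2 | h2
        · rw [h2] at hd
          have h3 := Nat.le_of_dvd (by norm_num) hd
          have h4 : 1 < p ^ (α + 1) := Nat.one_lt_pow (by omega) hp.one_lt
          omega
        · rw [h2, hnp] at hd
          have h3 := (Nat.pow_dvd_pow_iff_le_right hp.one_lt).mp hd
          omega
        · rw [h2, hmq] at hd
          have h3 : p ∣ q ^ β := (dvd_pow_self p (by omega : α + 1 ≠ 0)).trans hd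
          exact hpq ((Nat.prime_dvd_prime_iff_eq hp hq).mp (hp.dvd_of_dvd_pow h3))
        · rw [h2, hnp, hmq, pow_succ] at hd
          have h3 : p ∣ q ^ β := (Nat.mul_dvd_mul_iff_left (pow_pos hp.pos α)).mp hd
          exact hpq ((Nat.prime_dvd_prime_iff_eq hp hq).mp (hp.dvd_of_dvd_pow h3))
      · exact ⟨a, ⟨k, hord⟩, ha.trans hnp⟩
    have hNPCq : Cfsg.HasNormalPComplement q G := by
      apply Cfsg.Agent.S4127.result q β
      · intro y hd
        rcases h1 y with h2 | h2 | h2 | h2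
        · rw [h2] at hd
          have h3 := Nat.le_of_dvd (by norm_num) hd
          have h4 : 1 < q ^ (β + 1) := Nat.one_lt_pow (by omega) hq.one_lt
          omega
        · rw [h2, hnp] at hd
          have h3 : q ∣ p ^ α := (dvd_pow_self q (by omega : β + 1 ≠ 0)).trans hd
          exact hpq ((Nat.prime_dvd_prime_iff_eq hq hp).mp (hq.dvd_of_dvd_pow h3)).symm
        · rw [h2, hmq] at hd
          have h3 := (Nat.pow_dvd_pow_iff_le_right hq.one_lt).mp hd
          omega
        · rw [h2, hnp, hmq, pow_succ, mul_comm (p ^ α)] at hd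
          have h3 : q ∣ p ^ α := (Nat.mul_dvd_mul_iff_left (pow_pos hq.pos β)).mp hd
          exact hpq ((Nat.prime_dvd_prime_iff_eq hq hp).mp (hq.dvd_of_dvd_pow h3)).symm
      · exact ⟨b, ⟨l, hbo⟩, hb.trans hmq⟩
    apply cs4_nilpotent hNPCp hNPCq
    intro x hxp hxq
    apply cs4_central_of_coprime (N := n * m)
    · intro g
      rcases h1 g with h2 | h2 | h2 | h2
      · rw [h2]; exact one_dvd _
      · rw [h2]; exact Dvd.intro _ rfl
      · rw [h2]; exact Dvd.intro_left _ rfl
      · rw [h2]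
    · rw [hnp, hmq]
      exact Nat.Coprime.mul_right (Nat.Coprime.pow_right α hxp) (Nat.Coprime.pow_right β hxq)
  · rw [isPrimePow_nat_iff]
    exact ⟨p, α, hp, Nat.pos_of_ne_zero hα, hnp.symm⟩
  · rw [isPrimePow_nat_iff]
    exact ⟨q, β, hq, Nat.pos_of_ne_zero hβ, hmq.symm⟩

end CS4B

end Cfsg.Agent.Lib.helper72
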