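/-
S4146, Part B (straight case) with the signature fixed in `notes/S4146_plan_helper74.md`:
`cs4_partB_of` (Lib/helper72/CS4B.lean) combined with helper74's Part A.
-/
import Mathlib
import Cfsg.Agent.Lib.helper72.CS4B
import Cfsg.Agent.Lib.helper74.CG15

set_option autoImplicit false

namespace Cfsg.Agent.Lib.helper72

theorem partB {G : Type*} [Group G] [Finite G] (n m : ℕ) (hn : 1 < n) (hm : 1 < m)
    (hcop : n.Coprime m)
    (h : Set.range (fun x : G => (Subgroup.centralizer ({x} : Set G)).index) =
      ({1, n, m, n * m} : Set ℕ))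
    (a : G) (p k : ℕ) (hp : p.Prime) (ha : (Subgroup.centralizer ({a} : Set G)).index = n)
    (hord : orderOf a = p ^ k) (hpn : p ∣ n) :
    Group.IsNilpotent G ∧ IsPrimePow n ∧ IsPrimePow m :=
  cs4_partB_of n m hn hm hcop h
    (fun a b ha hb hab => Cfsg.Agent.Lib.helper74.partA hcop h a b ha hb hab) a p k hp ha hord hpn

end Cfsg.Agent.Lib.helper72
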