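import Mathlib
import Cfsg.Agent.Lib.helper74.CG16

/-!
# Class sizes `{1, n, m, nm}`: steps (S4), (a), (b) of Part C1, stage 2

Shapes `hS4`, `hA`, `hB` as in `notes/S4146_plan_helper74.md`.
-/

set_option autoImplicit false

namespace Cfsg.Agent.Lib.helper72

open Cfsg.Agent.Lib.helper74

variable {G : Type*} [Group G] [Finite G]

/-- a subgroup whose elements of prime power order lie in `L` is contained in `L` -/
theorem c1_le_of_forall_primary (D L : Subgroup G)
    (h : ∀ d ∈ D, ∀ (s j : ℕ), s.Prime → orderOf d = s ^ j → d ∈ L) : D ≤ L := by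
  have key : ∀ (N : ℕ) (d : G), orderOf d = N → d ∈ D → d ∈ L := by
    intro N
    induction N using Nat.strong_induction_on with
    | _ N ih =>
      intro d hdN hd
      by_cases hN1 : N = 1
      · rw [hN1, orderOf_eq_one_iff] at hdN
        rw [hdN]; exact L.one_mem
      have hNpos : 0 < N := hdN ▸ orderOf_pos d
      have hqp : (N.minFac).Prime := Nat.minFac_prime hN1
      obtain ⟨d', d'', hd', hd'', hde, hco, i, hi⟩ := exists_pq_decomp d hqp
      have hzD : Subgroup.zpowers d ≤ D := by rw [Subgroup.zpowers_le]; exact hd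
      have h2 : d'' ∈ L := h d'' (hzD hd'') _ i hqp hi
      have hdv : orderOf d' ∣ N := by rw [← hdN]; exact orderOf_dvd_of_mem_zpowers hd'
      have hlt : orderOf d' < N := by
        rcases (Nat.le_of_dvd hNpos hdv).lt_or_eq with h | h
        · exact h
        · exfalso
          rw [h] at hco
          exact hqp.ne_one (Nat.Coprime.eq_one_of_dvd hco.symm (Nat.minFac_dvd N))
      have h1 : d' ∈ L := ih _ hlt d' rfl (hzD hd')
      rw [hde]; exact L.mul_mem h1 h2
  intro d hd
  exact key _ d rfl hd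

omit [Finite G] in
theorem c1_orderOf_conj (g x : G) : orderOf (g * x * g⁻¹) = orderOf x := by
  have := (MulAut.conj g).orderOf_eq x
  rwa [MulAut.conj_apply] at this

theorem c1_csz_of_isConj {x y : G} (h : IsConj x y) : csz y = csz x := by
  obtain ⟨c, hc⟩ := isConj_iff.mp h
  rw [← hc]
  exact csz_conj c x

/-- (S4) -/
theorem c1_S4 {m : ℕ} {b : G} (hbo : (orderOf b).Coprime m) {N : Subgroup G}
    (hNm : Nat.card N ∣ m) (hNb : ∀ c ∈ N, IsConj b (c * b)) :
    ∀ c ∈ N, c * b = b * c → c = 1 := by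
  intro c hc hcb
  have h1 : orderOf (c * b) = orderOf b := by
    obtain ⟨g, hg⟩ := isConj_iff.mp (hNb c hc)
    rw [← hg]
    exact c1_orderOf_conj g b
  have h2 : c ^ orderOf b = 1 := by
    have h3 : (c * b) ^ orderOf b = 1 := by rw [← h1]; exact pow_orderOf_eq_one _
    rw [(show Commute c b from hcb).mul_pow, pow_orderOf_eq_one, mul_one] at h3
    exact h3
  have h4 : orderOf c ∣ orderOf b := orderOf_dvd_of_pow_eq_one h2
  have h5 : orderOf c ∣ m := by
    have : orderOf (⟨c, hc⟩ : N) ∣ Nat.card N := orderOf_dvd_natCard _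
    rw [Subgroup.orderOf_mk] at this
    exact this.trans hNm
  have h6 : orderOf c = 1 := Nat.eq_one_of_dvd_coprimes hbo h4 h5
  exact orderOf_eq_one_iff.mp h6

theorem c1_not_comm {n : ℕ} (hn : 1 < n) {b : G} {N : Subgroup G}
    (hS4 : ∀ c ∈ N, c * b = b * c → c = 1) {a : G} (haN : a ∈ N) (ha : csz a = n) :
    a * b ≠ b * a := by
  intro hab
  have h0 := hS4 a haN hab
  rw [h0] at ha
  have h1 : csz (1 : G) = 1 := (csz_eq_one_iff _).mpr (Subgroup.one_mem _)
  omega

/-- (a) -/
theorem c1_hA {n m : ℕ} (hn : 1 < n) (hm : 1 < m)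
    (hall : ∀ g : G, csz g = 1 ∨ csz g = n ∨ csz g = m ∨ csz g = n * m)
    (hX : ∀ (a : G) (p k : ℕ), p.Prime → orderOf a = p ^ k → csz a = n → p ∣ m)
    {b : G} (hbo : (orderOf b).Coprime m)
    {N : Subgroup G} (hS4 : ∀ c ∈ N, c * b = b * c → c = 1)
    {a : G} (haN : a ∈ N) (ha : csz a = n) {q k : ℕ} (hq : q.Prime) (hao : orderOf a = q ^ k) :
    ∀ (d : G) (s j : ℕ), s.Prime → orderOf d = s ^ j → a * d = d * a → b * d = d * b →
      csz d ≠ n * m := by
  intro d s j hs hdo had hbd hd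
  have hmax : ∀ g : G, csz g ≤ csz d := fun g => hd ▸ csz_le_nm hn hm hall g
  have hab : a * b ≠ b * a := c1_not_comm hn hS4 haN ha
  have hqm : q ∣ m := hX a q k hq hao ha
  by_cases hsq : s = q
  · have hco : (orderOf d).Coprime (orderOf b) := by
      rw [hdo, hsq]
      exact Nat.Coprime.pow_left _ (Nat.Coprime.coprime_dvd_left hqm hbo.symm)
    have hle := cent_le_of_max hmax (show Commute d b from hbd.symm) hco
    have h1 : a ∈ Subgroup.centralizer ({b} : Set G) := hle (mem_cent_sing.mpr had.symm)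
    exact hab (mem_cent_sing.mp h1).symm
  · have hco : (orderOf d).Coprime (orderOf a) := by
      rw [hdo, hao]
      exact Nat.Coprime.pow _ _ ((Nat.coprime_primes hs hq).mpr hsq)
    have hle := cent_le_of_max hmax (show Commute d a from had.symm) hco
    have h1 : b ∈ Subgroup.centralizer ({a} : Set G) := hle (mem_cent_sing.mpr hbd.symm)
    exact hab (mem_cent_sing.mp h1)

/-- Step 1: non-commuting `x`, `d` of class sizes `n < m` have `csz (x * d) = m`. -/
theorem c1_csz_mul_of_not_comm {n m : ℕ} (hn : 1 < n) (hm : 1 < m) (hcop : n.Coprime m)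
    (hlt : n < m)
    (hall : ∀ g : G, csz g = 1 ∨ csz g = n ∨ csz g = m ∨ csz g = n * m)
    {x d : G} (hx : csz x = n) (hd : csz d = m) (hxd : x * d ≠ d * x) : csz (x * d) = m := by
  have hc : (csz x).Coprime (csz d) := by rw [hx, hd]; exact hcop
  have h1 : csz d ≤ csz (x * d) := csz_le_mul hc
  rcases hall (x * d) with h | h | h | h
  · omega
  · omega
  · exact h
  · exfalso
    have h2 : Subgroup.centralizer ({x} : Set G) ⊓ Subgroup.centralizer ({d} : Set G)
        ≤ Subgroup.centralizer ({x * d} : Set G) := by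
      intro g hg
      rw [Subgroup.mem_inf, mem_cent_sing, mem_cent_sing] at hg
      rw [mem_cent_sing]
      rw [mul_assoc, hg.2, ← mul_assoc, hg.1, mul_assoc]
    have h3 : (Subgroup.centralizer ({x} : Set G) ⊓ Subgroup.centralizer ({d} : Set G)).index
        = n * m := by
      rw [Cfsg.Agent.Lib.helper12.index_inf_of_coprime _ _ hc]
      show csz x * csz d = n * m
      rw [hx, hd]
    have h4 : Subgroup.centralizer ({x * d} : Set G)
        ≤ Subgroup.centralizer ({x} : Set G) ⊓ Subgroup.centralizer ({d} : Set G) :=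
      le_of_le_of_index_le h2 (by rw [h3]; exact le_of_eq h.symm)
    have h5 : x * d ∈ Subgroup.centralizer ({x * d} : Set G) := mem_cent_sing.mpr rfl
    have h6 : x * d ∈ Subgroup.centralizer ({x} : Set G) := (Subgroup.mem_inf.mp (h4 h5)).1
    rw [mem_cent_sing] at h6
    apply hxd
    have h7 : x * (x * d) = x * (d * x) := by rw [h6, mul_assoc]
    exact mul_left_cancel h7

theorem c1_isConj_mul {n m : ℕ} (hn : 1 < n) (hm : 1 < m) (hcop : n.Coprime m)
    (hlt : n < m)
    (hall : ∀ g : G, csz g = 1 ∨ csz g = n ∨ csz g = m ∨ csz g = n * m)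
    {x d : G} (hx : csz x = n) (hd : csz d = m) (hxd : x * d ≠ d * x) (g k : G) :
    IsConj d ((k * x * k⁻¹)⁻¹ * (g * x * g⁻¹) * d) :=
  isConj_comm_mul (by rw [hx, hd]; exact hcop)
    ((c1_csz_mul_of_not_comm hn hm hcop hlt hall hx hd hxd).trans hd.symm) g k (IsConj.refl d)

/-- (b) -/
theorem c1_hB {n m : ℕ} (hn : 1 < n) (hm : 1 < m) (hcop : n.Coprime m) (hlt : n < m)
    (hall : ∀ g : G, csz g = 1 ∨ csz g = n ∨ csz g = m ∨ csz g = n * m)
    (hX : ∀ (a : G) (p k : ℕ), p.Prime → orderOf a = p ^ k → csz a = n → p ∣ m)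
    (hY : ∀ (b : G) (p k : ℕ), p.Prime → orderOf b = p ^ k → csz b = m → p ∣ n)
    {b : G} {N : Subgroup G} (hNn : N.Normal)
    (hNX : ∀ x : G, csz x = n → N ≤ Subgroup.centralizer ({x} : Set G))
    (hS4 : ∀ c ∈ N, c * b = b * c → c = 1)
    {a : G} (haN : a ∈ N) (ha : csz a = n) {q k : ℕ} (hq : q.Prime) (hao : orderOf a = q ^ k)
    (hA : ∀ (d : G) (s j : ℕ), s.Prime → orderOf d = s ^ j → a * d = d * a → b * d = d * b →
      csz d ≠ n * m) :
    ∀ d g : G, a * d = d * a → b * d = d * b → d * (g * a * g⁻¹) = g * a * g⁻¹ * d := by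
  intro d0 g had0 hbd0
  have hxN : g * a * g⁻¹ ∈ N := hNn.conj_mem a haN g
  have hxn : csz (g * a * g⁻¹) = n := by rw [csz_conj, ha]
  have hab : a * b ≠ b * a := c1_not_comm hn hS4 haN ha
  have hqm : q ∣ m := hX a q k hq hao ha
  have hDL : Subgroup.centralizer ({a} : Set G) ⊓ Subgroup.centralizer ({b} : Set G)
      ≤ Subgroup.centralizer ({g * a * g⁻¹} : Set G) := by
    apply c1_le_of_forall_primary
    intro d hd s j hs hdo
    rw [Subgroup.mem_inf, mem_cent_sing, mem_cent_sing] at hd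
    obtain ⟨had, hbd⟩ := hd
    rw [mem_cent_sing]
    rcases hall d with h1 | h1 | h1 | h1
    · have h2 := (csz_eq_one_iff d).mp h1
      exact (Subgroup.mem_center_iff.mp h2 (g * a * g⁻¹))
    · have h2 := hNX d h1 hxN
      exact (mem_cent_sing.mp h2).symm
    · by_contra hxd
      have hsn : s ∣ n := hY d s j hs hdo h1
      have hconj := c1_isConj_mul hn hm hcop hlt hall hxn h1 hxd (b * g⁻¹) g⁻¹
      have he1 : g⁻¹ * (g * a * g⁻¹) * g⁻¹⁻¹ = a := by group
      have he2 : b * g⁻¹ * (g * a * g⁻¹) * (b * g⁻¹)⁻¹ = b * a * b⁻¹ := by group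
      rw [he1, he2] at hconj
      have hbN : b * a * b⁻¹ ∈ N := hNn.conj_mem a haN b
      have heN : a⁻¹ * (b * a * b⁻¹) ∈ N := N.mul_mem (N.inv_mem haN) hbN
      have hcomm : Commute a (b * a * b⁻¹) := mem_cent_sing.mp (hNX a ha hbN)
      have he_ne : a⁻¹ * (b * a * b⁻¹) ≠ 1 := by
        intro he
        apply hab
        have h2 : b * a * b⁻¹ = a := by
          have h3 := congrArg (fun t => a * t) he
          simp only [mul_inv_cancel_left, mul_one] at h3
          exact h3
        calc a * b = b * a * b⁻¹ * b := by rw [h2]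
          _ = b * a := by group
      have heo : ∃ i, orderOf (a⁻¹ * (b * a * b⁻¹)) = q ^ i := by
        have h2 : (a⁻¹ * (b * a * b⁻¹)) ^ (q ^ k) = 1 := by
          rw [(hcomm.inv_left).mul_pow, inv_pow, ← hao, pow_orderOf_eq_one, inv_one, one_mul,
            ← c1_orderOf_conj b a, pow_orderOf_eq_one]
        obtain ⟨i, -, hi⟩ := (Nat.dvd_prime_pow hq).mp (orderOf_dvd_of_pow_eq_one h2)
        exact ⟨i, hi⟩
      obtain ⟨i, hi⟩ := heo
      have cad : Commute a d := had
      have cbd : Commute b d := hbd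
      have ced : Commute (a⁻¹ * (b * a * b⁻¹)) d :=
        cad.inv_left.mul_left ((cbd.mul_left cad).mul_left cbd.inv_left)
      have hsq : s ≠ q := by
        rintro rfl
        exact hs.one_lt.ne' (Nat.eq_one_of_dvd_coprimes hcop hsn hqm)
      have hco : (orderOf (a⁻¹ * (b * a * b⁻¹))).Coprime (orderOf d) := by
        rw [hi, hdo]
        exact Nat.Coprime.pow _ _ ((Nat.coprime_primes hq hs).mpr (Ne.symm hsq))
      have hle := (cent_mul_le ced hco).trans inf_le_left
      have hdvd : csz (a⁻¹ * (b * a * b⁻¹)) ∣ csz (a⁻¹ * (b * a * b⁻¹) * d) :=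
        Subgroup.index_dvd_of_le hle
      have hm' : csz (a⁻¹ * (b * a * b⁻¹) * d) = m := (c1_csz_of_isConj hconj).trans h1
      rw [hm'] at hdvd
      have hnd : n ∣ csz (a⁻¹ * (b * a * b⁻¹)) := by
        rcases hall (a⁻¹ * (b * a * b⁻¹)) with h2 | h2 | h2 | h2
        · exfalso
          have h3 := (csz_eq_one_iff _).mp h2
          exact he_ne (hS4 _ heN (Subgroup.mem_center_iff.mp h3 b).symm)
        · rw [h2]
        · exfalso
          have h3 : q ∣ n := hY _ q i hq hi h2
          exact hq.one_lt.ne' (Nat.eq_one_of_dvd_coprimes hcop h3 hqm)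
        · rw [h2]; exact dvd_mul_right n m
      have := hcop.eq_one_of_dvd (hnd.trans hdvd)
      omega
    · exact absurd h1 (hA d s j hs hdo had hbd)
  have h9 := hDL (Subgroup.mem_inf.mpr ⟨mem_cent_sing.mpr had0, mem_cent_sing.mpr hbd0⟩)
  exact (mem_cent_sing.mp h9).symm

end Cfsg.Agent.Lib.helper72
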