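import Mathlib
import Cfsg.Agent.Lib.helper72.CS4C

/-!
# Class sizes `{1, n, m, nm}`: steps (d), (e), (f) of Part C1, stage 2

Step (c) enters as the hypothesis `hC`.
-/

set_option autoImplicit false

namespace Cfsg.Agent.Lib.helper72

open Cfsg.Agent.Lib.helper74

variable {G : Type*} [Group G] [Finite G]

theorem c1_index_D {n m : ℕ} (hcop : n.Coprime m) {a b : G} (ha : csz a = n) (hb : csz b = m) :
    (Subgroup.centralizer ({a} : Set G) ⊓ Subgroup.centralizer ({b} : Set G)).index = n * m := by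
  have hc : (csz a).Coprime (csz b) := by rw [ha, hb]; exact hcop
  rw [Cfsg.Agent.Lib.helper12.index_inf_of_coprime _ _ hc]
  show csz a * csz b = n * m
  rw [ha, hb]

/-- (d) -/
theorem c1_hD {n m : ℕ} (hm : 1 < m) (hcop : n.Coprime m)
    (hall : ∀ g : G, csz g = 1 ∨ csz g = n ∨ csz g = m ∨ csz g = n * m)
    (hY : ∀ (b : G) (p k : ℕ), p.Prime → orderOf b = p ^ k → csz b = m → p ∣ n)
    {b : G} (hb : csz b = m) {a : G} (ha : csz a = n)
    (hA : ∀ (d : G) (s j : ℕ), s.Prime → orderOf d = s ^ j → a * d = d * a → b * d = d * b →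
      csz d ≠ n * m)
    (hB : ∀ d g : G, a * d = d * a → b * d = d * b → d * (g * a * g⁻¹) = g * a * g⁻¹ * d)
    (hC : ∀ (d : G) (s j : ℕ), s.Prime → orderOf d = s ^ j → a * d = d * a → b * d = d * b →
      csz d ≠ n) :
    ∀ (g : G) (s j : ℕ), s.Prime → orderOf g = s ^ j → s ∣ m → b * g = g * b →
      g ∈ Subgroup.center G := by
  intro g s j hs hgo hsm hbg
  have hDH : Subgroup.centralizer ({a} : Set G) ⊓ Subgroup.centralizer ({b} : Set G)
      ≤ Subgroup.centralizer ({b} : Set G) := inf_le_right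
  have hDi := c1_index_D hcop ha hb
  have hrel : (Subgroup.centralizer ({a} : Set G) ⊓ Subgroup.centralizer ({b} : Set G)).relIndex
      (Subgroup.centralizer ({b} : Set G)) = n := by
    have h1 := Subgroup.relIndex_mul_index hDH
    rw [hDi] at h1
    have h2 : (Subgroup.centralizer ({b} : Set G)).index = m := hb
    rw [h2] at h1
    exact Nat.eq_of_mul_eq_mul_right (by omega) h1
  have hconj : ∀ d h : G, a * d = d * a → b * d = d * b → b * h = h * b →
      h * d * h⁻¹ ∈ Subgroup.centralizer ({a} : Set G) ⊓ Subgroup.centralizer ({b} : Set G) := by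
    intro d h had hbd hbh
    rw [Subgroup.mem_inf, mem_cent_sing, mem_cent_sing]
    constructor
    · have h1 := hB d h⁻¹ had hbd
      calc a * (h * d * h⁻¹) = h * (h⁻¹ * a * h⁻¹⁻¹ * d) * h⁻¹ := by group
        _ = h * (d * (h⁻¹ * a * h⁻¹⁻¹)) * h⁻¹ := by rw [h1]
        _ = h * d * h⁻¹ * a := by group
    · have cbd : Commute b d := hbd
      have cbh : Commute b h := hbh
      exact ((cbh.mul_right cbd).mul_right cbh.inv_right).eq
  have hnorm : ((Subgroup.centralizer ({a} : Set G) ⊓ Subgroup.centralizer ({b} : Set G)).subgroupOf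
      (Subgroup.centralizer ({b} : Set G))).Normal := by
    constructor
    intro d hd h
    rw [Subgroup.mem_subgroupOf] at hd ⊢
    rw [Subgroup.mem_inf, mem_cent_sing, mem_cent_sing] at hd
    have := hconj d h hd.1 hd.2 (mem_cent_sing.mp h.2)
    simpa using this
  have hgH : g ∈ Subgroup.centralizer ({b} : Set G) := mem_cent_sing.mpr hbg
  have h1 : (⟨g, hgH⟩ : Subgroup.centralizer ({b} : Set G)) ^
      ((Subgroup.centralizer ({a} : Set G) ⊓ Subgroup.centralizer ({b} : Set G)).subgroupOf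
      (Subgroup.centralizer ({b} : Set G))).index ∈
      (Subgroup.centralizer ({a} : Set G) ⊓ Subgroup.centralizer ({b} : Set G)).subgroupOf
      (Subgroup.centralizer ({b} : Set G)) := Subgroup.pow_index_mem _ _
  have h2 : g ^ n ∈ Subgroup.centralizer ({a} : Set G) ⊓ Subgroup.centralizer ({b} : Set G) := by
    rw [Subgroup.mem_subgroupOf] at h1
    have h3 : ((Subgroup.centralizer ({a} : Set G) ⊓ Subgroup.centralizer ({b} : Set G)).subgroupOf
      (Subgroup.centralizer ({b} : Set G))).index = n := hrel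
    rw [h3] at h1
    simpa using h1
  have hsn : Nat.Coprime n (orderOf g) := by
    rw [hgo]
    apply Nat.Coprime.pow_right
    exact (Nat.Coprime.coprime_dvd_left hsm hcop.symm).symm
  obtain ⟨e, he⟩ := exists_pow_eq_self_of_coprime hsn
  have hgD : g ∈ Subgroup.centralizer ({a} : Set G) ⊓ Subgroup.centralizer ({b} : Set G) := by
    rw [← he]
    exact Subgroup.pow_mem _ h2 e
  rw [Subgroup.mem_inf, mem_cent_sing, mem_cent_sing] at hgD
  rcases hall g with h4 | h4 | h4 | h4
  · exact (csz_eq_one_iff g).mp h4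
  · exact absurd h4 (hC g s j hs hgo hgD.1 hgD.2)
  · exfalso
    have h5 : s ∣ n := hY g s j hs hgo h4
    exact hs.one_lt.ne' (Nat.eq_one_of_dvd_coprimes hcop h5 hsm)
  · exact absurd h4 (hA g s j hs hgo hgD.1 hgD.2)

/-- (e) -/
theorem c1_hE {n m : ℕ} (hn : 1 < n) (hm : 1 < m)
    (hX : ∀ (a : G) (p k : ℕ), p.Prime → orderOf a = p ^ k → csz a = n → p ∣ m)
    {b : G} (hb : csz b = m) {N : Subgroup G} (hS4 : ∀ c ∈ N, c * b = b * c → c = 1)
    {a : G} (haN : a ∈ N) (ha : csz a = n) {q k : ℕ} (hq : q.Prime) (hao : orderOf a = q ^ k)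
    (hD : ∀ (g : G) (s j : ℕ), s.Prime → orderOf g = s ^ j → s ∣ m → b * g = g * b →
      g ∈ Subgroup.center G) :
    ∀ d : G, csz d = m → a * d = d * a → False := by
  intro d hd had
  have : Fact q.Prime := ⟨hq⟩
  have hqm : q ∣ m := hX a q k hq hao ha
  have hab : a * b ≠ b * a := c1_not_comm hn hS4 haN ha
  obtain ⟨P₁, -, h1⟩ := exists_sylow_relIndex q (Subgroup.centralizer ({b} : Set G))
    (u := 1) (Subgroup.one_mem _) (k := 0) (by simp)
  obtain ⟨P₂, haP, h2⟩ := exists_sylow_relIndex q (Subgroup.centralizer ({d} : Set G))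
    (u := a) (mem_cent_sing.mpr had.symm) hao
  have hcard : Nat.card (Subgroup.centralizer ({b} : Set G))
      = Nat.card (Subgroup.centralizer ({d} : Set G)) := by
    have e1 := Subgroup.card_mul_index (Subgroup.centralizer ({b} : Set G))
    have e2 := Subgroup.card_mul_index (Subgroup.centralizer ({d} : Set G))
    have hb' : (Subgroup.centralizer ({b} : Set G)).index = m := hb
    have hd' : (Subgroup.centralizer ({d} : Set G)).index = m := hd
    rw [hb'] at e1
    rw [hd'] at e2
    have e3 : Nat.card ↥(Subgroup.centralizer ({b} : Set G)) * m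
        = Nat.card ↥(Subgroup.centralizer ({d} : Set G)) * m := by rw [e1, e2]
    exact Nat.eq_of_mul_eq_mul_right (by omega) e3
  have h3 := card_inf_eq_of_sylow q P₁ P₂ _ _ hcard h1 h2
  have hle : (P₁ : Subgroup G) ⊓ Subgroup.centralizer ({b} : Set G)
      ≤ (P₂ : Subgroup G) ⊓ Subgroup.centralizer ({d} : Set G) := by
    intro g hg
    rw [Subgroup.mem_inf] at hg
    obtain ⟨i, hi⟩ := orderOf_of_mem_pgroup P₁.isPGroup' hg.1
    have hgc := hD g q i hq hi hqm (mem_cent_sing.mp hg.2)
    exact Subgroup.mem_inf.mpr ⟨central_mem_sylow P₂ hgc hi,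
      mem_cent_sing.mpr (Subgroup.mem_center_iff.mp hgc d)⟩
  have heq := Subgroup.eq_of_le_of_card_ge hle (le_of_eq h3.symm)
  have h4 : a ∈ (P₁ : Subgroup G) ⊓ Subgroup.centralizer ({b} : Set G) := by
    rw [heq]
    exact Subgroup.mem_inf.mpr ⟨haP, mem_cent_sing.mpr had.symm⟩
  exact hab (mem_cent_sing.mp (Subgroup.mem_inf.mp h4).2).symm

/-- (f) -/
theorem c1_hF {n m : ℕ} (hn : 1 < n) (hm : 1 < m) (hcop : n.Coprime m)
    (h : Set.range (fun x : G => (Subgroup.centralizer ({x} : Set G)).index)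
      = ({1, n, m, n * m} : Set ℕ))
    {b : G} (hb : csz b = m) {a : G} (ha : csz a = n)
    (hA : ∀ (d : G) (s j : ℕ), s.Prime → orderOf d = s ^ j → a * d = d * a → b * d = d * b →
      csz d ≠ n * m)
    (hC : ∀ (d : G) (s j : ℕ), s.Prime → orderOf d = s ^ j → a * d = d * a → b * d = d * b →
      csz d ≠ n)
    (hE : ∀ d : G, csz d = m → a * d = d * a → False) : False := by
  have hall := csz_cases h
  have hDZ : Subgroup.centralizer ({a} : Set G) ⊓ Subgroup.centralizer ({b} : Set G)
      ≤ Subgroup.center G := by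
    apply c1_le_of_forall_primary
    intro d hd s j hs hdo
    rw [Subgroup.mem_inf, mem_cent_sing, mem_cent_sing] at hd
    obtain ⟨had, hbd⟩ := hd
    rcases hall d with h1 | h1 | h1 | h1
    · exact (csz_eq_one_iff d).mp h1
    · exact absurd h1 (hC d s j hs hdo had hbd)
    · exact (hE d h1 had).elim
    · exact absurd h1 (hA d s j hs hdo had hbd)
  obtain ⟨w, hw⟩ : ∃ w : G, csz w = n * m := by
    have h1 : n * m ∈ Set.range (fun x : G => (Subgroup.centralizer ({x} : Set G)).index) := by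
      rw [h]; simp
    exact h1
  have hDi := c1_index_D hcop ha hb
  have hDw : Subgroup.centralizer ({a} : Set G) ⊓ Subgroup.centralizer ({b} : Set G)
      ≤ Subgroup.centralizer ({w} : Set G) := hDZ.trans (Subgroup.center_le_centralizer _)
  have hwD : Subgroup.centralizer ({w} : Set G)
      ≤ Subgroup.centralizer ({a} : Set G) ⊓ Subgroup.centralizer ({b} : Set G) :=
    le_of_le_of_index_le hDw (by rw [hDi]; exact le_of_eq hw.symm)
  have hwZ : w ∈ Subgroup.center G := hDZ (hwD (mem_cent_sing.mpr rfl))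
  have h2 := (csz_eq_one_iff w).mpr hwZ
  rw [hw] at h2
  nlinarith

end Cfsg.Agent.Lib.helper72
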