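import Mathlib
import Cfsg.Agent.Lib.helper1.Coprime
import Cfsg.Agent.Lib.helper55.CyclicSylow
import Cfsg.Agent.Lib.helper74.Sylow35
import Cfsg.Agent.Lib.helper72.TIHall

/-!
# Coprime action on a group with cyclic Sylow subgroups (helper72)

* `isSolvable_of_sylow_cyclic`, `isSolvable_of_pgroups_cyclic`: a finite group all of whose Sylow
  subgroups are cyclic is solvable.
* `commute_of_commute_one`: a coprime group of operators of a cyclic `p`-group fixing one
  non-identity element fixes every element.
* `coprime_card_commutator_card_fixed`: if `A` acts coprimely on `H` (inside a common group) and all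
  Sylow subgroups of `H` are cyclic, then `|[H, A]|` and `|C_H(A)|` are coprime.
-/

set_option autoImplicit false

namespace Cfsg.Agent.Lib.helper72

open Cfsg
open scoped Pointwise commutatorElement

universe u

/-- A finite group all of whose Sylow subgroups are cyclic is solvable. -/
theorem isSolvable_of_sylow_cyclic : ∀ (n : ℕ) (K : Type u) [Group K] [Finite K], Nat.card K ≤ n →
    (∀ (p : ℕ) [Fact p.Prime] (P : Sylow p K), IsCyclic (P : Subgroup K)) →
    Group.IsSolvable K := by
  intro n
  induction n with
  | zero =>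
    intro K _ _ h
    have := Nat.card_pos (α := K)
    omega
  | succ n ih =>
    intro K _ _ hn hcyc
    by_cases h1 : Nat.card K = 1
    · have : Subsingleton K := (Nat.card_eq_one_iff_unique.mp h1).1
      infer_instance
    · have hq : (Nat.card K).minFac.Prime := Nat.minFac_prime h1
      have : Fact (Nat.card K).minFac.Prime := ⟨hq⟩
      obtain ⟨S⟩ : Nonempty (Sylow (Nat.card K).minFac K) := inferInstance
      obtain ⟨N, hNn, hNi⟩ :=
        Cfsg.Agent.Lib.helper74.exists_normal_index_of_cyclic_sylow rfl S (hcyc _ S)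
      have hS1 : 1 < Nat.card S := by
        rw [Sylow.card_eq_multiplicity]
        exact Nat.one_lt_pow
          (hq.factorization_pos_of_dvd Nat.card_pos.ne' (Nat.minFac_dvd _)).ne' hq.one_lt
      have hNcard : Nat.card N ≤ n := by
        have h2 := Subgroup.card_mul_index N
        rw [hNi] at h2
        have h3 : 0 < Nat.card N := Nat.card_pos
        nlinarith
      have hNsolv : Group.IsSolvable N := by
        apply ih N hNcard
        intro p _ P
        obtain ⟨Pk, hPk⟩ := (P.isPGroup'.map N.subtype).exists_le_sylow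
        have : IsCyclic (Pk : Subgroup K) := hcyc p Pk
        let f : (P : Subgroup N) →* (Pk : Subgroup K) :=
          MonoidHom.codRestrict (N.subtype.comp (P : Subgroup N).subtype) (Pk : Subgroup K)
            (fun x => hPk (Subgroup.mem_map_of_mem _ x.2))
        have hf : Function.Injective f := by
          intro x y hxy
          have h2 : ((f x : (Pk : Subgroup K)) : K) = ((f y : (Pk : Subgroup K)) : K) :=
            congrArg Subtype.val hxy
          have h3 : ((x : N) : K) = ((y : N) : K) := h2
          exact Subtype.ext (Subtype.ext h3)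
        exact isCyclic_of_injective f hf
      have hQsolv : Group.IsSolvable (K ⧸ N) := by
        have hp : IsPGroup (Nat.card K).minFac (K ⧸ N) := by
          apply IsPGroup.of_card (n := (Nat.card K).factorization (Nat.card K).minFac)
          rw [← Subgroup.index_eq_card, hNi, Sylow.card_eq_multiplicity]
        have : Group.IsNilpotent (K ⧸ N) := hp.isNilpotent
        infer_instance
      exact Group.isSolvable_of_ker_le_range N.subtype (QuotientGroup.mk' N) (by simp)

variable {G : Type u} [Group G]

/-- A subgroup all of whose `p`-subgroups are cyclic is solvable. -/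
theorem isSolvable_of_pgroups_cyclic [Finite G] (H : Subgroup G)
    (hcyc : ∀ (p : ℕ) [Fact p.Prime] (P : Subgroup G), P ≤ H → IsPGroup p P → IsCyclic P) :
    Group.IsSolvable H := by
  apply isSolvable_of_sylow_cyclic (Nat.card H) H le_rfl
  intro p _ P
  have h1 : IsCyclic ((P : Subgroup H).map H.subtype) :=
    hcyc p _ (Subgroup.map_subtype_le _) (P.isPGroup'.map _)
  exact isCyclic_of_surjective
    ((P : Subgroup H).equivMapOfInjective H.subtype H.subtype_injective).symm
    (MulEquiv.surjective _)

/-- Operators of order prime to `p` on a cyclic `p`-group which fix a non-identity element fix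
every element. -/
theorem commute_of_commute_one [Finite G] {p : ℕ} [Fact p.Prime] {P A : Subgroup G}
    (hP : IsPGroup p P) (hcyc : IsCyclic P) (hAP : A ≤ Subgroup.normalizer (P : Set G))
    (hcop : (Nat.card A).Coprime p) {x : G} (hx : x ∈ P) (hx1 : x ≠ 1)
    (hxA : ∀ a ∈ A, a * x = x * a) : ∀ a ∈ A, ∀ u ∈ P, a * u = u * a := by
  intro a ha u hu
  have hab : ∀ a ∈ P, ∀ b ∈ P, Commute a b := by
    intro a ha b hb
    have := (IsCyclic.isMulCommutative (α := P)).is_comm.comm ⟨a, ha⟩ ⟨b, hb⟩
    exact congrArg Subtype.val this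
  have hom := Cfsg.Agent.Lib.helper55.commute_omega_of_cyclic hP hcyc hx hx1
    (show Commute a x from hxA a ha)
  exact (Cfsg.Agent.Lib.helper55.commute_of_commute_omega hP hab (hAP ha)
    (Nat.Coprime.coprime_dvd_left (Subgroup.orderOf_dvd_natCard A ha) hcop) hom u hu).eq

/-- A fixed element of prime order `p` is conjugate, under the fixed points, into any invariant
Sylow `p`-subgroup. -/
theorem exists_fixed_in_invariant_sylow [Finite G] {p : ℕ} [Fact p.Prime] (A K : Subgroup G)
    (hAK : A ≤ Subgroup.normalizer (K : Set G)) (hcop : (Nat.card A).Coprime (Nat.card K))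
    (hsolv : Group.IsSolvable A ∨ Group.IsSolvable K) (P : Sylow p K)
    (hP : A ≤ Subgroup.normalizer (((P : Subgroup K).map K.subtype : Subgroup G) : Set G))
    {x : G} (hxK : x ∈ K) (hxA : x ∈ Subgroup.centralizer (A : Set G)) (hxp : orderOf x = p) :
    ∃ y ∈ (P : Subgroup K).map K.subtype, y ∈ Subgroup.centralizer (A : Set G) ∧ y ≠ 1 := by
  have hXK : Subgroup.zpowers x ≤ K := by
    rw [Subgroup.zpowers_le]; exact hxK
  have hX : IsPGroup p (Subgroup.zpowers x) := by
    apply IsPGroup.of_card (n := 1)
    rw [Nat.card_zpowers, hxp, pow_one]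
  have hXA : A ≤ Subgroup.normalizer ((Subgroup.zpowers x : Subgroup G) : Set G) := by
    rw [Subgroup.le_normalizer_iff]
    intro a ha y hy
    obtain ⟨k, rfl⟩ := Subgroup.mem_zpowers_iff.mp hy
    have h1 : a * x = x * a := (Subgroup.mem_centralizer_iff.mp hxA a ha)
    have h2 : Commute a (x ^ k) := Commute.zpow_right h1 k
    have h3 : a * x ^ k * a⁻¹ = x ^ k := by rw [h2.eq]; group
    rw [h3]; exact hy
  obtain ⟨P₁, hXP₁, hP₁⟩ := Cfsg.Agent.Lib.helper1.exists_invariant_sylow_ge A K hAK hcop hsolv
    (Subgroup.zpowers x) hXK hX hXA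
  obtain ⟨c, hc, hcP⟩ := Cfsg.Agent.Lib.helper1.invariant_sylow_conj A K hAK hcop hsolv P₁ P hP₁ hP
  refine ⟨c * x * c⁻¹, ?_, ?_, ?_⟩
  · rw [← hcP]
    have h1 : x ∈ (P₁ : Subgroup K).map K.subtype := hXP₁ (Subgroup.mem_zpowers x)
    have h2 := Subgroup.smul_mem_pointwise_smul x (MulAut.conj c) _ h1
    simpa [MulAut.smul_def] using h2
  · exact Subgroup.mul_mem _ (Subgroup.mul_mem _ hc.2 hxA) (Subgroup.inv_mem _ hc.2)
  · intro h
    have h1 : x = 1 := by
      have : x = c⁻¹ * (c * x * c⁻¹) * c := by group
      rw [this, h]; simp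
    rw [h1, orderOf_one] at hxp
    exact (Fact.out : p.Prime).one_lt.ne hxp

/-- **Coprime action on a group with cyclic Sylow subgroups**: the orders of `[H, A]` and of
`C_H(A)` are coprime. -/
theorem coprime_card_commutator_card_fixed [Finite G] :
    ∀ (n : ℕ) (H A : Subgroup G), Nat.card H ≤ n → A ≤ Subgroup.normalizer (H : Set G) →
      (Nat.card A).Coprime (Nat.card H) →
      (∀ (p : ℕ) [Fact p.Prime] (P : Subgroup G), P ≤ H → IsPGroup p P → IsCyclic P) →
      (Nat.card ↥(⁅H, A⁆ : Subgroup G)).Coprime
        (Nat.card ↥(H ⊓ Subgroup.centralizer (A : Set G))) := by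
  classical
  intro n
  induction n with
  | zero =>
    intro H A h
    have := Nat.card_pos (α := H)
    omega
  | succ n ih =>
    intro H A hn hAH hcop hcyc
    by_cases hH1 : Nat.card H = 1
    · have hbot : H = ⊥ := (Subgroup.card_eq_one).mp hH1
      subst hbot
      rw [Subgroup.commutator_bot_left, Subgroup.card_bot]
      exact Nat.coprime_one_left _
    have hp : (Nat.card H).minFac.Prime := Nat.minFac_prime hH1
    have hpH : (Nat.card H).minFac ∣ Nat.card H := Nat.minFac_dvd _
    obtain ⟨p, hpdef⟩ : ∃ p, p = (Nat.card H).minFac := ⟨_, rfl⟩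
    rw [← hpdef] at hp hpH
    have : Fact p.Prime := ⟨hp⟩
    have hsolvH : Group.IsSolvable H := isSolvable_of_pgroups_cyclic H hcyc
    obtain ⟨P, hAP⟩ := Cfsg.Agent.Lib.helper1.exists_invariant_sylow (p := p) A H hAH hcop
      (Or.inr hsolvH)
    have hP'H : (P : Subgroup H).map H.subtype ≤ H := Subgroup.map_subtype_le _
    have hP'p : IsPGroup p ((P : Subgroup H).map H.subtype) := P.isPGroup'.map _
    have hP'cyc : IsCyclic ((P : Subgroup H).map H.subtype) := hcyc p _ hP'H hP'p
    have hPcyc : IsCyclic (P : Subgroup H) :=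
      isCyclic_of_surjective
        ((P : Subgroup H).equivMapOfInjective H.subtype H.subtype_injective).symm
        (MulEquiv.surjective _)
    obtain ⟨N₀, hN₀n, hN₀i⟩ :=
      Cfsg.Agent.Lib.helper74.exists_normal_index_of_cyclic_sylow (G := H) hpdef.symm P hPcyc
    have hMH : N₀.map H.subtype ≤ H := Subgroup.map_subtype_le _
    have hcardM : Nat.card (N₀.map H.subtype) = Nat.card N₀ :=
      Subgroup.card_map_of_injective H.subtype_injective
    have hcardP' : Nat.card ((P : Subgroup H).map H.subtype) =
        p ^ (Nat.card H).factorization p := by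
      rw [Subgroup.card_map_of_injective H.subtype_injective, Sylow.card_eq_multiplicity]
    have hk : 0 < (Nat.card H).factorization p :=
      hp.factorization_pos_of_dvd Nat.card_pos.ne' hpH
    have hmul : Nat.card (N₀.map H.subtype) * p ^ (Nat.card H).factorization p = Nat.card H := by
      rw [hcardM, ← Sylow.card_eq_multiplicity P, ← hN₀i]
      exact Subgroup.card_mul_index N₀
    have hMp : (Nat.card (N₀.map H.subtype)).Coprime p := by
      have h1 : Nat.card (N₀.map H.subtype) = Nat.card H / p ^ (Nat.card H).factorization p :=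
        (Nat.div_eq_of_eq_mul_left (pow_pos hp.pos _) hmul.symm).symm
      rw [h1]
      exact (Nat.coprime_ordCompl hp Nat.card_pos.ne').symm
    have hMlt : Nat.card (N₀.map H.subtype) ≤ n := by
      have h1 : 2 ≤ p ^ (Nat.card H).factorization p := by
        calc 2 ≤ p := hp.two_le
          _ = p ^ 1 := (pow_one p).symm
          _ ≤ p ^ (Nat.card H).factorization p := Nat.pow_le_pow_right hp.pos hk
      have h2 : 0 < Nat.card (N₀.map H.subtype) := Nat.card_pos
      nlinarith
    have hHM : H ≤ Subgroup.normalizer ((N₀.map H.subtype : Subgroup G) : Set G) := by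
      rw [Subgroup.le_normalizer_iff]
      intro h hh m hm
      obtain ⟨m₀, hm₀, rfl⟩ := hm
      exact ⟨⟨h, hh⟩ * m₀ * ⟨h, hh⟩⁻¹, hN₀n.conj_mem m₀ hm₀ ⟨h, hh⟩, rfl⟩
    have hmemM : ∀ y ∈ H, (orderOf y).Coprime p → y ∈ N₀.map H.subtype := by
      intro y hy hyp
      have h1 : orderOf (QuotientGroup.mk' N₀ ⟨y, hy⟩) ∣ orderOf (⟨y, hy⟩ : H) :=
        orderOf_map_dvd _ _
      rw [Subgroup.orderOf_mk] at h1
      have h2 : orderOf (QuotientGroup.mk' N₀ ⟨y, hy⟩) ∣ p ^ (Nat.card H).factorization p := by
        have := orderOf_dvd_natCard (QuotientGroup.mk' N₀ ⟨y, hy⟩)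
        rwa [← Subgroup.index_eq_card, hN₀i, Sylow.card_eq_multiplicity] at this
      have h3 : orderOf (QuotientGroup.mk' N₀ ⟨y, hy⟩) = 1 :=
        Nat.eq_one_of_dvd_coprimes (Nat.Coprime.pow_right _ hyp) h1 h2
      rw [orderOf_eq_one_iff, QuotientGroup.mk'_apply, QuotientGroup.eq_one_iff] at h3
      exact ⟨⟨y, hy⟩, h3, rfl⟩
    have hnAH := Subgroup.le_normalizer_iff.mp hAH
    have hAM : A ≤ Subgroup.normalizer ((N₀.map H.subtype : Subgroup G) : Set G) := by
      rw [Subgroup.le_normalizer_iff]
      intro a ha m hm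
      apply hmemM _ (hnAH a ha m (hMH hm))
      have h1 : orderOf (a * m * a⁻¹) = orderOf m := by
        have := MulEquiv.orderOf_eq (MulAut.conj a) m
        rwa [MulAut.conj_apply] at this
      rw [h1]
      exact Nat.Coprime.coprime_dvd_left (Subgroup.orderOf_dvd_natCard _ hm) hMp
    have hsupeq : N₀.map H.subtype ⊔ (P : Subgroup H).map H.subtype = H := by
      apply Subgroup.eq_of_le_of_card_ge (sup_le hMH hP'H)
      have h1 : Nat.card (N₀.map H.subtype) ∣
          Nat.card ↥(N₀.map H.subtype ⊔ (P : Subgroup H).map H.subtype) :=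
        Subgroup.card_dvd_of_le le_sup_left
      have h2 : p ^ (Nat.card H).factorization p ∣
          Nat.card ↥(N₀.map H.subtype ⊔ (P : Subgroup H).map H.subtype) := by
        rw [← hcardP']; exact Subgroup.card_dvd_of_le le_sup_right
      have h3 := Nat.Coprime.mul_dvd_of_dvd_of_dvd (Nat.Coprime.pow_right _ hMp) h1 h2
      rw [hmul] at h3
      exact Nat.le_of_dvd Nat.card_pos h3
    have hP'M : (P : Subgroup H).map H.subtype ≤
        Subgroup.normalizer ((N₀.map H.subtype : Subgroup G) : Set G) := hP'H.trans hHM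
    have hsup : ∀ h ∈ H, ∃ m ∈ N₀.map H.subtype, ∃ b ∈ (P : Subgroup H).map H.subtype,
        h = m * b := by
      intro h hh
      rw [← hsupeq] at hh
      exact mem_sup_of_le_normalizer hP'M hh
    have hcycM : ∀ (q : ℕ) [Fact q.Prime] (Q : Subgroup G), Q ≤ N₀.map H.subtype →
        IsPGroup q Q → IsCyclic Q := fun q _ Q hQM hQ => hcyc q Q (hQM.trans hMH) hQ
    have hcopAM : (Nat.card A).Coprime (Nat.card (N₀.map H.subtype)) :=
      Nat.Coprime.coprime_dvd_right (Subgroup.card_dvd_of_le hMH) hcop
    have hcopAp : (Nat.card A).Coprime p := Nat.Coprime.coprime_dvd_right hpH hcop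
    by_cases hfix : ∃ x ∈ (P : Subgroup H).map H.subtype, x ≠ 1 ∧ ∀ a ∈ A, a * x = x * a
    · -- Case I: A centralizes the invariant Sylow p-subgroup
      obtain ⟨x, hxP, hx1, hxA⟩ := hfix
      have hcentP := commute_of_commute_one hP'p hP'cyc hAP hcopAp hxP hx1 hxA
      have h1 : ⁅H, A⁆ ≤ ⁅N₀.map H.subtype, A⁆ := by
        rw [Subgroup.commutator_le]
        intro h hh a ha
        obtain ⟨m, hm, b, hb, rfl⟩ := hsup h hh
        have hba := hcentP a ha b hb
        have h2 : ⁅m * b, a⁆ = ⁅m, a⁆ := by
          rw [commutatorElement_def, commutatorElement_def]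
          calc m * b * a * (m * b)⁻¹ * a⁻¹ = m * (b * a) * b⁻¹ * m⁻¹ * a⁻¹ := by group
            _ = m * (a * b) * b⁻¹ * m⁻¹ * a⁻¹ := by rw [hba]
            _ = m * a * m⁻¹ * a⁻¹ := by group
        rw [h2]
        exact Subgroup.commutator_mem_commutator hm ha
      have ihM := ih (N₀.map H.subtype) A hMlt hAM hcopAM hcycM
      by_contra hcon
      obtain ⟨l, hl, hl1, hl2⟩ := Nat.Prime.not_coprime_iff_dvd.mp hcon
      have hlM : l ∣ Nat.card ↥(⁅N₀.map H.subtype, A⁆ : Subgroup G) :=
        hl1.trans (Subgroup.card_dvd_of_le h1)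
      have hlM' : l ∣ Nat.card (N₀.map H.subtype) :=
        hlM.trans (Subgroup.card_dvd_of_le
          (Cfsg.Agent.Lib.helper1.commutator_le_of_le_normalizer hAM))
      have hlp : l ≠ p := by
        rintro rfl
        exact hl.one_lt.ne' (Nat.eq_one_of_dvd_coprimes hMp hlM' dvd_rfl)
      have : Fact l.Prime := ⟨hl⟩
      obtain ⟨x, hx⟩ := exists_prime_orderOf_dvd_card' l hl2
      have hxord : orderOf (x : G) = l := by rw [Subgroup.orderOf_coe, hx]
      have hxM : (x : G) ∈ N₀.map H.subtype :=
        hmemM _ x.2.1 (by rw [hxord]; exact (Nat.coprime_primes hl hp).mpr hlp)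
      have hl3 : l ∣ Nat.card ↥(N₀.map H.subtype ⊓ Subgroup.centralizer (A : Set G)) := by
        rw [← hxord]
        exact Subgroup.orderOf_dvd_natCard _ ⟨hxM, x.2.2⟩
      exact hl.one_lt.ne' (Nat.eq_one_of_dvd_coprimes ihM hlM hl3)
    · -- Case II: A acts fixed-point-freely on the invariant Sylow p-subgroup
      have hPbot : (P : Subgroup H).map H.subtype ⊓ Subgroup.centralizer (A : Set G) = ⊥ := by
        rw [eq_bot_iff]
        intro y hy
        rw [Subgroup.mem_bot]
        by_contra hy1
        exact hfix ⟨y, hy.1, hy1, fun a ha => Subgroup.mem_centralizer_iff.mp hy.2 a ha⟩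
      have hsolvP : Group.IsSolvable ((P : Subgroup H).map H.subtype) := by
        have : Group.IsNilpotent ((P : Subgroup H).map H.subtype) := hP'p.isNilpotent
        infer_instance
      have hcopAP : (Nat.card A).Coprime (Nat.card ((P : Subgroup H).map H.subtype)) :=
        Nat.Coprime.coprime_dvd_right (Subgroup.card_dvd_of_le hP'H) hcop
      have hcommP : ⁅(P : Subgroup H).map H.subtype, A⁆ = (P : Subgroup H).map H.subtype := by
        have := Cfsg.Agent.Lib.helper1.commutator_sup_fixed A _ hAP hcopAP (Or.inr hsolvP)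
        rwa [hPbot, sup_bot_eq] at this
      have hBM : (P : Subgroup H).map H.subtype ⊔ A ≤
          Subgroup.normalizer ((N₀.map H.subtype : Subgroup G) : Set G) := sup_le hP'M hAM
      have hcardB : Nat.card ↥((P : Subgroup H).map H.subtype ⊔ A) ∣
          Nat.card ((P : Subgroup H).map H.subtype) * Nat.card A :=
        card_sup_dvd_of_le_normalizer hAP
      have hcopBM : (Nat.card ↥((P : Subgroup H).map H.subtype ⊔ A)).Coprime
          (Nat.card (N₀.map H.subtype)) := by
        apply Nat.Coprime.coprime_dvd_left hcardB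
        apply Nat.Coprime.mul_left _ hcopAM
        rw [hcardP']
        exact (Nat.Coprime.pow_right _ hMp).symm
      have ihMB := ih (N₀.map H.subtype) ((P : Subgroup H).map H.subtype ⊔ A) hMlt hBM hcopBM hcycM
      by_contra hcon
      obtain ⟨l, hl, hl1, hl2⟩ := Nat.Prime.not_coprime_iff_dvd.mp hcon
      have : Fact l.Prime := ⟨hl⟩
      obtain ⟨x, hx⟩ := exists_prime_orderOf_dvd_card' l hl2
      have hxord : orderOf (x : G) = l := by rw [Subgroup.orderOf_coe, hx]
      -- (i) l ≠ p
      have hlp : l ≠ p := by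
        rintro rfl
        obtain ⟨y, hyP, hyA, hy1⟩ := exists_fixed_in_invariant_sylow A H hAH hcop (Or.inr hsolvH) P
          hAP x.2.1 x.2.2 hxord
        have : y ∈ (P : Subgroup H).map H.subtype ⊓ Subgroup.centralizer (A : Set G) := ⟨hyP, hyA⟩
        rw [hPbot, Subgroup.mem_bot] at this
        exact hy1 this
      -- (ii) x ∈ M
      have hxM : (x : G) ∈ N₀.map H.subtype :=
        hmemM _ x.2.1 (by rw [hxord]; exact (Nat.coprime_primes hl hp).mpr hlp)
      have hlM : l ∣ Nat.card (N₀.map H.subtype) := by
        rw [← hxord]; exact Subgroup.orderOf_dvd_natCard _ hxM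
      -- (iii) an invariant Sylow l-subgroup of M centralized by A
      have hsolvM : Group.IsSolvable (N₀.map H.subtype) := isSolvable_of_pgroups_cyclic _ hcycM
      obtain ⟨R, hBR⟩ := Cfsg.Agent.Lib.helper1.exists_invariant_sylow (p := l)
        ((P : Subgroup H).map H.subtype ⊔ A) (N₀.map H.subtype) hBM hcopBM (Or.inr hsolvM)
      have hR'M : (R : Subgroup (N₀.map H.subtype)).map (N₀.map H.subtype).subtype ≤
          N₀.map H.subtype := Subgroup.map_subtype_le _
      have hR'p : IsPGroup l ((R : Subgroup (N₀.map H.subtype)).map (N₀.map H.subtype).subtype) :=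
        R.isPGroup'.map _
      have hR'cyc := hcyc l _ (hR'M.trans hMH) hR'p
      have hAR : A ≤ Subgroup.normalizer
          ((((R : Subgroup (N₀.map H.subtype)).map (N₀.map H.subtype).subtype : Subgroup G)) :
            Set G) := le_sup_right.trans hBR
      have hnBR := Subgroup.le_normalizer_iff.mp hBR
      obtain ⟨z, hzR, hzA, hz1⟩ := exists_fixed_in_invariant_sylow A (N₀.map H.subtype) hAM hcopAM
        (Or.inr hsolvM) R hAR hxM x.2.2 hxord
      have hcentR := commute_of_commute_one hR'p hR'cyc hAR
        (Nat.Coprime.coprime_dvd_right hlM hcopAM) hzR hz1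
        (fun a ha => Subgroup.mem_centralizer_iff.mp hzA a ha)
      -- (iv) P' centralizes R'
      have hPR : (P : Subgroup H).map H.subtype ≤ Subgroup.centralizer
          ((((R : Subgroup (N₀.map H.subtype)).map (N₀.map H.subtype).subtype : Subgroup G)) :
            Set G) := by
        rw [← hcommP, Subgroup.commutator_le]
        intro b hb a ha
        rw [Subgroup.mem_centralizer_iff]
        intro g hg
        have hbn : b⁻¹ * g * b ∈
            (R : Subgroup (N₀.map H.subtype)).map (N₀.map H.subtype).subtype := by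
          have := hnBR b⁻¹ (Subgroup.inv_mem _ (Subgroup.mem_sup_left hb)) g hg
          simpa using this
        have h1 := hcentR a ha g hg
        have h2 := hcentR a ha _ hbn
        have c1 : Commute g a := h1.symm
        have c2 : Commute g (b * a * b⁻¹) := by
          show g * (b * a * b⁻¹) = b * a * b⁻¹ * g
          calc g * (b * a * b⁻¹) = b * ((b⁻¹ * g * b) * a) * b⁻¹ := by group
            _ = b * (a * (b⁻¹ * g * b)) * b⁻¹ := by rw [h2]
            _ = b * a * b⁻¹ * g := by group
        have c3 : Commute g ⁅b, a⁆ := by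
          rw [commutatorElement_def]
          exact c2.mul_right c1.inv_right
        exact c3.eq
      have hBcent : (P : Subgroup H).map H.subtype ⊔ A ≤ Subgroup.centralizer
          ((((R : Subgroup (N₀.map H.subtype)).map (N₀.map H.subtype).subtype : Subgroup G)) :
            Set G) := by
        refine sup_le hPR ?_
        intro a ha
        rw [Subgroup.mem_centralizer_iff]
        intro g hg
        exact (hcentR a ha g hg).symm
      have hR'fix : (R : Subgroup (N₀.map H.subtype)).map (N₀.map H.subtype).subtype ≤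
          N₀.map H.subtype ⊓ Subgroup.centralizer
            ((((P : Subgroup H).map H.subtype ⊔ A : Subgroup G)) : Set G) := by
        intro g hg
        have hgc : g ∈ Subgroup.centralizer
            ((((P : Subgroup H).map H.subtype ⊔ A : Subgroup G)) : Set G) := by
          rw [Subgroup.mem_centralizer_iff]
          intro y hy
          exact (Subgroup.mem_centralizer_iff.mp (hBcent hy) g hg).symm
        exact ⟨hR'M hg, hgc⟩
      have hlR : l ∣ Nat.card ((R : Subgroup (N₀.map H.subtype)).map (N₀.map H.subtype).subtype) := by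
        rw [Subgroup.card_map_of_injective (Subgroup.subtype_injective _)]
        exact R.dvd_card_of_dvd_card hlM
      have hl4 : l ∣ Nat.card ↥(N₀.map H.subtype ⊓ Subgroup.centralizer
          ((((P : Subgroup H).map H.subtype ⊔ A : Subgroup G)) : Set G)) :=
        hlR.trans (Subgroup.card_dvd_of_le hR'fix)
      -- (v)
      have h5 : ⁅H, A⁆ ≤ ⁅N₀.map H.subtype, (P : Subgroup H).map H.subtype ⊔ A⁆ ⊔
          (P : Subgroup H).map H.subtype := by
        rw [Subgroup.commutator_le]
        intro h hh a ha
        obtain ⟨m, hm, b, hb, rfl⟩ := hsup h hh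
        have hba : ⁅b, a⁆ ∈ (P : Subgroup H).map H.subtype := by
          rw [← hcommP]; exact Subgroup.commutator_mem_commutator hb ha
        have h6 : ⁅m * b, a⁆ = ⁅m, ⁅b, a⁆⁆ * ⁅b, a⁆ * ⁅m, a⁆ := by
          simp only [commutatorElement_def]; group
        rw [h6]
        refine Subgroup.mul_mem _ (Subgroup.mul_mem _ ?_ ?_) ?_
        · exact Subgroup.mem_sup_left
            (Subgroup.commutator_mem_commutator hm (Subgroup.mem_sup_left hba))
        · exact Subgroup.mem_sup_right hba
        · exact Subgroup.mem_sup_left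
            (Subgroup.commutator_mem_commutator hm (Subgroup.mem_sup_right ha))
      have hcardJ := card_sup_dvd_of_le_normalizer
        (T := ⁅N₀.map H.subtype, (P : Subgroup H).map H.subtype ⊔ A⁆)
        (A := (P : Subgroup H).map H.subtype)
        (le_sup_left.trans (Cfsg.Agent.Lib.helper1.right_le_normalizer_commutator hBM))
      have hl5 : l ∣ Nat.card ↥(⁅N₀.map H.subtype, (P : Subgroup H).map H.subtype ⊔ A⁆ :
          Subgroup G) * p ^ (Nat.card H).factorization p := by
        rw [← hcardP']
        exact (hl1.trans (Subgroup.card_dvd_of_le h5)).trans hcardJ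
      rcases (hl.dvd_mul).mp hl5 with h | h
      · exact hl.one_lt.ne' (Nat.eq_one_of_dvd_coprimes ihMB h hl4)
      · exact hlp ((Nat.prime_dvd_prime_iff_eq hl hp).mp (hl.dvd_of_dvd_pow h))

end Cfsg.Agent.Lib.helper72
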