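/-
Commuting graph on involutions: under the structural hypotheses `IGHyp` the commuting graph
on the involutions of `G` is a friendship graph, which contradicts the friendship theorem.
-/
import Mathlib
import Cfsg.Agent.Lib.helper72.Friend
import Cfsg.Agent.Lib.helper72.FreeAct
import Cfsg.Agent.Lib.helper72.TIHall

set_option autoImplicit false

namespace Cfsg.Agent.Lib.helper72

open Subgroup

section InvGraph

variable {G : Type*} [Group G]

lemma inv_eq_self_of_sq {t : G} (ht : t ^ 2 = 1) : t⁻¹ = t := by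
  rw [inv_eq_iff_mul_eq_one, ← sq]; exact ht

lemma exists_conj_mem_sylow [Finite G] {p : ℕ} [Fact p.Prime] (P : Sylow p G) (u : G)
    (hu : IsPGroup p (Subgroup.zpowers u)) : ∃ g : G, g⁻¹ * u * g ∈ (P : Subgroup G) := by
  obtain ⟨P', hP'⟩ := hu.exists_le_sylow
  obtain ⟨g, hg⟩ := MulAction.exists_smul_eq G P P'
  refine ⟨g, ?_⟩
  have hu' : u ∈ (P' : Subgroup G) := hP' (Subgroup.mem_zpowers u)
  rw [← hg, Sylow.coe_subgroup_smul, Subgroup.mem_pointwise_smul_iff_inv_smul_mem] at hu'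
  simpa [MulAut.smul_def, mul_assoc] using hu'

/-- The hypotheses under which the involution graph argument runs. -/
structure IGHyp (p : ℕ) (P : Sylow p G) (z : G) : Prop where
  hp2 : p ≠ 2
  comm : ∀ a ∈ (P : Subgroup G), ∀ b ∈ (P : Subgroup G), a * b = b * a
  ne1 : ∃ u ∈ (P : Subgroup G), u ≠ 1
  hab : ∀ H : Subgroup G, ¬ p ∣ Nat.card H → ∀ a ∈ H, ∀ b ∈ H, a * b = b * a
  z2 : z ^ 2 = 1
  z1 : z ≠ 1
  zN : ∀ n ∈ Subgroup.normalizer (P : Set G), n * z = z * n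
  Cz : ∀ g : G, g * z = z * g → g ∈ Subgroup.normalizer (P : Set G)
  B2 : ∀ n ∈ Subgroup.normalizer (P : Set G), n ^ Nat.card (P : Subgroup G) = 1 →
    n ∈ (P : Subgroup G)
  B4 : ∀ n ∈ Subgroup.normalizer (P : Set G), ∀ x ∈ (P : Subgroup G), x ≠ 1 → n * x = x * n →
    ∀ u ∈ (P : Subgroup G), n * u = u * n
  Gii : ∀ c : G, (∀ u ∈ (P : Subgroup G), c * u = u * c) → (orderOf c).Coprime p →
    c = 1 ∨ c = z
  conj : ∀ s : G, s ^ 2 = 1 → s ≠ 1 → ∃ g : G, s = g * z * g⁻¹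
  C1 : ∀ x ∈ (P : Subgroup G), orderOf x = p → ∀ g : G, g * x * g⁻¹ ∈ Subgroup.zpowers x →
    g ∈ Subgroup.normalizer (P : Set G)
  C2 : ∀ u ∈ (P : Subgroup G), u ≠ 1 → ∀ g : G, g * u = u * g →
    g ∈ Subgroup.normalizer (P : Set G)
  t : ∃ t : G, t ^ 2 = 1 ∧ t ∈ Subgroup.normalizer (P : Set G) ∧
    ∃ u ∈ (P : Subgroup G), t * u ≠ u * t

variable {p : ℕ} [Fact p.Prime] {P : Sylow p G} {z : G}

lemma ig_coprime_two (hp2 : p ≠ 2) : Nat.Coprime 2 p := by
  have hp := (Fact.out : p.Prime)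
  exact (Nat.coprime_primes Nat.prime_two hp).mpr (Ne.symm hp2)

lemma ig_coprime_of_sq (hp2 : p ≠ 2) {c : G} (hc : c ^ 2 = 1) : (orderOf c).Coprime p :=
  Nat.Coprime.coprime_dvd_left (orderOf_dvd_of_pow_eq_one hc) (ig_coprime_two hp2)

lemma ig_inv (h : IGHyp p P z) {t : G} (htN : t ∈ Subgroup.normalizer (P : Set G))
    (ht2 : t ^ 2 = 1) (ht1 : t ≠ 1) (htz : t ≠ z) :
    ∀ u ∈ (P : Subgroup G), t * u * t⁻¹ = u⁻¹ := by
  intro u hu
  have hti : t⁻¹ = t := inv_eq_self_of_sq ht2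
  have htt : t * t = 1 := by rw [← sq]; exact ht2
  have hnc : ¬ ∀ u ∈ (P : Subgroup G), t * u = u * t := by
    intro hc
    rcases h.Gii t hc (ig_coprime_of_sq h.hp2 ht2) with h1 | h1
    · exact ht1 h1
    · exact htz h1
  have htu : t * u * t⁻¹ ∈ (P : Subgroup G) := (Subgroup.mem_normalizer_iff.mp htN u).mp hu
  have hcomm := h.comm u hu _ htu
  rw [hti] at hcomm htu ⊢
  have hvP : u * (t * u * t) ∈ (P : Subgroup G) := mul_mem hu htu
  have htv : t * (u * (t * u * t)) = (u * (t * u * t)) * t := by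
    calc t * (u * (t * u * t)) = (t * u * t * u) * t := by simp only [mul_assoc]
      _ = (u * (t * u * t)) * t := by rw [← hcomm]
  have hv1 : u * (t * u * t) = 1 := by
    by_contra hne
    exact hnc (h.B4 t htN _ hvP hne htv)
  exact eq_inv_of_mul_eq_one_right hv1

lemma ig_prod_cent (h : IGHyp p P z) {t t' : G}
    (htN : t ∈ Subgroup.normalizer (P : Set G)) (ht2 : t ^ 2 = 1) (ht1 : t ≠ 1) (htz : t ≠ z)
    (ht'N : t' ∈ Subgroup.normalizer (P : Set G)) (ht'2 : t' ^ 2 = 1) (ht'1 : t' ≠ 1)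
    (ht'z : t' ≠ z) : ∀ u ∈ (P : Subgroup G), (t * t') * u = u * (t * t') := by
  intro u hu
  have h1 := ig_inv h ht'N ht'2 ht'1 ht'z u hu
  have h2 := ig_inv h htN ht2 ht1 htz u⁻¹ (inv_mem hu)
  have h3 : (t * t') * u * (t * t')⁻¹ = u := by
    rw [mul_inv_rev]
    calc t * t' * u * (t'⁻¹ * t⁻¹) = t * (t' * u * t'⁻¹) * t⁻¹ := by simp only [mul_assoc]
      _ = u := by rw [h1, h2, inv_inv]
  calc t * t' * u = (t * t' * u * (t * t')⁻¹) * (t * t') := by simp [mul_assoc]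
    _ = u * (t * t') := by rw [h3]

lemma ig_two (h : IGHyp p P z) {t t' : G}
    (htN : t ∈ Subgroup.normalizer (P : Set G)) (ht2 : t ^ 2 = 1) (ht1 : t ≠ 1) (htz : t ≠ z)
    (ht'N : t' ∈ Subgroup.normalizer (P : Set G)) (ht'2 : t' ^ 2 = 1) (ht'1 : t' ≠ 1)
    (ht'z : t' ≠ z) (hc : t * t' = t' * t) : t' = t ∨ t' = t * z := by
  have hcent := ig_prod_cent h htN ht2 ht1 htz ht'N ht'2 ht'1 ht'z
  have htt : t * t = 1 := by rw [← sq]; exact ht2
  have ht't' : t' * t' = 1 := by rw [← sq]; exact ht'2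
  have hsq : (t * t') ^ 2 = 1 := by
    rw [sq]
    calc t * t' * (t * t') = t * (t' * t) * t' := by simp only [mul_assoc]
      _ = t * (t * t') * t' := by rw [hc]
      _ = (t * t) * (t' * t') := by simp only [mul_assoc]
      _ = 1 := by rw [htt, ht't', one_mul]
  rcases h.Gii _ hcent (ig_coprime_of_sq h.hp2 hsq) with h1 | h1
  · left
    have : t' = t⁻¹ := eq_inv_of_mul_eq_one_right h1
    rw [this, inv_eq_self_of_sq ht2]
  · right
    have : t' = t⁻¹ * z := by rw [← h1]; group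
    rw [this, inv_eq_self_of_sq ht2]

lemma ig_unique0 [Finite G] (h : IGHyp p P z) {s s' r' : G}
    (hs2 : s ^ 2 = 1) (hs1 : s ≠ 1) (hs'2 : s' ^ 2 = 1) (hs'1 : s' ≠ 1)
    (hr2 : r' ^ 2 = 1) (hr1 : r' ≠ 1)
    (hss' : s ≠ s') (hsz : s ≠ z) (hs'z : s' ≠ z) (hrs : r' ≠ s) (hrs' : r' ≠ s')
    (hzs : s * z = z * s) (hzs' : s' * z = z * s')
    (hcs : r' * s = s * r') (hcs' : r' * s' = s' * r') : r' = z := by
  by_contra hrz
  have hp := (Fact.out : p.Prime)
  have hsN := h.Cz s hzs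
  have hs'N := h.Cz s' hzs'
  have hv1 : s * s' ≠ 1 := by
    intro h1
    have : s' = s⁻¹ := eq_inv_of_mul_eq_one_right h1
    rw [inv_eq_self_of_sq hs2] at this
    exact hss' this.symm
  have hcent := ig_prod_cent h hsN hs2 hs1 hsz hs'N hs'2 hs'1 hs'z
  have hrv : r' * (s * s') = (s * s') * r' := by
    rw [← mul_assoc, hcs, mul_assoc, hcs', ← mul_assoc]
  have hvN : s * s' ∈ Subgroup.normalizer (P : Set G) := mul_mem hsN hs'N
  have hpow : ((s * s') ^ (P : Subgroup G).index) ^ Nat.card (P : Subgroup G) = 1 := by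
    rw [← pow_mul, mul_comm, Subgroup.card_mul_index, pow_card_eq_one']
  have hvb : (s * s') ^ (P : Subgroup G).index ∈ (P : Subgroup G) :=
    h.B2 _ (pow_mem hvN _) hpow
  have hidx : ((P : Subgroup G).index).Coprime p :=
    ((Nat.Prime.coprime_iff_not_dvd hp).mpr P.not_dvd_index).symm
  by_cases hvb1 : (s * s') ^ (P : Subgroup G).index = 1
  · have hcop : (orderOf (s * s')).Coprime p :=
      Nat.Coprime.coprime_dvd_left (orderOf_dvd_of_pow_eq_one hvb1) hidx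
    rcases h.Gii _ hcent hcop with h1 | h1
    · exact hv1 h1
    · have hrz' : r' * z = z * r' := by rw [← h1]; exact hrv
      have hrN := h.Cz r' hrz'
      rcases ig_two h hsN hs2 hs1 hsz hrN hr2 hr1 hrz hcs.symm with h2 | h2
      · exact hrs h2
      · apply hrs'
        rw [h2, ← h1, ← mul_assoc, ← sq, hs2, one_mul]
  · have hrvb : r' * (s * s') ^ (P : Subgroup G).index =
        (s * s') ^ (P : Subgroup G).index * r' :=
      (Commute.pow_right (show Commute r' (s * s') from hrv) _).eq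
    have hrN := h.C2 _ hvb hvb1 r' hrvb
    have hrinv := ig_inv h hrN hr2 hr1 hrz _ hvb
    have h3 : (s * s') ^ (P : Subgroup G).index = ((s * s') ^ (P : Subgroup G).index)⁻¹ := by
      rw [← hrinv, hrvb, mul_inv_cancel_right]
    have hsq : ((s * s') ^ (P : Subgroup G).index) ^ 2 = 1 := by
      rw [sq]; nth_rewrite 1 [h3]; exact inv_mul_cancel _
    obtain ⟨k, hk⟩ := IsPGroup.iff_card.mp P.isPGroup'
    have hcop : Nat.Coprime 2 (Nat.card (P : Subgroup G)) := by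
      rw [hk]; exact Nat.Coprime.pow_right k (ig_coprime_two h.hp2)
    have h6 := pow_gcd_eq_one.mpr ⟨hsq, hpow⟩
    rw [hcop.gcd_eq_one, pow_one] at h6
    exact hvb1 h6

lemma ig_unique [Finite G] (h : IGHyp p P z) {s s' r r' : G}
    (hs2 : s ^ 2 = 1) (hs1 : s ≠ 1) (hs'2 : s' ^ 2 = 1) (hs'1 : s' ≠ 1)
    (hr2 : r ^ 2 = 1) (hr1 : r ≠ 1) (hr'2 : r' ^ 2 = 1) (hr'1 : r' ≠ 1)
    (hss' : s ≠ s') (hrs : r ≠ s) (hrs' : r ≠ s') (hr's : r' ≠ s) (hr's' : r' ≠ s')
    (hc1 : r * s = s * r) (hc2 : r * s' = s' * r)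
    (hc3 : r' * s = s * r') (hc4 : r' * s' = s' * r') : r' = r := by
  obtain ⟨g, hg⟩ := h.conj r hr2 hr1
  have hz : z = g⁻¹ * r * g := by rw [hg]; group
  have cjmul : ∀ a b : G, (g⁻¹ * a * g) * (g⁻¹ * b * g) = g⁻¹ * (a * b) * g := by
    intro a b; group
  have cjinj : ∀ a b : G, g⁻¹ * a * g = g⁻¹ * b * g → a = b := by
    intro a b hab; simpa using hab
  have cjsq : ∀ a : G, a ^ 2 = 1 → (g⁻¹ * a * g) ^ 2 = 1 := by
    intro a ha; rw [sq, cjmul, ← sq, ha]; group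
  have cj1 : ∀ a : G, a ≠ 1 → g⁻¹ * a * g ≠ 1 := by
    intro a ha h1; apply ha
    have : g⁻¹ * a * g = g⁻¹ * 1 * g := by rw [h1]; group
    exact cjinj _ _ this
  have key := ig_unique0 h (s := g⁻¹ * s * g) (s' := g⁻¹ * s' * g) (r' := g⁻¹ * r' * g)
    (cjsq s hs2) (cj1 s hs1) (cjsq s' hs'2) (cj1 s' hs'1) (cjsq r' hr'2) (cj1 r' hr'1)
    (fun e => hss' (cjinj _ _ e))
    (fun e => hrs (cjinj _ _ (by rw [← hz]; exact e.symm)))
    (fun e => hrs' (cjinj _ _ (by rw [← hz]; exact e.symm)))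
    (fun e => hr's (cjinj _ _ e))
    (fun e => hr's' (cjinj _ _ e))
    (by rw [hz, cjmul, cjmul, hc1])
    (by rw [hz, cjmul, cjmul, hc2])
    (by rw [cjmul, cjmul, hc3])
    (by rw [cjmul, cjmul, hc4])
  exact cjinj _ _ (by rw [← hz]; exact key)

lemma ig_exists [Finite G] (h : IGHyp p P z) {s s' : G}
    (hs2 : s ^ 2 = 1) (hs1 : s ≠ 1) (hs'2 : s' ^ 2 = 1) (hs'1 : s' ≠ 1) (hss' : s ≠ s') :
    ∃ r : G, r ^ 2 = 1 ∧ r ≠ 1 ∧ r ≠ s ∧ r ≠ s' ∧ r * s = s * r ∧ r * s' = s' * r := by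
  have hp := (Fact.out : p.Prime)
  have hsi : s⁻¹ = s := inv_eq_self_of_sq hs2
  have hs'i : s'⁻¹ = s' := inv_eq_self_of_sq hs'2
  have hss : s * s = 1 := by rw [← sq]; exact hs2
  have hs's' : s' * s' = 1 := by rw [← sq]; exact hs'2
  have hw1 : s * s' ≠ 1 := by
    intro h1
    have : s' = s⁻¹ := eq_inv_of_mul_eq_one_right h1
    rw [hsi] at this
    exact hss' this.symm
  by_cases hc : s * s' = s' * s
  · refine ⟨s * s', ?_, hw1, ?_, ?_, ?_, ?_⟩
    · rw [sq]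
      calc s * s' * (s * s') = s * (s' * s) * s' := by simp only [mul_assoc]
        _ = s * (s * s') * s' := by rw [hc]
        _ = (s * s) * (s' * s') := by simp only [mul_assoc]
        _ = 1 := by rw [hss, hs's', one_mul]
    · intro h1
      exact hs'1 (by simpa using h1)
    · intro h1
      exact hs1 (by simpa using h1)
    · calc s * s' * s = s * (s' * s) := by rw [mul_assoc]
        _ = s * (s * s') := by rw [hc]
    · calc s * s' * s' = s' * s * s' := by rw [hc]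
        _ = s' * (s * s') := by rw [mul_assoc]
  · have hsw : s * (s * s') * s⁻¹ = (s * s')⁻¹ := by
      rw [hsi, mul_inv_rev, hsi, hs'i]
      calc s * (s * s') * s = (s * s) * s' * s := by simp only [mul_assoc]
        _ = s' * s := by rw [hss, one_mul]
    have hs'w : s' * (s * s') * s'⁻¹ = (s * s')⁻¹ := by
      rw [hs'i, mul_inv_rev, hsi, hs'i]
      calc s' * (s * s') * s' = s' * s * (s' * s') := by simp only [mul_assoc]
        _ = s' * s := by rw [hs's', mul_one]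
    have hswk : ∀ k : ℕ, s * (s * s') ^ k * s⁻¹ = ((s * s') ^ k)⁻¹ := by
      intro k
      rw [← inv_pow, ← hsw, conj_pow]
    have hs'wk : ∀ k : ℕ, s' * (s * s') ^ k * s'⁻¹ = ((s * s') ^ k)⁻¹ := by
      intro k
      rw [← inv_pow, ← hs'w, conj_pow]
    have hn0 : 0 < orderOf (s * s') := orderOf_pos _
    by_cases hev : 2 ∣ orderOf (s * s')
    · obtain ⟨m, hm⟩ := hev
      have hr2 : ((s * s') ^ m) ^ 2 = 1 := by
        rw [← pow_mul, mul_comm, ← hm, pow_orderOf_eq_one]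
      have hr1 : (s * s') ^ m ≠ 1 := by
        intro h1
        have h2 := orderOf_dvd_of_pow_eq_one h1
        have hm0 : 0 < m := by omega
        have hle := Nat.le_of_dvd hm0 h2
        omega
      have hri : ((s * s') ^ m)⁻¹ = (s * s') ^ m := inv_eq_self_of_sq hr2
      have hsr : s * (s * s') ^ m = (s * s') ^ m * s := by
        have h1 := hswk m
        rw [hri] at h1
        calc s * (s * s') ^ m = (s * (s * s') ^ m * s⁻¹) * s := by simp [mul_assoc]
          _ = (s * s') ^ m * s := by rw [h1]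
      have hs'r : s' * (s * s') ^ m = (s * s') ^ m * s' := by
        have h1 := hs'wk m
        rw [hri] at h1
        calc s' * (s * s') ^ m = (s' * (s * s') ^ m * s'⁻¹) * s' := by simp [mul_assoc]
          _ = (s * s') ^ m * s' := by rw [h1]
      have hrw : (s * s') ^ m * (s * s') = (s * s') * (s * s') ^ m :=
        ((Commute.refl (s * s')).pow_left m).eq
      refine ⟨(s * s') ^ m, hr2, hr1, ?_, ?_, hsr.symm, hs'r.symm⟩
      · intro h1
        apply hc
        rw [h1] at hrw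
        calc s * s' = s * (s * (s * s')) := by rw [← mul_assoc s s, hss, one_mul]
          _ = s * (s * s' * s) := by rw [hrw]
          _ = s' * s := by rw [← mul_assoc, ← mul_assoc, hss, one_mul]
      · intro h1
        apply hc
        rw [h1] at hrw
        calc s * s' = s * s' * s' * s' := by rw [mul_assoc (s * s'), hs's', mul_one]
          _ = s' * (s * s') * s' := by rw [hrw]
          _ = s' * s := by rw [mul_assoc, mul_assoc, hs's', mul_one]
    · have hsNw : s ∈ Subgroup.normalizer ((Subgroup.zpowers (s * s') : Subgroup G) : Set G) := by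
        apply mem_normalizer_of_conj_mem
        intro x hx
        obtain ⟨k, rfl⟩ := Subgroup.mem_zpowers_iff.mp hx
        rw [← conj_zpow, hsw]
        exact zpow_mem (inv_mem (Subgroup.mem_zpowers _)) k
      have hcardD : Nat.card ↥(Subgroup.zpowers (s * s') ⊔ Subgroup.zpowers s) ∣
          orderOf (s * s') * 2 := by
        have h1 := card_sup_dvd_of_le_normalizer (T := Subgroup.zpowers (s * s'))
          (A := Subgroup.zpowers s) ((Subgroup.zpowers_le).mpr hsNw)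
        rw [Nat.card_zpowers, Nat.card_zpowers] at h1
        have h2 : orderOf s ∣ 2 := orderOf_dvd_of_pow_eq_one hs2
        exact h1.trans (Nat.mul_dvd_mul_left _ h2)
      have hsD : s ∈ Subgroup.zpowers (s * s') ⊔ Subgroup.zpowers s :=
        (le_sup_right : Subgroup.zpowers s ≤ _) (Subgroup.mem_zpowers s)
      have hwD : s * s' ∈ Subgroup.zpowers (s * s') ⊔ Subgroup.zpowers s :=
        (le_sup_left : Subgroup.zpowers (s * s') ≤ _) (Subgroup.mem_zpowers _)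
      have hs'D : s' ∈ Subgroup.zpowers (s * s') ⊔ Subgroup.zpowers s := by
        have h1 := mul_mem hsD hwD
        rwa [← mul_assoc, hss, one_mul] at h1
      have hpD : p ∣ Nat.card ↥(Subgroup.zpowers (s * s') ⊔ Subgroup.zpowers s) := by
        by_contra hnd
        exact hc (h.hab _ hnd s hsD s' hs'D)
      have hpn : p ∣ orderOf (s * s') := by
        rcases (hp.dvd_mul).mp (hpD.trans hcardD) with h1 | h1
        · exact h1
        · exact absurd ((Nat.prime_dvd_prime_iff_eq hp Nat.prime_two).mp h1) h.hp2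
      have hou : orderOf ((s * s') ^ (orderOf (s * s') / p)) = p :=
        orderOf_pow_orderOf_div hn0.ne' hpn
      have hsu := hswk (orderOf (s * s') / p)
      have hs'u := hs'wk (orderOf (s * s') / p)
      generalize (s * s') ^ (orderOf (s * s') / p) = u at hou hsu hs'u
      have hpg : IsPGroup p (Subgroup.zpowers u) :=
        IsPGroup.of_card (n := 1) (by rw [Nat.card_zpowers, hou, pow_one])
      obtain ⟨g, hg⟩ := exists_conj_mem_sylow P u hpg
      have hox : orderOf (g⁻¹ * u * g) = p := by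
        have := (MulAut.conj g⁻¹).orderOf_eq u
        simpa [MulAut.conj_apply] using this.trans hou
      have key : ∀ a : G, a * u * a⁻¹ = u⁻¹ →
          (g⁻¹ * a * g) ∈ Subgroup.normalizer (P : Set G) := by
        intro a ha
        apply h.C1 _ hg hox
        have : g⁻¹ * a * g * (g⁻¹ * u * g) * (g⁻¹ * a * g)⁻¹ = (g⁻¹ * u * g)⁻¹ := by
          calc g⁻¹ * a * g * (g⁻¹ * u * g) * (g⁻¹ * a * g)⁻¹
              = g⁻¹ * (a * u * a⁻¹) * g := by group
            _ = (g⁻¹ * u * g)⁻¹ := by rw [ha]; group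
        rw [this]; exact inv_mem (Subgroup.mem_zpowers _)
      have hs1N := key s hsu
      have hs1'N := key s' hs'u
      have hne : ∀ a : G, a * u * a⁻¹ = u⁻¹ → g * z * g⁻¹ ≠ a := by
        intro a ha h1
        have hz' : g⁻¹ * a * g = z := by rw [← h1]; group
        have h2 : z * (g⁻¹ * u * g) * z⁻¹ = (g⁻¹ * u * g)⁻¹ := by
          rw [← hz']
          calc g⁻¹ * a * g * (g⁻¹ * u * g) * (g⁻¹ * a * g)⁻¹
              = g⁻¹ * (a * u * a⁻¹) * g := by group
            _ = (g⁻¹ * u * g)⁻¹ := by rw [ha]; group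
        have h3 : (g⁻¹ * u * g) * z = z * (g⁻¹ * u * g) := h.zN _ (Subgroup.le_normalizer hg)
        have h4 : g⁻¹ * u * g = (g⁻¹ * u * g)⁻¹ := by
          rw [← h2, ← h3, mul_inv_cancel_right]
        have h5 : (g⁻¹ * u * g) ^ 2 = 1 := by
          rw [sq]; nth_rewrite 1 [h4]; exact inv_mul_cancel _
        have h6 : p ∣ 2 := by rw [← hox]; exact orderOf_dvd_of_pow_eq_one h5
        exact h.hp2 ((Nat.prime_dvd_prime_iff_eq hp Nat.prime_two).mp h6)
      have hcm : ∀ a : G, (g⁻¹ * a * g) ∈ Subgroup.normalizer (P : Set G) →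
          g * z * g⁻¹ * a = a * (g * z * g⁻¹) := by
        intro a ha
        have h1 : (g⁻¹ * a * g) * z = z * (g⁻¹ * a * g) := h.zN _ ha
        calc g * z * g⁻¹ * a = g * (z * (g⁻¹ * a * g)) * g⁻¹ := by group
          _ = g * ((g⁻¹ * a * g) * z) * g⁻¹ := by rw [h1]
          _ = a * (g * z * g⁻¹) := by group
      refine ⟨g * z * g⁻¹, ?_, ?_, hne s hsu, hne s' hs'u, hcm s hs1N, hcm s' hs1'N⟩
      · rw [conj_pow, h.z2, mul_one, mul_inv_cancel]
      · intro h1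
        apply h.z1
        have : z = g⁻¹ * (g * z * g⁻¹) * g := by group
        rw [this, h1]; group

theorem inv_graph_false [Finite G] (h : IGHyp p P z) : False := by
  classical
  let V := {s : G // s ^ 2 = 1 ∧ s ≠ 1}
  let _ : Fintype V := Fintype.ofFinite V
  have : Nonempty V := ⟨⟨z, h.z2, h.z1⟩⟩
  let Γ : SimpleGraph V :=
    { Adj := fun a b => a ≠ b ∧ a.1 * b.1 = b.1 * a.1
      symm := ⟨fun a b hab => ⟨hab.1.symm, hab.2.symm⟩⟩
      loopless := ⟨fun a ha => ha.1 rfl⟩ }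
  have hfr : Friend.Friendship Γ := by
    intro v w hvw
    have hvw' : v.1 ≠ w.1 := fun e => hvw (Subtype.ext e)
    obtain ⟨r, hr2, hr1, hrv, hrw, hcv, hcw⟩ := ig_exists h v.2.1 v.2.2 w.2.1 w.2.2 hvw'
    have huniq : ∀ y : ↥(Γ.commonNeighbors v w), y.1.1 = r := by
      rintro ⟨⟨y, hy2, hy1⟩, hy⟩
      rw [SimpleGraph.mem_commonNeighbors] at hy
      obtain ⟨⟨hvy, hvyc⟩, ⟨hwy, hwyc⟩⟩ := hy
      have hyv : y ≠ v.1 := fun e => hvy (Subtype.ext e.symm)
      have hyw : y ≠ w.1 := fun e => hwy (Subtype.ext e.symm)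
      exact ig_unique h v.2.1 v.2.2 w.2.1 w.2.2 hr2 hr1 hy2 hy1 hvw' hrv hrw hyv hyw
        hcv hcw hvyc.symm hwyc.symm
    have hmem : (⟨r, hr2, hr1⟩ : V) ∈ Γ.commonNeighbors v w := by
      rw [SimpleGraph.mem_commonNeighbors]
      exact ⟨⟨fun e => hrv (by rw [e]), hcv.symm⟩, ⟨fun e => hrw (by rw [e]), hcw.symm⟩⟩
    rw [Fintype.card_eq_nat_card, Nat.card_eq_one_iff_unique]
    refine ⟨⟨fun a b => ?_⟩, ⟨⟨_, hmem⟩⟩⟩
    exact Subtype.ext (Subtype.ext ((huniq a).trans (huniq b).symm))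
  obtain ⟨v₀, hv₀⟩ := Friend.friendship_theorem hfr
  have hall : ∀ s : G, s ^ 2 = 1 → s ≠ 1 → v₀.1 * s = s * v₀.1 := by
    intro s hs2 hs1
    by_cases e : v₀ = ⟨s, hs2, hs1⟩
    · rw [e]
    · exact (hv₀ ⟨s, hs2, hs1⟩ e).2
  have hall2 : ∀ s s' : G, s ^ 2 = 1 → s ≠ 1 → s' ^ 2 = 1 → s' ≠ 1 → s * s' = s' * s := by
    intro s s' hs2 hs1 hs'2 hs'1
    obtain ⟨g, hg⟩ := h.conj s hs2 hs1
    obtain ⟨g₀, hg₀⟩ := h.conj v₀.1 v₀.2.1 v₀.2.2
    have hs : s = (g * g₀⁻¹) * v₀.1 * (g * g₀⁻¹)⁻¹ := by rw [hg, hg₀]; group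
    have hk2 : ((g * g₀⁻¹)⁻¹ * s' * (g * g₀⁻¹)) ^ 2 = 1 := by
      have := conj_pow (a := (g * g₀⁻¹)⁻¹) (b := s') (i := 2)
      rw [inv_inv] at this
      rw [this, hs'2]; group
    have hk1 : (g * g₀⁻¹)⁻¹ * s' * (g * g₀⁻¹) ≠ 1 := by
      intro h1
      apply hs'1
      have : s' = (g * g₀⁻¹) * ((g * g₀⁻¹)⁻¹ * s' * (g * g₀⁻¹)) * (g * g₀⁻¹)⁻¹ := by group
      rw [this, h1]; group
    have h1 := hall _ hk2 hk1
    rw [hs]
    calc g * g₀⁻¹ * v₀.1 * (g * g₀⁻¹)⁻¹ * s'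
        = (g * g₀⁻¹) * (v₀.1 * ((g * g₀⁻¹)⁻¹ * s' * (g * g₀⁻¹))) * (g * g₀⁻¹)⁻¹ := by group
      _ = (g * g₀⁻¹) * (((g * g₀⁻¹)⁻¹ * s' * (g * g₀⁻¹)) * v₀.1) * (g * g₀⁻¹)⁻¹ := by rw [h1]
      _ = s' * (g * g₀⁻¹ * v₀.1 * (g * g₀⁻¹)⁻¹) := by group
  obtain ⟨t, ht2, htN, u₀, hu₀, htu₀⟩ := h.t
  have ht1 : t ≠ 1 := by
    rintro rfl
    simp at htu₀
  have htz : t ≠ z := by
    rintro rfl
    exact htu₀ ((h.zN u₀ (Subgroup.le_normalizer hu₀)).symm)
  have hinv := ig_inv h htN ht2 ht1 htz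
  obtain ⟨u, hu, hu1⟩ := h.ne1
  have hti := inv_eq_self_of_sq ht2
  have ht₁2 : (u * t * u⁻¹) ^ 2 = 1 := by rw [conj_pow, ht2, mul_one, mul_inv_cancel]
  have ht₁1 : u * t * u⁻¹ ≠ 1 := by
    intro h1; apply ht1
    have : t = u⁻¹ * (u * t * u⁻¹) * u := by group
    rw [this, h1]; group
  have hcomm := hall2 t (u * t * u⁻¹) ht2 ht1 ht₁2 ht₁1
  have h1 := hinv u⁻¹ (inv_mem hu)
  rw [inv_inv, hti] at h1
  have h2 := hinv u hu
  rw [hti] at h2
  have h3 : u⁻¹ * u⁻¹ = u * u := by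
    calc u⁻¹ * u⁻¹ = (t * u * t) * u⁻¹ := by rw [h2]
      _ = t * (u * t * u⁻¹) := by simp only [mul_assoc]
      _ = (u * t * u⁻¹) * t := hcomm
      _ = u * (t * u⁻¹ * t) := by simp only [mul_assoc]
      _ = u * u := by rw [h1]
  have h4 : u ^ 4 = 1 := by
    calc u ^ 4 = (u * u) * (u * u) := by
          simp only [pow_succ, pow_zero, one_mul, mul_assoc]
      _ = (u⁻¹ * u⁻¹) * (u * u) := by rw [h3]
      _ = 1 := by group
  have h5 : u ^ Nat.card (P : Subgroup G) = 1 :=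
    orderOf_dvd_iff_pow_eq_one.mp (Subgroup.orderOf_dvd_natCard _ hu)
  obtain ⟨k, hk⟩ := IsPGroup.iff_card.mp P.isPGroup'
  have hcop : Nat.Coprime 4 (Nat.card (P : Subgroup G)) := by
    rw [hk]
    apply Nat.Coprime.pow_right
    exact Nat.Coprime.pow_left 2 (ig_coprime_two h.hp2)
  have h6 := pow_gcd_eq_one.mpr ⟨h4, h5⟩
  rw [hcop.gcd_eq_one, pow_one] at h6
  exact hu1 h6

end InvGraph

end Cfsg.Agent.Lib.helper72
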