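/-
Cyclic Sylow p-subgroup with abelian p'-subgroups: local analysis of a minimal configuration
(`Ctx`): transfer, Sylow counting, centralizer of the Sylow subgroup.
-/
import Mathlib
import Cfsg.Agent.Lib.helper72.InvGraph
import Cfsg.Agent.Lib.helper72.CyclicSylowAction
import Cfsg.Agent.Lib.helper72.Camina
import Cfsg.Agent.Lib.helper2.Transfer
import Cfsg.Agent.Lib.helper40.PNil

set_option autoImplicit false

namespace Cfsg.Agent.Lib.helper72

open Subgroup

section CycStruct

variable {G : Type*} [Group G] [Finite G] {p : ℕ} [Fact p.Prime]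

lemma cs_comm (P : Sylow p G) (hcyc : IsCyclic (P : Subgroup G)) :
    ∀ a ∈ (P : Subgroup G), ∀ b ∈ (P : Subgroup G), a * b = b * a := by
  intro a ha b hb
  haveI := hcyc
  have := (IsCyclic.isMulCommutative (α := (P : Subgroup G))).is_comm.comm ⟨a, ha⟩ ⟨b, hb⟩
  exact congrArg Subtype.val this

/-- `p`-elements of the normalizer of a Sylow `p`-subgroup lie in it. -/
lemma cs_B2 (P : Sylow p G) {n : G} (hn : n ∈ Subgroup.normalizer (P : Set G))
    (hpow : n ^ Nat.card (P : Subgroup G) = 1) : n ∈ (P : Subgroup G) := by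
  have hp := (Fact.out : p.Prime)
  obtain ⟨k, hk⟩ := IsPGroup.iff_card.mp P.isPGroup'
  have hord : orderOf n ∣ p ^ k := by rw [← hk]; exact orderOf_dvd_of_pow_eq_one hpow
  obtain ⟨j, -, hj⟩ := (Nat.dvd_prime_pow hp).mp hord
  have hZ : IsPGroup p (Subgroup.zpowers n) :=
    IsPGroup.of_card (n := j) (by rw [Nat.card_zpowers, hj])
  have hsup : IsPGroup p (Subgroup.zpowers n ⊔ (P : Subgroup G) : Subgroup G) :=
    hZ.to_sup_of_normal_right' P.isPGroup' ((Subgroup.zpowers_le).mpr hn)
  have h1 := P.is_maximal' hsup le_sup_right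
  have h2 : n ∈ Subgroup.zpowers n ⊔ (P : Subgroup G) :=
    (le_sup_left : Subgroup.zpowers n ≤ _) (Subgroup.mem_zpowers n)
  rwa [h1] at h2

lemma cs_B4 (P : Sylow p G) (hcyc : IsCyclic (P : Subgroup G)) {n x : G}
    (hn : n ∈ Subgroup.normalizer (P : Set G)) (hx : x ∈ (P : Subgroup G)) (hx1 : x ≠ 1)
    (hnx : n * x = x * n) : ∀ u ∈ (P : Subgroup G), n * u = u * n := by
  intro u hu
  have hp := (Fact.out : p.Prime)
  have hidx : ((P : Subgroup G).index).Coprime p :=
    ((Nat.Prime.coprime_iff_not_dvd hp).mpr P.not_dvd_index).symm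
  obtain ⟨k, hk⟩ := IsPGroup.iff_card.mp P.isPGroup'
  have hcomm := cs_comm P hcyc
  have h1 : n ^ Nat.card (P : Subgroup G) ∈ Subgroup.centralizer ({u} : Set G) := by
    have hmN : n ^ Nat.card (P : Subgroup G) ∈ Subgroup.normalizer (P : Set G) := pow_mem hn _
    have hmord : orderOf (n ^ Nat.card (P : Subgroup G)) ∣ (P : Subgroup G).index := by
      apply orderOf_dvd_of_pow_eq_one
      rw [← pow_mul, Subgroup.card_mul_index, pow_card_eq_one']
    have hcop : (Nat.card (Subgroup.zpowers (n ^ Nat.card (P : Subgroup G)))).Coprime p := by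
      rw [Nat.card_zpowers]; exact Nat.Coprime.coprime_dvd_left hmord hidx
    have hmx : Commute (n ^ Nat.card (P : Subgroup G)) x :=
      (show Commute n x from hnx).pow_left _
    have hxA : ∀ a ∈ Subgroup.zpowers (n ^ Nat.card (P : Subgroup G)), a * x = x * a := by
      intro a ha
      obtain ⟨i, rfl⟩ := Subgroup.mem_zpowers_iff.mp ha
      exact (hmx.zpow_left i).eq
    have h3 := commute_of_commute_one P.isPGroup' hcyc ((Subgroup.zpowers_le).mpr hmN) hcop hx hx1
      hxA _ (Subgroup.mem_zpowers _) u hu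
    rw [Subgroup.mem_centralizer_iff]
    intro y hy
    rw [Set.mem_singleton_iff] at hy
    rw [hy]; exact h3.symm
  have h2 : n ^ (P : Subgroup G).index ∈ Subgroup.centralizer ({u} : Set G) := by
    have hmem : n ^ (P : Subgroup G).index ∈ (P : Subgroup G) := by
      apply cs_B2 P (pow_mem hn _)
      rw [← pow_mul, mul_comm, Subgroup.card_mul_index, pow_card_eq_one']
    rw [Subgroup.mem_centralizer_iff]
    intro y hy
    rw [Set.mem_singleton_iff] at hy
    rw [hy]; exact hcomm u hu _ hmem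
  have hcop2 : Nat.Coprime (Nat.card (P : Subgroup G)) (P : Subgroup G).index := by
    rw [hk]
    exact Nat.Coprime.pow_left k ((Nat.Prime.coprime_iff_not_dvd hp).mpr P.not_dvd_index)
  have h3 := cam_mem_of_coprime (Subgroup.centralizer ({u} : Set G)) hcop2 h1 h2
  rw [Subgroup.mem_centralizer_iff] at h3
  exact (h3 u (Set.mem_singleton u)).symm

lemma cs_pow_p_mem (P : Sylow p G) (hcyc : IsCyclic (P : Subgroup G)) {x v : G}
    (hx : x ∈ (P : Subgroup G)) (hox : orderOf x = p) (hv : v ∈ (P : Subgroup G))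
    (hvp : v ^ p = 1) : v ∈ Subgroup.zpowers x := by
  classical
  have hp := (Fact.out : p.Prime)
  by_contra hne
  haveI : Fintype (P : Subgroup G) := Fintype.ofFinite _
  haveI := hcyc
  have hle := IsCyclic.card_pow_eq_one_le (α := (P : Subgroup G)) hp.pos
  have hox' : orderOf (⟨x, hx⟩ : (P : Subgroup G)) = p :=
    (Subgroup.orderOf_mk x hx).trans hox
  have hxp : (⟨x, hx⟩ : (P : Subgroup G)) ^ p = 1 := by
    have h0 := pow_orderOf_eq_one (⟨x, hx⟩ : (P : Subgroup G))
    rwa [hox'] at h0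
  have hT : insert (⟨v, hv⟩ : (P : Subgroup G))
      ((Finset.range p).image (fun i => (⟨x, hx⟩ : (P : Subgroup G)) ^ i)) ⊆
      Finset.univ.filter (fun a : (P : Subgroup G) => a ^ p = 1) := by
    intro a ha
    rw [Finset.mem_filter]
    refine ⟨Finset.mem_univ _, ?_⟩
    rcases Finset.mem_insert.mp ha with rfl | ha
    · exact Subtype.ext hvp
    · obtain ⟨i, -, rfl⟩ := Finset.mem_image.mp ha
      rw [← pow_mul, mul_comm, pow_mul, hxp, one_pow]
  have hcard : (insert (⟨v, hv⟩ : (P : Subgroup G))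
      ((Finset.range p).image (fun i => (⟨x, hx⟩ : (P : Subgroup G)) ^ i))).card = p + 1 := by
    rw [Finset.card_insert_of_notMem, Finset.card_image_of_injOn, Finset.card_range]
    · intro i hi j hj hij
      have hi' : i < orderOf (⟨x, hx⟩ : (P : Subgroup G)) := by
        rw [hox']; exact Finset.mem_range.mp hi
      have hj' : j < orderOf (⟨x, hx⟩ : (P : Subgroup G)) := by
        rw [hox']; exact Finset.mem_range.mp hj
      exact pow_injOn_Iio_orderOf hi' hj' hij
    · intro hmem
      obtain ⟨i, -, hi⟩ := Finset.mem_image.mp hmem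
      apply hne
      have h1 : v = x ^ i := by
        have := congrArg Subtype.val hi
        simpa using this.symm
      rw [h1]; exact pow_mem (Subgroup.mem_zpowers x) i
  have := (Finset.card_le_card hT).trans hle
  omega

/-- The standing hypotheses of the minimal configuration. -/
structure Ctx (p : ℕ) (P : Sylow p G) : Prop where
  cyc : IsCyclic (P : Subgroup G)
  hab : ∀ H : Subgroup G, ¬ p ∣ Nat.card H → ∀ a ∈ H, ∀ b ∈ H, a * b = b * a
  h1 : ¬ Subgroup.normalizer (P : Set G) ≤ Subgroup.centralizer (P : Set G)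
  h4 : ∀ H : Subgroup G, H.Normal → ¬ p ∣ H.index → H = ⊤
  hM : ∀ H : Subgroup G, Subgroup.normalizer (P : Set G) ≤ H → H ≠ ⊤ →
    H ≤ Subgroup.normalizer (P : Set G)

lemma cs_C1 {P : Sylow p G} (h : Ctx p P) {x : G} (hx : x ∈ (P : Subgroup G))
    (hox : orderOf x = p) {g : G} (hg : g * x * g⁻¹ ∈ Subgroup.zpowers x) :
    g ∈ Subgroup.normalizer (P : Set G) := by
  have hp := (Fact.out : p.Prime)
  have hcomm := cs_comm P h.cyc
  have hx1 : x ≠ 1 := by
    rintro rfl
    rw [orderOf_one] at hox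
    exact hp.one_lt.ne hox
  have hnorm : ∀ a : G, a * x * a⁻¹ ∈ Subgroup.zpowers x →
      a ∈ Subgroup.normalizer ((Subgroup.zpowers x : Subgroup G) : Set G) := by
    intro a ha
    apply mem_normalizer_of_conj_mem
    intro y hy
    obtain ⟨k, rfl⟩ := Subgroup.mem_zpowers_iff.mp hy
    rw [← conj_zpow]
    exact zpow_mem ha k
  have hNle : Subgroup.normalizer (P : Set G) ≤
      Subgroup.normalizer ((Subgroup.zpowers x : Subgroup G) : Set G) := by
    intro n hn
    apply hnorm
    have hnx : n * x * n⁻¹ ∈ (P : Subgroup G) := (Subgroup.mem_normalizer_iff.mp hn x).mp hx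
    apply cs_pow_p_mem P h.cyc hx hox hnx
    rw [conj_pow, ← hox, pow_orderOf_eq_one, mul_one, mul_inv_cancel]
  have hne : Subgroup.normalizer ((Subgroup.zpowers x : Subgroup G) : Set G) ≠ ⊤ := by
    intro htop
    haveI hXn : (Subgroup.zpowers x).Normal := Subgroup.normalizer_eq_top_iff.mp htop
    have hCn : (Subgroup.centralizer ((Subgroup.zpowers x : Subgroup G) : Set G)).Normal :=
      inferInstance
    have hPC : (P : Subgroup G) ≤
        Subgroup.centralizer ((Subgroup.zpowers x : Subgroup G) : Set G) := by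
      intro u hu
      rw [Subgroup.mem_centralizer_iff]
      intro y hy
      have hyP : y ∈ (P : Subgroup G) := (Subgroup.zpowers_le.mpr hx) hy
      exact hcomm y hyP u hu
    have hidx : ¬ p ∣ (Subgroup.centralizer ((Subgroup.zpowers x : Subgroup G) : Set G)).index := by
      intro hdvd
      exact P.not_dvd_index (hdvd.trans (Subgroup.index_dvd_of_le hPC))
    have htop2 := h.h4 _ hCn hidx
    apply h.h1
    intro n hn
    have hnx : n * x = x * n := by
      have h5 : n ∈ Subgroup.centralizer ((Subgroup.zpowers x : Subgroup G) : Set G) := by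
        rw [htop2]; trivial
      rw [Subgroup.mem_centralizer_iff] at h5
      exact (h5 x (Subgroup.mem_zpowers x)).symm
    rw [Subgroup.mem_centralizer_iff]
    intro u hu
    exact (cs_B4 P h.cyc hn hx hx1 hnx u hu).symm
  exact h.hM _ hNle hne (hnorm g hg)

lemma cs_C2 {P : Sylow p G} (h : Ctx p P) {u : G} (hu : u ∈ (P : Subgroup G)) (hu1 : u ≠ 1)
    {g : G} (hg : g * u = u * g) : g ∈ Subgroup.normalizer (P : Set G) := by
  have hp := (Fact.out : p.Prime)
  obtain ⟨k, hk⟩ := IsPGroup.iff_card.mp P.isPGroup'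
  have hord : orderOf u ∣ p ^ k := by rw [← hk]; exact Subgroup.orderOf_dvd_natCard _ hu
  obtain ⟨j, -, hj⟩ := (Nat.dvd_prime_pow hp).mp hord
  have hj0 : j ≠ 0 := by
    rintro rfl
    rw [pow_zero, orderOf_eq_one_iff] at hj
    exact hu1 hj
  have hpd : p ∣ orderOf u := by rw [hj]; exact dvd_pow_self p hj0
  have hox : orderOf (u ^ (orderOf u / p)) = p :=
    orderOf_pow_orderOf_div (orderOf_pos u).ne' hpd
  apply cs_C1 h (pow_mem hu _) hox
  have hc : Commute g (u ^ (orderOf u / p)) := (show Commute g u from hg).pow_right _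
  rw [hc.eq, mul_inv_cancel_right]
  exact Subgroup.mem_zpowers _

open scoped IsMulCommutative in
lemma cs_transfer {P : Sylow p G} (h : Ctx p P) {q : ℕ} [Fact q.Prime] (hqp : q ≠ p)
    (Q : Sylow q G) {u : G} (hu : u ∈ (Q : Subgroup G)) (hu1 : u ≠ 1) :
    ∃ n ∈ Subgroup.normalizer (Q : Set G), n * u * n⁻¹ ≠ u := by
  by_contra hcon
  push Not at hcon
  have hp := (Fact.out : p.Prime)
  have hq := (Fact.out : q.Prime)
  obtain ⟨k, hk⟩ := IsPGroup.iff_card.mp Q.isPGroup'
  have hpQ : ¬ p ∣ Nat.card (Q : Subgroup G) := by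
    rw [hk]; intro hd
    exact hqp ((Nat.prime_dvd_prime_iff_eq hp hq).mp (hp.dvd_of_dvd_pow hd)).symm
  have hQab := h.hab (Q : Subgroup G) hpQ
  haveI : IsMulCommutative (Q : Subgroup G) :=
    ⟨⟨fun a b => Subtype.ext (hQab a.1 a.2 b.1 b.2)⟩⟩
  have key : ∀ (k : ℕ) (g₀ : G), g₀⁻¹ * u ^ k * g₀ ∈ (Q : Subgroup G) →
      g₀⁻¹ * u ^ k * g₀ = u ^ k := by
    intro k g₀ hmem
    obtain ⟨n, hn, e⟩ := Q.conj_eq_normalizer_conj_of_mem (u ^ k) g₀ (pow_mem hu k) hmem
    rw [e]
    have h1 := hcon n⁻¹ (inv_mem hn)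
    rw [inv_inv] at h1
    have h2 := conj_pow (a := n⁻¹) (b := u) (i := k)
    rw [inv_inv] at h2
    rw [← h2, h1]
  have htr := MonoidHom.transfer_eq_pow (MonoidHom.id (Q : Subgroup G)) u key
  have hφu : MonoidHom.transfer (MonoidHom.id (Q : Subgroup G)) u ≠ 1 := by
    intro h1
    rw [htr] at h1
    have h2 : u ^ (Q : Subgroup G).index = 1 := by
      have := congrArg Subtype.val h1
      simpa using this
    have h3 : u ^ Nat.card (Q : Subgroup G) = 1 :=
      orderOf_dvd_iff_pow_eq_one.mp (Subgroup.orderOf_dvd_natCard _ hu)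
    have hcop : Nat.Coprime (Q : Subgroup G).index (Nat.card (Q : Subgroup G)) := by
      rw [hk]
      exact Nat.Coprime.pow_right k
        ((Nat.Prime.coprime_iff_not_dvd hq).mpr Q.not_dvd_index).symm
    have h4 := pow_gcd_eq_one.mpr ⟨h2, h3⟩
    rw [hcop.gcd_eq_one, pow_one] at h4
    exact hu1 h4
  have hker : ¬ p ∣ (MonoidHom.transfer (MonoidHom.id (Q : Subgroup G))).ker.index := by
    rw [Subgroup.index_ker]
    intro hd
    have h1 : Nat.card (MonoidHom.transfer (MonoidHom.id (Q : Subgroup G))).range ∣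
        Nat.card (Q : Subgroup G) := Subgroup.card_subgroup_dvd_card _
    exact hpQ (hd.trans h1)
  have htop := h.h4 _ (MonoidHom.normal_ker _) hker
  apply hφu
  have h5 : u ∈ (MonoidHom.transfer (MonoidHom.id (Q : Subgroup G))).ker := by
    rw [htop]; trivial
  exact MonoidHom.mem_ker.mp h5

end CycStruct

end Cfsg.Agent.Lib.helper72
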