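/-
Cyclic Sylow p-subgroup with abelian p'-subgroups: Sylow counting in the minimal configuration.
-/
import Mathlib
import Cfsg.Agent.Lib.helper72.CycStructA

set_option autoImplicit false

namespace Cfsg.Agent.Lib.helper72

open Subgroup

section CycStructB

variable {G : Type*} [Group G] [Finite G] {p : ℕ} [Fact p.Prime]

lemma cs_fixed {P : Sylow p G} (h : Ctx p P) {q : ℕ} [Fact q.Prime] (hqp : q ≠ p)
    (Q : Sylow q G) :
    ∃ R : Subgroup G, IsPGroup p R ∧ R ≤ Subgroup.normalizer (Q : Set G) ∧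
      ∀ u ∈ (Q : Subgroup G), (∀ r ∈ R, r * u = u * r) → u = 1 := by
  have hp := (Fact.out : p.Prime)
  have hq := (Fact.out : q.Prime)
  obtain ⟨R₀⟩ : Nonempty (Sylow p (Subgroup.normalizer (Q : Set G))) := inferInstance
  refine ⟨(R₀ : Subgroup (Subgroup.normalizer (Q : Set G))).map
    (Subgroup.normalizer (Q : Set G)).subtype, ?_, ?_, ?_⟩
  · exact R₀.isPGroup'.map _
  · exact Subgroup.map_subtype_le _
  · intro u hu hfix
    by_contra hu1
    obtain ⟨n, hn, hne⟩ := cs_transfer h hqp Q hu hu1
    obtain ⟨k, hk⟩ := IsPGroup.iff_card.mp Q.isPGroup'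
    obtain ⟨kP, hkP⟩ := IsPGroup.iff_card.mp P.isPGroup'
    have hidx : ((P : Subgroup G).index).Coprime p :=
      ((Nat.Prime.coprime_iff_not_dvd hp).mpr P.not_dvd_index).symm
    -- p'-elements of the normalizer centralize Q
    have hp' : ∀ m ∈ Subgroup.normalizer (Q : Set G), (orderOf m).Coprime p →
        ∀ t ∈ (Q : Subgroup G), m * t = t * m := by
      intro m hm hcop t ht
      have hcard := card_sup_dvd_of_le_normalizer (T := (Q : Subgroup G))
        (A := Subgroup.zpowers m) ((Subgroup.zpowers_le).mpr hm)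
      rw [Nat.card_zpowers, hk] at hcard
      have hnd : ¬ p ∣ Nat.card ↥((Q : Subgroup G) ⊔ Subgroup.zpowers m) := by
        intro hd
        rcases (hp.dvd_mul).mp (hd.trans hcard) with h1 | h1
        · exact hqp ((Nat.prime_dvd_prime_iff_eq hp hq).mp (hp.dvd_of_dvd_pow h1)).symm
        · exact (Nat.Prime.coprime_iff_not_dvd hp).mp hcop.symm h1
      exact h.hab _ hnd m ((le_sup_right : Subgroup.zpowers m ≤ _) (Subgroup.mem_zpowers m)) t
        ((le_sup_left : (Q : Subgroup G) ≤ _) ht)
    have hker : (Q : Subgroup G).normalizerMonoidHom.ker =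
        (Subgroup.centralizer ((Q : Subgroup G) : Set G)).subgroupOf
          (Subgroup.normalizer (Q : Set G)) := Subgroup.normalizerMonoidHom_ker _
    have hR₀S : (R₀ : Subgroup (Subgroup.normalizer (Q : Set G))) ≤
        (Subgroup.centralizer ({u} : Set G)).subgroupOf (Subgroup.normalizer (Q : Set G)) := by
      intro r hr
      rw [Subgroup.mem_subgroupOf, Subgroup.mem_centralizer_iff]
      intro y hy
      rw [Set.mem_singleton_iff] at hy
      rw [hy]
      exact (hfix r.1 (Subgroup.mem_map.mpr ⟨r, hr, rfl⟩)).symm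
    have h1 : ¬ p ∣ ((Subgroup.centralizer ({u} : Set G)).subgroupOf
        (Subgroup.normalizer (Q : Set G))).index :=
      fun hd => R₀.not_dvd_index (hd.trans (Subgroup.index_dvd_of_le hR₀S))
    have hkerS : (Q : Subgroup G).normalizerMonoidHom.ker ≤
        (Subgroup.centralizer ({u} : Set G)).subgroupOf (Subgroup.normalizer (Q : Set G)) := by
      rw [hker]
      intro m hm
      rw [Subgroup.mem_subgroupOf] at hm ⊢
      exact Subgroup.centralizer_le (Set.singleton_subset_iff.mpr hu) hm
    have hrange : IsPGroup p (Q : Subgroup G).normalizerMonoidHom.range := by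
      rintro ⟨y, m, rfl⟩
      refine ⟨kP, ?_⟩
      apply Subtype.ext
      show ((Q : Subgroup G).normalizerMonoidHom m) ^ (p ^ kP) = 1
      rw [← map_pow, ← MonoidHom.mem_ker, hker, Subgroup.mem_subgroupOf,
        Subgroup.mem_centralizer_iff]
      intro t ht
      have hcop : (orderOf ((m : G) ^ (p ^ kP))).Coprime p := by
        apply Nat.Coprime.coprime_dvd_left _ hidx
        apply orderOf_dvd_of_pow_eq_one
        rw [← hkP, ← pow_mul, Subgroup.card_mul_index, pow_card_eq_one']
      have h3 := hp' ((m : G) ^ (p ^ kP)) (pow_mem m.2 _) hcop t ht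
      rw [Subgroup.coe_pow]
      exact h3.symm
    obtain ⟨j, hj⟩ := IsPGroup.iff_card.mp hrange
    have h2 : ((Subgroup.centralizer ({u} : Set G)).subgroupOf
        (Subgroup.normalizer (Q : Set G))).index ∣ p ^ j := by
      rw [← hj, ← Subgroup.index_ker]; exact Subgroup.index_dvd_of_le hkerS
    obtain ⟨i, -, hi⟩ := (Nat.dvd_prime_pow hp).mp h2
    have hi0 : i = 0 := by
      by_contra hi0
      exact h1 (hi ▸ dvd_pow_self p hi0)
    rw [hi0, pow_zero, Subgroup.index_eq_one] at hi
    have hnS : (⟨n, hn⟩ : Subgroup.normalizer (Q : Set G)) ∈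
        (Subgroup.centralizer ({u} : Set G)).subgroupOf (Subgroup.normalizer (Q : Set G)) := by
      rw [hi]; trivial
    rw [Subgroup.mem_subgroupOf, Subgroup.mem_centralizer_iff] at hnS
    have h4 := hnS u (Set.mem_singleton u)
    apply hne
    show n * u * n⁻¹ = u
    have h5 : u * n = n * u := h4
    rw [← h5, mul_inv_cancel_right]

lemma cs_card_sylow_modEq {P : Sylow p G} (h : Ctx p P) {q : ℕ} [Fact q.Prime] (hqp : q ≠ p)
    (Q : Sylow q G) : Nat.card (Q : Subgroup G) ≡ 1 [MOD p] := by
  obtain ⟨R, hR, hRN, hfix⟩ := cs_fixed h hqp Q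
  letI : MulAction R (Q : Subgroup G) :=
    { smul := fun r a => ⟨r.1 * a.1 * r.1⁻¹,
        (Subgroup.mem_normalizer_iff.mp (hRN r.2) a.1).mp a.2⟩
      one_smul := fun a => by
        apply Subtype.ext
        show (1 : R).1 * a.1 * ((1 : R).1)⁻¹ = a.1
        simp
      mul_smul := fun r s a => by
        apply Subtype.ext
        show (r * s).1 * a.1 * ((r * s).1)⁻¹ = r.1 * (s.1 * a.1 * s.1⁻¹) * r.1⁻¹
        simp [mul_assoc] }
  have hmod := hR.card_modEq_card_fixedPoints (Q : Subgroup G)
  have hfp : Nat.card (MulAction.fixedPoints R (Q : Subgroup G)) = 1 := by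
    rw [Nat.card_eq_one_iff_unique]
    have hone : ∀ a : (Q : Subgroup G), a ∈ MulAction.fixedPoints R (Q : Subgroup G) →
        a = 1 := by
      intro a ha
      apply Subtype.ext
      apply hfix a.1 a.2
      intro r hr
      have h1 := ha ⟨r, hr⟩
      have h2 : r * a.1 * r⁻¹ = a.1 := congrArg Subtype.val h1
      calc r * a.1 = (r * a.1 * r⁻¹) * r := by simp [mul_assoc]
        _ = a.1 * r := by rw [h2]
    refine ⟨⟨?_⟩, ⟨⟨1, ?_⟩⟩⟩
    · rintro ⟨a, ha⟩ ⟨b, hb⟩
      apply Subtype.ext
      show a = b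
      rw [hone a ha, hone b hb]
    · intro r
      apply Subtype.ext
      show r.1 * (1 : G) * r.1⁻¹ = 1
      simp
  rw [hfp] at hmod
  exact hmod

omit [Finite G] [Fact p.Prime] in
lemma modEq_one_of_prime_pow_factors (p m : ℕ) (hm : m ≠ 0)
    (hq : ∀ q : ℕ, q.Prime → q ∣ m → q ^ m.factorization q ≡ 1 [MOD p]) : m ≡ 1 [MOD p] := by
  have h1 : (m : ZMod p) = 1 := by
    conv_lhs => rw [← Nat.factorization_prod_pow_eq_self hm]
    rw [Finsupp.prod, Nat.cast_prod]
    apply Finset.prod_eq_one
    intro q hqs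
    rw [Nat.support_factorization] at hqs
    have hqp : q.Prime := Nat.prime_of_mem_primeFactors hqs
    have hqd : q ∣ m := Nat.dvd_of_mem_primeFactors hqs
    have h2 := (ZMod.natCast_eq_natCast_iff _ _ _).mpr (hq q hqp hqd)
    simpa using h2
  have h3 : ((m : ℕ) : ZMod p) = ((1 : ℕ) : ZMod p) := by simpa using h1
  exact (ZMod.natCast_eq_natCast_iff m 1 p).mp h3

lemma cs_index_modEq {P : Sylow p G} (h : Ctx p P) : (P : Subgroup G).index ≡ 1 [MOD p] := by
  have hp := (Fact.out : p.Prime)
  have hidx0 : (P : Subgroup G).index ≠ 0 := Subgroup.index_ne_zero_of_finite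
  apply modEq_one_of_prime_pow_factors _ _ hidx0
  intro q hq hqd
  haveI : Fact q.Prime := ⟨hq⟩
  have hqp : q ≠ p := by rintro rfl; exact P.not_dvd_index hqd
  obtain ⟨Q⟩ : Nonempty (Sylow q G) := inferInstance
  have hQ := cs_card_sylow_modEq h hqp Q
  rw [Sylow.card_eq_multiplicity] at hQ
  have hfac : (P : Subgroup G).index.factorization q = (Nat.card G).factorization q := by
    obtain ⟨k, hk⟩ := IsPGroup.iff_card.mp P.isPGroup'
    rw [← Subgroup.card_mul_index (P : Subgroup G),
      Nat.factorization_mul Nat.card_pos.ne' hidx0, hk, Nat.Prime.factorization_pow hp]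
    simp [Finsupp.single_apply, hqp.symm]
  rw [hfac]; exact hQ

lemma cs_relIndex_modEq {P : Sylow p G} (h : Ctx p P) :
    (P : Subgroup G).relIndex (Subgroup.normalizer (P : Set G)) ≡ 1 [MOD p] := by
  have h1 := cs_index_modEq h
  have h2 : (Subgroup.normalizer (P : Set G)).index ≡ 1 [MOD p] := by
    rw [← Sylow.card_eq_index_normalizer]; exact card_sylow_modEq_one p G
  have h3 := Subgroup.relIndex_mul_index
    (Subgroup.le_normalizer : (P : Subgroup G) ≤ Subgroup.normalizer (P : Set G))
  have h4 : (P : Subgroup G).relIndex (Subgroup.normalizer (P : Set G)) * 1 ≡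
      (P : Subgroup G).index [MOD p] := by
    rw [← h3]; exact Nat.ModEq.mul_left _ h2.symm
  rw [mul_one] at h4
  exact h4.trans h1

lemma cs_relIndex_dvd_totient (P : Sylow p G) (hcyc : IsCyclic (P : Subgroup G))
    (A : Subgroup G) (hA : A ≤ Subgroup.normalizer (P : Set G)) :
    (Subgroup.centralizer ((P : Subgroup G) : Set G)).relIndex A ∣
      Nat.totient (Nat.card (P : Subgroup G)) := by
  have hker : ((P : Subgroup G).normalizerMonoidHom.comp (Subgroup.inclusion hA)).ker =
      (Subgroup.centralizer ((P : Subgroup G) : Set G)).subgroupOf A := by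
    ext a
    rw [MonoidHom.mem_ker, MonoidHom.comp_apply, ← MonoidHom.mem_ker,
      Subgroup.normalizerMonoidHom_ker, Subgroup.mem_subgroupOf, Subgroup.mem_subgroupOf]
    rfl
  have h1 : ((P : Subgroup G).normalizerMonoidHom.comp (Subgroup.inclusion hA)).ker.index ∣
      Nat.card (MulAut (P : Subgroup G)) := by
    rw [Subgroup.index_ker]; exact Subgroup.card_subgroup_dvd_card _
  rw [hker] at h1
  haveI := hcyc
  rw [IsCyclic.card_mulAut] at h1
  exact h1

omit [Finite G] [Fact p.Prime] in
lemma cs_dvd_pred {d k : ℕ} (hp : p.Prime) (hd : d ∣ Nat.totient (p ^ k)) (hcop : d.Coprime p) :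
    d ∣ p - 1 := by
  rcases Nat.eq_zero_or_pos k with rfl | hk
  · rw [pow_zero, Nat.totient_one] at hd
    rw [Nat.dvd_one.mp hd]; exact one_dvd _
  · rw [Nat.totient_prime_pow hp hk] at hd
    exact (Nat.Coprime.pow_right (k - 1) hcop).dvd_of_dvd_mul_left hd

lemma cs_P_le_C (P : Sylow p G) (hcyc : IsCyclic (P : Subgroup G)) :
    (P : Subgroup G) ≤ Subgroup.centralizer ((P : Subgroup G) : Set G) := by
  intro u hu
  rw [Subgroup.mem_centralizer_iff]
  intro y hy
  exact cs_comm P hcyc y hy u hu

lemma cs_exists_z {P : Sylow p G} (h : Ctx p P) :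
    ∃ z ∈ Subgroup.centralizer ((P : Subgroup G) : Set G),
      ∃ q : ℕ, q.Prime ∧ q ≠ p ∧ orderOf z = q := by
  have hp := (Fact.out : p.Prime)
  have hPC := cs_P_le_C P h.cyc
  obtain ⟨k, hk⟩ := IsPGroup.iff_card.mp P.isPGroup'
  by_cases hrel : (P : Subgroup G).relIndex (Subgroup.centralizer ((P : Subgroup G) : Set G)) = 1
  · exfalso
    have hCP : Subgroup.centralizer ((P : Subgroup G) : Set G) ≤ (P : Subgroup G) :=
      Subgroup.relIndex_eq_one.mp hrel
    have hCeq : Subgroup.centralizer ((P : Subgroup G) : Set G) = (P : Subgroup G) :=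
      le_antisymm hCP hPC
    have h1 := cs_relIndex_dvd_totient P h.cyc (Subgroup.normalizer (P : Set G)) le_rfl
    rw [hCeq, hk] at h1
    have hcop : ((P : Subgroup G).relIndex (Subgroup.normalizer (P : Set G))).Coprime p := by
      have h0 : (P : Subgroup G).relIndex (Subgroup.normalizer (P : Set G)) ∣
          (P : Subgroup G).index := Subgroup.relIndex_dvd_index_of_le Subgroup.le_normalizer
      exact Nat.Coprime.coprime_dvd_left h0
        ((Nat.Prime.coprime_iff_not_dvd hp).mpr P.not_dvd_index).symm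
    have h2 := cs_dvd_pred hp h1 hcop
    have h3 := cs_relIndex_modEq h
    have hd : (P : Subgroup G).relIndex (Subgroup.normalizer (P : Set G)) = 1 := by
      have hpos : 0 < p - 1 := Nat.sub_pos_of_lt hp.one_lt
      have hle := Nat.le_of_dvd hpos h2
      have hlt : (P : Subgroup G).relIndex (Subgroup.normalizer (P : Set G)) < p := by omega
      exact Nat.ModEq.eq_of_lt_of_lt h3 hlt hp.one_lt
    apply h.h1
    have h5 : Subgroup.normalizer (P : Set G) ≤ (P : Subgroup G) := Subgroup.relIndex_eq_one.mp hd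
    exact h5.trans hPC
  · obtain ⟨q, hq, hqd⟩ := Nat.exists_prime_and_dvd hrel
    have hqp : q ≠ p := by
      rintro rfl
      exact P.not_dvd_index (hqd.trans (Subgroup.relIndex_dvd_index_of_le hPC))
    have hqC : q ∣ Nat.card (Subgroup.centralizer ((P : Subgroup G) : Set G)) :=
      hqd.trans (Subgroup.relIndex_dvd_card _ _)
    haveI : Fact q.Prime := ⟨hq⟩
    obtain ⟨c, hc⟩ := exists_prime_orderOf_dvd_card' q hqC
    exact ⟨c.1, c.2, q, hq, hqp, by rw [← hc]; exact Subgroup.orderOf_coe c⟩

end CycStructB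

end Cfsg.Agent.Lib.helper72
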