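/-
Cyclic Sylow p-subgroup with abelian p'-subgroups: the centralizer of the Sylow subgroup in the
minimal configuration (`Ctx`), reduction to `p = 3`, `q = 2`, and the final contradiction.
-/
import Mathlib
import Cfsg.Agent.Lib.helper72.CycStructB

set_option autoImplicit false

namespace Cfsg.Agent.Lib.helper72

open Subgroup

section CycStructC

variable {G : Type*} [Group G] [Finite G] {p : ℕ} [Fact p.Prime]

/-- `p`-elements of the normalizer of a Sylow `p`-subgroup lie in it (power form). -/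
lemma cs_B2' (P : Sylow p G) {n : G} (hn : n ∈ Subgroup.normalizer (P : Set G))
    {j : ℕ} (hpow : n ^ (p ^ j) = 1) : n ∈ (P : Subgroup G) := by
  have hp := (Fact.out : p.Prime)
  have hord : orderOf n ∣ p ^ j := orderOf_dvd_of_pow_eq_one hpow
  obtain ⟨i, -, hi⟩ := (Nat.dvd_prime_pow hp).mp hord
  have hZ : IsPGroup p (Subgroup.zpowers n) :=
    IsPGroup.of_card (n := i) (by rw [Nat.card_zpowers, hi])
  have hsup : IsPGroup p (Subgroup.zpowers n ⊔ (P : Subgroup G) : Subgroup G) :=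
    hZ.to_sup_of_normal_right' P.isPGroup' ((Subgroup.zpowers_le).mpr hn)
  have h1 := P.is_maximal' hsup le_sup_right
  have h2 : n ∈ Subgroup.zpowers n ⊔ (P : Subgroup G) :=
    (le_sup_left : Subgroup.zpowers n ≤ _) (Subgroup.mem_zpowers n)
  rwa [h1] at h2

/-- In the minimal configuration, `p'`-elements of `C_G(P)` are central in `N_G(P)`. -/
lemma cs_cen {P : Sylow p G} (h : Ctx p P) {l : G}
    (hl : l ∈ Subgroup.centralizer ((P : Subgroup G) : Set G)) (hcop : (orderOf l).Coprime p)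
    {n : G} (hn : n ∈ Subgroup.normalizer (P : Set G)) : n * l = l * n := by
  have hp := (Fact.out : p.Prime)
  have hPC := cs_P_le_C P h.cyc
  -- Burnside in C
  have hB : Subgroup.normalizer ((P.subtype hPC : Sylow p
        (Subgroup.centralizer ((P : Subgroup G) : Set G))) : Set
        (Subgroup.centralizer ((P : Subgroup G) : Set G))) ≤
      Subgroup.centralizer ((P.subtype hPC : Sylow p
        (Subgroup.centralizer ((P : Subgroup G) : Set G))) : Set
        (Subgroup.centralizer ((P : Subgroup G) : Set G))) := by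
    intro c _
    rw [Subgroup.mem_centralizer_iff]
    intro x hx
    have hx' : (x : G) ∈ (P : Subgroup G) := hx
    apply Subtype.ext
    exact Subgroup.mem_centralizer_iff.mp c.2 x.1 hx'
  have hNPC :=
    Cfsg.Agent.Lib.helper2.hasNormalPComplement_of_normalizer_le_centralizer (P.subtype hPC) hB
  obtain ⟨K, hKn, hKcop, k, hKidx⟩ :=
    Cfsg.Agent.Lib.helper40.exists_normal_coprime_of_hasNPC hNPC
  have hmemK : ∀ c : (Subgroup.centralizer ((P : Subgroup G) : Set G)),
      (orderOf c).Coprime p → c ∈ K := by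
    intro c hc
    haveI := hKn
    have h1 : c ^ (p ^ k) ∈ K := hKidx ▸ Subgroup.pow_index_mem K c
    have h2 : c ^ orderOf c ∈ K := by rw [pow_orderOf_eq_one]; exact one_mem K
    exact cam_mem_of_coprime K (Nat.Coprime.pow_left k hc.symm) h1 h2
  have hLcard : Nat.card (K.map (Subgroup.centralizer ((P : Subgroup G) : Set G)).subtype) =
      Nat.card K := Subgroup.card_map_of_injective (Subgroup.subtype_injective _)
  have hLmem : ∀ c ∈ Subgroup.centralizer ((P : Subgroup G) : Set G), (orderOf c).Coprime p →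
      c ∈ K.map (Subgroup.centralizer ((P : Subgroup G) : Set G)).subtype := by
    intro c hc hcop'
    refine Subgroup.mem_map.mpr ⟨⟨c, hc⟩, hmemK ⟨c, hc⟩ ?_, rfl⟩
    rw [Subgroup.orderOf_mk]; exact hcop'
  have hLC : K.map (Subgroup.centralizer ((P : Subgroup G) : Set G)).subtype ≤
      Subgroup.centralizer ((P : Subgroup G) : Set G) := Subgroup.map_subtype_le K
  have hLcop : ∀ c ∈ K.map (Subgroup.centralizer ((P : Subgroup G) : Set G)).subtype,
      (orderOf c).Coprime p := by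
    intro c hc
    apply Nat.Coprime.coprime_dvd_left (Subgroup.orderOf_dvd_natCard _ hc)
    rw [hLcard]; exact hKcop
  have hconjC : ∀ m ∈ Subgroup.normalizer (P : Set G),
      ∀ c ∈ Subgroup.centralizer ((P : Subgroup G) : Set G),
      m * c * m⁻¹ ∈ Subgroup.centralizer ((P : Subgroup G) : Set G) := by
    intro m hm c hc
    rw [Subgroup.mem_centralizer_iff]
    intro u hu
    have hu' : m⁻¹ * u * m ∈ (P : Subgroup G) := by
      have := (Subgroup.mem_normalizer_iff.mp (inv_mem hm) u).mp hu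
      simpa using this
    have h1 := Subgroup.mem_centralizer_iff.mp hc _ hu'
    calc u * (m * c * m⁻¹) = m * ((m⁻¹ * u * m) * c) * m⁻¹ := by group
      _ = m * (c * (m⁻¹ * u * m)) * m⁻¹ := by rw [h1]
      _ = m * c * m⁻¹ * u := by group
  have hLN : ∀ m ∈ Subgroup.normalizer (P : Set G), m ∈ Subgroup.normalizer
      ((K.map (Subgroup.centralizer ((P : Subgroup G) : Set G)).subtype : Subgroup G) : Set G) := by
    intro m hm
    apply mem_normalizer_of_conj_mem
    intro c hc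
    apply hLmem _ (hconjC m hm c (hLC hc))
    apply Nat.Coprime.coprime_dvd_left _ (hLcop c hc)
    apply orderOf_dvd_of_pow_eq_one
    rw [conj_pow, pow_orderOf_eq_one, mul_one, mul_inv_cancel]
  have hidx : ((P : Subgroup G).index).Coprime p :=
    ((Nat.Prime.coprime_iff_not_dvd hp).mpr P.not_dvd_index).symm
  obtain ⟨kP, hkP⟩ := IsPGroup.iff_card.mp P.isPGroup'
  have hlL := hLmem l hl hcop
  have h1 : n ^ Nat.card (P : Subgroup G) ∈ Subgroup.centralizer ({l} : Set G) := by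
    have hmN : n ^ Nat.card (P : Subgroup G) ∈ Subgroup.normalizer (P : Set G) := pow_mem hn _
    have hmord : orderOf (n ^ Nat.card (P : Subgroup G)) ∣ (P : Subgroup G).index := by
      apply orderOf_dvd_of_pow_eq_one
      rw [← pow_mul, Subgroup.card_mul_index, pow_card_eq_one']
    have hcard := card_sup_dvd_of_le_normalizer
      (T := K.map (Subgroup.centralizer ((P : Subgroup G) : Set G)).subtype)
      (A := Subgroup.zpowers (n ^ Nat.card (P : Subgroup G)))
      ((Subgroup.zpowers_le).mpr (hLN _ hmN))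
    rw [Nat.card_zpowers, hLcard] at hcard
    have hnd : ¬ p ∣ Nat.card ↥(K.map (Subgroup.centralizer ((P : Subgroup G) : Set G)).subtype ⊔
        Subgroup.zpowers (n ^ Nat.card (P : Subgroup G))) := by
      intro hd
      rcases (hp.dvd_mul).mp (hd.trans hcard) with h1 | h1
      · exact (Nat.Prime.coprime_iff_not_dvd hp).mp hKcop.symm h1
      · exact (Nat.Prime.coprime_iff_not_dvd hp).mp
          (Nat.Coprime.coprime_dvd_left hmord hidx).symm h1
    have h3 := h.hab _ hnd (n ^ Nat.card (P : Subgroup G))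
      ((le_sup_right : Subgroup.zpowers (n ^ Nat.card (P : Subgroup G)) ≤ _)
        (Subgroup.mem_zpowers _)) l
      ((le_sup_left : K.map (Subgroup.centralizer ((P : Subgroup G) : Set G)).subtype ≤ _) hlL)
    rw [Subgroup.mem_centralizer_iff]
    intro y hy
    rw [Set.mem_singleton_iff] at hy
    rw [hy]; exact h3.symm
  have h2 : n ^ (P : Subgroup G).index ∈ Subgroup.centralizer ({l} : Set G) := by
    have hmem : n ^ (P : Subgroup G).index ∈ (P : Subgroup G) := by
      apply cs_B2 P (pow_mem hn _)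
      rw [← pow_mul, mul_comm, Subgroup.card_mul_index, pow_card_eq_one']
    rw [Subgroup.mem_centralizer_iff]
    intro y hy
    rw [Set.mem_singleton_iff] at hy
    rw [hy]
    exact (Subgroup.mem_centralizer_iff.mp hl _ hmem).symm
  have hcop2 : Nat.Coprime (Nat.card (P : Subgroup G)) (P : Subgroup G).index := by
    rw [hkP]
    exact Nat.Coprime.pow_left kP ((Nat.Prime.coprime_iff_not_dvd hp).mpr P.not_dvd_index)
  have h3 := cam_mem_of_coprime (Subgroup.centralizer ({l} : Set G)) hcop2 h1 h2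
  rw [Subgroup.mem_centralizer_iff] at h3
  exact (h3 l (Set.mem_singleton l)).symm

/-- In the minimal configuration, the centralizer of a nontrivial `p'`-element of `C_G(P)` is
contained in `N_G(P)`. -/
lemma cs_cent_le {P : Sylow p G} (h : Ctx p P) {c : G}
    (hc : c ∈ Subgroup.centralizer ((P : Subgroup G) : Set G)) (hc1 : c ≠ 1)
    (hcop : (orderOf c).Coprime p) {g : G} (hg : g * c = c * g) :
    g ∈ Subgroup.normalizer (P : Set G) := by
  have hp := (Fact.out : p.Prime)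
  have hNle : Subgroup.normalizer (P : Set G) ≤ Subgroup.centralizer ({c} : Set G) := by
    intro n hn
    rw [Subgroup.mem_centralizer_iff]
    intro y hy
    rw [Set.mem_singleton_iff] at hy
    rw [hy]; exact (cs_cen h hc hcop hn).symm
  have hne : Subgroup.centralizer ({c} : Set G) ≠ ⊤ := by
    intro htop
    have hord1 : orderOf c ≠ 1 := by rwa [Ne, orderOf_eq_one_iff]
    obtain ⟨q, hq, hqd⟩ := Nat.exists_prime_and_dvd hord1
    haveI : Fact q.Prime := ⟨hq⟩
    have hqp : q ≠ p := by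
      intro hqp
      rw [hqp] at hqd
      exact (Nat.Prime.coprime_iff_not_dvd hp).mp hcop.symm hqd
    have hoc' : orderOf (c ^ (orderOf c / q)) = q :=
      orderOf_pow_orderOf_div (orderOf_pos c).ne' hqd
    have hc'1 : c ^ (orderOf c / q) ≠ 1 := by
      intro h1
      rw [h1, orderOf_one] at hoc'
      exact hq.one_lt.ne hoc'
    have hZ : IsPGroup q (Subgroup.zpowers (c ^ (orderOf c / q))) :=
      IsPGroup.of_card (n := 1) (by rw [Nat.card_zpowers, hoc', pow_one])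
    obtain ⟨Q, hQ⟩ := hZ.exists_le_sylow
    obtain ⟨n, hn, hne⟩ := cs_transfer h hqp Q (hQ (Subgroup.mem_zpowers _)) hc'1
    apply hne
    have hnc : n ∈ Subgroup.centralizer ({c} : Set G) := by rw [htop]; trivial
    rw [Subgroup.mem_centralizer_iff] at hnc
    have h2 : Commute n c := (hnc c (Set.mem_singleton c)).symm
    have h3 : Commute n (c ^ (orderOf c / q)) := h2.pow_right _
    rw [h3.eq, mul_inv_cancel_right]
  apply h.hM _ hNle hne
  rw [Subgroup.mem_centralizer_iff]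
  intro y hy
  rw [Set.mem_singleton_iff] at hy
  rw [hy]; exact hg.symm

/-- An involution of `N_G(P)` outside `C_G(P)` inverts the cyclic Sylow subgroup `P`. -/
lemma cs_inv (P : Sylow p G) (hcyc : IsCyclic (P : Subgroup G)) {t : G}
    (htN : t ∈ Subgroup.normalizer (P : Set G)) (ht2 : t ^ 2 = 1)
    (htC : t ∉ Subgroup.centralizer ((P : Subgroup G) : Set G)) :
    ∀ u ∈ (P : Subgroup G), t * u * t⁻¹ = u⁻¹ := by
  intro u hu
  have hti : t⁻¹ = t := inv_eq_self_of_sq ht2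
  have hcomm0 := cs_comm P hcyc
  have htu : t * u * t⁻¹ ∈ (P : Subgroup G) := (Subgroup.mem_normalizer_iff.mp htN u).mp hu
  have hcomm := hcomm0 u hu _ htu
  rw [hti] at hcomm htu ⊢
  have hvP : u * (t * u * t) ∈ (P : Subgroup G) := mul_mem hu htu
  have htv : t * (u * (t * u * t)) = (u * (t * u * t)) * t := by
    calc t * (u * (t * u * t)) = (t * u * t * u) * t := by simp only [mul_assoc]
      _ = (u * (t * u * t)) * t := by rw [← hcomm]
  have hv1 : u * (t * u * t) = 1 := by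
    by_contra hne
    apply htC
    rw [Subgroup.mem_centralizer_iff]
    intro w hw
    exact (cs_B4 P hcyc htN hvP hne htv w hw).symm
  exact eq_inv_of_mul_eq_one_right hv1

omit [Finite G] in
lemma cs_inv_mul (H : Subgroup G) {a b : G} (ha : ∀ u ∈ H, a * u * a⁻¹ = u⁻¹)
    (hb : ∀ u ∈ H, b * u * b⁻¹ = u⁻¹) : a * b ∈ Subgroup.centralizer (H : Set G) := by
  rw [Subgroup.mem_centralizer_iff]
  intro u hu
  have h1 := hb u hu
  have h2 := ha u⁻¹ (inv_mem hu)
  have h3 : (a * b) * u * (a * b)⁻¹ = u := by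
    rw [mul_inv_rev]
    calc a * b * u * (b⁻¹ * a⁻¹) = a * (b * u * b⁻¹) * a⁻¹ := by simp only [mul_assoc]
      _ = u := by rw [h1, h2, inv_inv]
  calc u * (a * b) = (a * b * u * (a * b)⁻¹) * (a * b) := by rw [h3]
    _ = a * b * u := by simp [mul_assoc]

lemma cs_exists_conj_le (P : Sylow p G) {R : Subgroup G} (hR : IsPGroup p R) :
    ∃ g : G, ∀ r ∈ R, g⁻¹ * r * g ∈ (P : Subgroup G) := by
  obtain ⟨P', hP'⟩ := hR.exists_le_sylow
  obtain ⟨g, hg⟩ := MulAction.exists_smul_eq G P P'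
  refine ⟨g, ?_⟩
  intro r hr
  have hu' : r ∈ (P' : Subgroup G) := hP' hr
  rw [← hg, Sylow.coe_subgroup_smul, Subgroup.mem_pointwise_smul_iff_inv_smul_mem] at hu'
  simpa [MulAut.smul_def, mul_assoc] using hu'

/-- The local data attached to an element `z` of prime order `q ≠ p` of `C_G(P)`. -/
structure CoreData (p : ℕ) (P : Sylow p G) (z : G) (q : ℕ) (Q : Sylow q G) (y : G) : Prop where
  zC : z ∈ Subgroup.centralizer ((P : Subgroup G) : Set G)
  zQ : z ∈ (Q : Subgroup G)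
  z1 : z ≠ 1
  oz : orderOf z = q
  qp : q ≠ p
  QN : (Q : Subgroup G) ≤ Subgroup.normalizer (P : Set G)
  yQ : y ∈ Subgroup.normalizer (Q : Set G)
  oy : orderOf y = p
  Rb : ∀ i : ℕ, 0 < i → i < p → ∀ z' ∈ (Q : Subgroup G),
    z' ∈ Subgroup.centralizer ((P : Subgroup G) : Set G) → z' ≠ 1 →
    y ^ i * z' * (y ^ i)⁻¹ ∉ Subgroup.centralizer ((P : Subgroup G) : Set G)

lemma cs_core1 {P : Sylow p G} (h : Ctx p P) {z : G}
    (hzC : z ∈ Subgroup.centralizer ((P : Subgroup G) : Set G)) {q : ℕ} [Fact q.Prime]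
    (hqp : q ≠ p) (hoz : orderOf z = q) :
    ∃ (Q : Sylow q G) (y : G), CoreData p P z q Q y := by
  have hp := (Fact.out : p.Prime)
  have hq := (Fact.out : q.Prime)
  have hz1 : z ≠ 1 := by
    intro hz
    rw [hz, orderOf_one] at hoz
    exact hq.one_lt.ne hoz
  have hZ : IsPGroup q (Subgroup.zpowers z) :=
    IsPGroup.of_card (n := 1) (by rw [Nat.card_zpowers, hoz, pow_one])
  obtain ⟨Q, hQ⟩ := hZ.exists_le_sylow
  have hzQ : z ∈ (Q : Subgroup G) := hQ (Subgroup.mem_zpowers z)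
  obtain ⟨k, hk⟩ := IsPGroup.iff_card.mp Q.isPGroup'
  have hpQ : ¬ p ∣ Nat.card (Q : Subgroup G) := by
    rw [hk]; intro hd
    exact hqp ((Nat.prime_dvd_prime_iff_eq hp hq).mp (hp.dvd_of_dvd_pow hd)).symm
  have hQab := h.hab (Q : Subgroup G) hpQ
  have hcopq : q.Coprime p := (Nat.coprime_primes hq hp).mpr hqp
  have hzcop : (orderOf z).Coprime p := by rw [hoz]; exact hcopq
  have hQN : (Q : Subgroup G) ≤ Subgroup.normalizer (P : Set G) := by
    intro x hx
    exact cs_cent_le h hzC hz1 hzcop (hQab x hx z hzQ)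
  obtain ⟨R, hR, hRN, hfix⟩ := cs_fixed h hqp Q
  have hRpow : ∀ a ∈ R, ∃ j : ℕ, a ^ (p ^ j) = 1 := by
    intro a ha
    obtain ⟨j, hj⟩ := hR ⟨a, ha⟩
    refine ⟨j, ?_⟩
    have := congrArg Subtype.val hj
    simpa using this
  have hRne : ∃ r ∈ R, r ≠ 1 := by
    by_contra hcon
    push Not at hcon
    apply hz1
    apply hfix z hzQ
    intro r hr
    rw [hcon r hr, one_mul, mul_one]
  obtain ⟨r, hr, hr1⟩ := hRne
  obtain ⟨g, hg⟩ := cs_exists_conj_le P hR
  have hRab : ∀ a ∈ R, ∀ b ∈ R, a * b = b * a := by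
    intro a ha b hb
    have h1 := cs_comm P h.cyc _ (hg a ha) _ (hg b hb)
    have h2 : g⁻¹ * (a * b) * g = g⁻¹ * (b * a) * g := by
      calc g⁻¹ * (a * b) * g = (g⁻¹ * a * g) * (g⁻¹ * b * g) := by group
        _ = (g⁻¹ * b * g) * (g⁻¹ * a * g) := h1
        _ = g⁻¹ * (b * a) * g := by group
    exact mul_left_cancel (mul_right_cancel h2)
  have hRN1 : ∀ a ∈ R, a ∈ Subgroup.normalizer (P : Set G) → a = 1 := by
    intro a ha haN
    by_contra ha1
    obtain ⟨j, haj⟩ := hRpow a ha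
    have haP : a ∈ (P : Subgroup G) := cs_B2' P haN haj
    have hRleP : ∀ b ∈ R, b ∈ (P : Subgroup G) := by
      intro b hb
      have hbN : b ∈ Subgroup.normalizer (P : Set G) := cs_C2 h haP ha1 (hRab b hb a ha)
      obtain ⟨j', hbj⟩ := hRpow b hb
      exact cs_B2' P hbN hbj
    apply hz1
    apply hfix z hzQ
    intro b hb
    exact Subgroup.mem_centralizer_iff.mp hzC b (hRleP b hb)
  obtain ⟨jr, hrj⟩ := hRpow r hr
  have hord : orderOf r ∣ p ^ jr := orderOf_dvd_of_pow_eq_one hrj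
  obtain ⟨j, -, hj⟩ := (Nat.dvd_prime_pow hp).mp hord
  have hj0 : j ≠ 0 := by
    intro hj0
    rw [hj0, pow_zero, orderOf_eq_one_iff] at hj
    exact hr1 hj
  have hpd : p ∣ orderOf r := by rw [hj]; exact dvd_pow_self p hj0
  have hoy : orderOf (r ^ (orderOf r / p)) = p :=
    orderOf_pow_orderOf_div (orderOf_pos r).ne' hpd
  have hyR : r ^ (orderOf r / p) ∈ R := pow_mem hr _
  have hy1 : r ^ (orderOf r / p) ≠ 1 := by
    intro h1
    rw [h1, orderOf_one] at hoy
    exact hp.one_lt.ne hoy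
  have hyN : r ^ (orderOf r / p) ∉ Subgroup.normalizer (P : Set G) :=
    fun hyN => hy1 (hRN1 _ hyR hyN)
  refine ⟨Q, r ^ (orderOf r / p), ⟨hzC, hzQ, hz1, hoz, hqp, hQN, hRN hyR, hoy, ?_⟩⟩
  intro i hi0 hip z' hz'Q hz'C hz'1 hwC
  apply hyN
  generalize r ^ (orderOf r / p) = y at hoy hwC ⊢
  have hz'cop : (orderOf z').Coprime p := by
    have h1 : orderOf z' ∣ q ^ k := by rw [← hk]; exact Subgroup.orderOf_dvd_natCard _ hz'Q
    exact Nat.Coprime.coprime_dvd_left h1 (Nat.Coprime.pow_left k hcopq)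
  have hw1 : y ^ i * z' * (y ^ i)⁻¹ ≠ 1 := by
    intro h1
    apply hz'1
    have h2 : z' = (y ^ i)⁻¹ * (y ^ i * z' * (y ^ i)⁻¹) * (y ^ i) := by group
    rw [h2, h1]; group
  have hwcop : (orderOf (y ^ i * z' * (y ^ i)⁻¹)).Coprime p := by
    apply Nat.Coprime.coprime_dvd_left _ hz'cop
    apply orderOf_dvd_of_pow_eq_one
    rw [conj_pow, pow_orderOf_eq_one, mul_one, mul_inv_cancel]
  have hyiNN : y ^ i ∈ Subgroup.normalizer
      ((Subgroup.normalizer (P : Set G) : Subgroup G) : Set G) := by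
    apply mem_normalizer_of_conj_mem
    intro n hn
    apply cs_cent_le h hwC hw1 hwcop
    have h1 := cs_cen h hz'C hz'cop hn
    calc y ^ i * n * (y ^ i)⁻¹ * (y ^ i * z' * (y ^ i)⁻¹)
        = y ^ i * (n * z') * (y ^ i)⁻¹ := by group
      _ = y ^ i * (z' * n) * (y ^ i)⁻¹ := by rw [h1]
      _ = y ^ i * z' * (y ^ i)⁻¹ * (y ^ i * n * (y ^ i)⁻¹) := by group
  rw [Sylow.normalizer_normalizer] at hyiNN
  have hcopi : Nat.Coprime i (orderOf y) := by
    rw [hoy]
    exact ((Nat.Prime.coprime_iff_not_dvd hp).mpr (Nat.not_dvd_of_pos_of_lt hi0 hip)).symm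
  obtain ⟨m, hm⟩ := exists_pow_eq_self_of_coprime hcopi
  rw [← hm]; exact pow_mem hyiNN m

omit [Finite G] [Fact p.Prime] in
lemma cs_arith {p s e : ℕ} (hp : 2 ≤ p) (hs : 2 ≤ s) (he : e ∣ p - 1)
    (hcount : p * (s - 1) + 1 ≤ s * e) : e + 1 = p ∧ s + 1 ≤ p := by
  obtain ⟨c, hc⟩ := he
  obtain ⟨s', rfl⟩ : ∃ s', s = s' + 2 := ⟨s - 2, by omega⟩
  obtain ⟨p', rfl⟩ : ∃ p', p = p' + 1 := ⟨p - 1, by omega⟩
  have hc' : p' = e * c := by omega
  have hcount' : (p' + 1) * (s' + 1) + 1 ≤ (s' + 2) * e := by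
    have : s' + 2 - 1 = s' + 1 := by omega
    rw [this] at hcount
    exact hcount
  have hc1 : c = 1 := by
    rcases Nat.lt_or_ge c 2 with h | h
    · interval_cases c
      · omega
      · rfl
    · exfalso
      have h2 : 2 * e ≤ p' := by rw [hc']; nlinarith
      nlinarith [Nat.mul_le_mul_right (s' + 1) h2]
  rw [hc1, mul_one] at hc'
  subst hc'
  refine ⟨rfl, ?_⟩
  nlinarith

lemma cs_core2 {P : Sylow p G} (h : Ctx p P) {z : G} {q : ℕ} [Fact q.Prime] {Q : Sylow q G}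
    {y : G} (d : CoreData p P z q Q y) :
    q = 2 ∧ p ≠ 2 ∧
    (Subgroup.centralizer ((P : Subgroup G) : Set G)).relIndex (Q : Subgroup G) = p - 1 ∧
    Nat.card ↥((Q : Subgroup G) ⊓ Subgroup.centralizer ((P : Subgroup G) : Set G)) ≤ p - 1 := by
  classical
  have hp := (Fact.out : p.Prime)
  have hq := (Fact.out : q.Prime)
  obtain ⟨k, hk⟩ := IsPGroup.iff_card.mp Q.isPGroup'
  obtain ⟨kP, hkP⟩ := IsPGroup.iff_card.mp P.isPGroup'
  have hcopq : q.Coprime p := (Nat.coprime_primes hq hp).mpr d.qp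
  have he1 := cs_relIndex_dvd_totient P h.cyc (Q : Subgroup G) d.QN
  rw [hkP] at he1
  have he2 : (Subgroup.centralizer ((P : Subgroup G) : Set G)).relIndex (Q : Subgroup G) ∣
      q ^ k := by
    rw [← hk]; exact Subgroup.relIndex_dvd_card _ _
  have he3 := cs_dvd_pred hp he1
    (Nat.Coprime.coprime_dvd_left he2 (Nat.Coprime.pow_left k hcopq))
  have hse : Nat.card ↥((Q : Subgroup G) ⊓ Subgroup.centralizer ((P : Subgroup G) : Set G)) *
      (Subgroup.centralizer ((P : Subgroup G) : Set G)).relIndex (Q : Subgroup G) =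
      Nat.card (Q : Subgroup G) := by
    have h1 := card_mul_relIndex' (inf_le_left :
      (Q : Subgroup G) ⊓ Subgroup.centralizer ((P : Subgroup G) : Set G) ≤ (Q : Subgroup G))
    rwa [Subgroup.inf_relIndex_left] at h1
  have key : ∀ (i j : ℕ), i < j → j < p → ∀ a b : G, b ∈ (Q : Subgroup G) →
      b ∈ Subgroup.centralizer ((P : Subgroup G) : Set G) → b ≠ 1 →
      a ∈ Subgroup.centralizer ((P : Subgroup G) : Set G) →
      y ^ i * a * (y ^ i)⁻¹ = y ^ j * b * (y ^ j)⁻¹ → False := by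
    intro i j hij hjp a b hbQ hbC hb1 haC heq
    have hj : y ^ j = y ^ i * y ^ (j - i) := by rw [← pow_add]; congr 1; omega
    rw [hj] at heq
    have h2 : y ^ (j - i) * b * (y ^ (j - i))⁻¹ = a := by
      have h3 : a = (y ^ i)⁻¹ * (y ^ i * a * (y ^ i)⁻¹) * y ^ i := by group
      rw [h3, heq]; group
    exact d.Rb (j - i) (by omega) (by omega) b hbQ hbC hb1 (h2 ▸ haC)
  have hcount : p * (Nat.card ↥((Q : Subgroup G) ⊓
      Subgroup.centralizer ((P : Subgroup G) : Set G)) - 1) + 1 ≤ Nat.card (Q : Subgroup G) := by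
    have hmaps : ∀ x ∈ (Set.univ : Set (Fin p)) ×ˢ
        ((((Q : Subgroup G) ⊓ Subgroup.centralizer ((P : Subgroup G) : Set G) : Subgroup G) :
          Set G) \ {1}),
        (fun x : Fin p × G => y ^ (x.1 : ℕ) * x.2 * (y ^ (x.1 : ℕ))⁻¹) x ∈
          (((Q : Subgroup G) : Set G) \ {1}) := by
      rintro ⟨i, a⟩ ⟨-, ha, ha1⟩
      obtain ⟨haQ, haC⟩ := Subgroup.mem_inf.mp ha
      refine ⟨(Subgroup.mem_normalizer_iff.mp (pow_mem d.yQ _) a).mp haQ, ?_⟩
      intro h1
      apply ha1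
      have h1' : y ^ (i : ℕ) * a * (y ^ (i : ℕ))⁻¹ = 1 := h1
      show a = 1
      have h2 : a = (y ^ (i : ℕ))⁻¹ * (y ^ (i : ℕ) * a * (y ^ (i : ℕ))⁻¹) * (y ^ (i : ℕ)) := by
        group
      rw [h2, h1']; group
    have hinj : Set.InjOn (fun x : Fin p × G => y ^ (x.1 : ℕ) * x.2 * (y ^ (x.1 : ℕ))⁻¹)
        ((Set.univ : Set (Fin p)) ×ˢ
        ((((Q : Subgroup G) ⊓ Subgroup.centralizer ((P : Subgroup G) : Set G) : Subgroup G) :
          Set G) \ {1})) := by
      rintro ⟨i, a⟩ ⟨-, ha, ha1⟩ ⟨j, b⟩ ⟨-, hb, hb1⟩ heq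
      obtain ⟨haQ, haC⟩ := Subgroup.mem_inf.mp ha
      obtain ⟨hbQ, hbC⟩ := Subgroup.mem_inf.mp hb
      have heq' : y ^ (i : ℕ) * a * (y ^ (i : ℕ))⁻¹ = y ^ (j : ℕ) * b * (y ^ (j : ℕ))⁻¹ := heq
      have ha1' : a ≠ 1 := fun h => ha1 (Set.mem_singleton_iff.mpr h)
      have hb1' : b ≠ 1 := fun h => hb1 (Set.mem_singleton_iff.mpr h)
      rcases lt_trichotomy (i : ℕ) (j : ℕ) with hlt | heq2 | hgt
      · exact (key i j hlt j.2 a b hbQ hbC hb1' haC heq').elim
      · have hij : i = j := Fin.ext heq2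
        subst hij
        have hab' : a = b := mul_left_cancel (mul_right_cancel heq')
        rw [hab']
      · exact (key j i hgt i.2 b a haQ haC ha1' hbC heq'.symm).elim
    have h1 := Set.ncard_le_ncard_of_injOn _ hmaps hinj (Set.toFinite _)
    have hS : ((((Q : Subgroup G) ⊓ Subgroup.centralizer ((P : Subgroup G) : Set G) :
        Subgroup G) : Set G) \ {1}).ncard = Nat.card ↥((Q : Subgroup G) ⊓
        Subgroup.centralizer ((P : Subgroup G) : Set G)) - 1 := by
      rw [Set.ncard_sdiff_singleton_of_mem (one_mem _)]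
      congr 1
    have hT : ((((Q : Subgroup G) : Set G)) \ {1}).ncard = Nat.card (Q : Subgroup G) - 1 := by
      rw [Set.ncard_sdiff_singleton_of_mem (one_mem _)]
      congr 1
    rw [Set.ncard_prod, Set.ncard_univ, Nat.card_fin, hS, hT] at h1
    have hpos := Nat.card_pos (α := (Q : Subgroup G))
    omega
  have hs2 : 2 ≤ Nat.card ↥((Q : Subgroup G) ⊓
      Subgroup.centralizer ((P : Subgroup G) : Set G)) := by
    apply (Subgroup.one_lt_card_iff_ne_bot _).mpr
    intro hbot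
    have hz : z ∈ (Q : Subgroup G) ⊓ Subgroup.centralizer ((P : Subgroup G) : Set G) :=
      Subgroup.mem_inf.mpr ⟨d.zQ, d.zC⟩
    rw [hbot] at hz
    exact d.z1 (Subgroup.mem_bot.mp hz)
  rw [← hse] at hcount
  obtain ⟨he4, hs4⟩ := cs_arith hp.two_le hs2 he3 hcount
  have hp2 : p ≠ 2 := by omega
  refine ⟨?_, hp2, by omega, by omega⟩
  have hodd : p % 2 = 1 := by
    rcases hp.eq_two_or_odd with h2 | h2
    · exact absurd h2 hp2
    · exact h2
  have h2e : 2 ∣ (Subgroup.centralizer ((P : Subgroup G) : Set G)).relIndex (Q : Subgroup G) := by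
    omega
  have h2q := Nat.prime_two.dvd_of_dvd_pow (h2e.trans he2)
  exact ((Nat.prime_dvd_prime_iff_eq Nat.prime_two hq).mp h2q).symm

lemma cs_core3 {P : Sylow p G} (h : Ctx p P) {z : G} {q : ℕ} [Fact q.Prime] {Q : Sylow q G}
    {y : G} (d : CoreData p P z q Q y) (hq2 : q = 2) (hp2 : p ≠ 2) : p = 3 := by
  have hp := (Fact.out : p.Prime)
  by_contra hp3
  have hp5 : 5 ≤ p := by
    have h2 := hp.two_le
    have h4 : p ≠ 4 := by
      intro h4
      have h5 : ¬ Nat.Prime 4 := by decide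
      exact h5 (h4 ▸ hp)
    omega
  have hz2 : z ^ 2 = 1 := by
    have h1 := pow_orderOf_eq_one z
    rwa [d.oz, hq2] at h1
  have hzQ : ∀ i : ℕ, y ^ i * z * (y ^ i)⁻¹ ∈ (Q : Subgroup G) := fun i =>
    (Subgroup.mem_normalizer_iff.mp (pow_mem d.yQ i) z).mp d.zQ
  have hzi : ∀ i : ℕ, 0 < i → i < p →
      ∀ u ∈ (P : Subgroup G),
        (y ^ i * z * (y ^ i)⁻¹) * u * (y ^ i * z * (y ^ i)⁻¹)⁻¹ = u⁻¹ := by
    intro i hi0 hip
    apply cs_inv P h.cyc (d.QN (hzQ i))
    · rw [conj_pow, hz2, mul_one, mul_inv_cancel]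
    · exact d.Rb i hi0 hip z d.zQ d.zC d.z1
  have h12 : (y ^ 1 * z * (y ^ 1)⁻¹) * (y ^ 2 * z * (y ^ 2)⁻¹) ∈
      Subgroup.centralizer ((P : Subgroup G) : Set G) :=
    cs_inv_mul (P : Subgroup G) (hzi 1 (by omega) (by omega)) (hzi 2 (by omega) (by omega))
  have h23 : (y ^ 2 * z * (y ^ 2)⁻¹) * (y ^ 3 * z * (y ^ 3)⁻¹) ∈
      Subgroup.centralizer ((P : Subgroup G) : Set G) :=
    cs_inv_mul (P : Subgroup G) (hzi 2 (by omega) (by omega)) (hzi 3 (by omega) (by omega))
  have hQ12 : (y ^ 1 * z * (y ^ 1)⁻¹) * (y ^ 2 * z * (y ^ 2)⁻¹) ∈ (Q : Subgroup G) :=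
    mul_mem (hzQ 1) (hzQ 2)
  have hne : (y ^ 1 * z * (y ^ 1)⁻¹) * (y ^ 2 * z * (y ^ 2)⁻¹) ≠ 1 := by
    intro h1
    apply d.Rb 1 (by omega) (by omega) z d.zQ d.zC d.z1
    have h2 : z * (y * z * y⁻¹) = 1 := by
      have h3 : z * (y * z * y⁻¹) =
          y⁻¹ * ((y ^ 1 * z * (y ^ 1)⁻¹) * (y ^ 2 * z * (y ^ 2)⁻¹)) * y := by group
      rw [h3, h1]; group
    have h3 : y * z * y⁻¹ = z⁻¹ := eq_inv_of_mul_eq_one_right h2
    rw [pow_one, h3, inv_eq_self_of_sq hz2]
    exact d.zC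
  apply d.Rb 1 (by omega) (by omega) _ hQ12 h12 hne
  have h4 : y ^ 1 * ((y ^ 1 * z * (y ^ 1)⁻¹) * (y ^ 2 * z * (y ^ 2)⁻¹)) * (y ^ 1)⁻¹ =
      (y ^ 2 * z * (y ^ 2)⁻¹) * (y ^ 3 * z * (y ^ 3)⁻¹) := by group
  rw [h4]; exact h23

lemma cs_core4 {P : Sylow p G} (h : Ctx p P) {z : G} {q : ℕ} [Fact q.Prime] {Q : Sylow q G}
    {y : G} (d : CoreData p P z q Q y) (hq2 : q = 2) (hp3 : p = 3)
    (he : (Subgroup.centralizer ((P : Subgroup G) : Set G)).relIndex (Q : Subgroup G) = 2)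
    (hs : Nat.card ↥((Q : Subgroup G) ⊓ Subgroup.centralizer ((P : Subgroup G) : Set G)) ≤ 2) :
    (∃ t : G, t ^ 2 = 1 ∧ t ∈ Subgroup.normalizer (P : Set G) ∧
      t ∉ Subgroup.centralizer ((P : Subgroup G) : Set G)) ∧
    (∀ s : G, s ^ 2 = 1 → s ≠ 1 → ∃ g : G, s = g * z * g⁻¹) ∧
    (∀ l ∈ Subgroup.centralizer ((P : Subgroup G) : Set G), (∃ j : ℕ, l ^ (2 ^ j) = 1) →
      l = 1 ∨ l = z) := by
  have hp := (Fact.out : p.Prime)
  have hq := (Fact.out : q.Prime)
  have h13 : 1 < p := hp.one_lt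
  have h23 : 2 < p := by omega
  have hz2 : z ^ 2 = 1 := by
    have h1 := pow_orderOf_eq_one z
    rwa [d.oz, hq2] at h1
  have hQC : ∀ x ∈ (Q : Subgroup G), x ∈ Subgroup.centralizer ((P : Subgroup G) : Set G) →
      x = 1 ∨ x = z := by
    intro x hxQ hxC
    by_contra hcon
    push Not at hcon
    have hs2 : Nat.card ↥((Q : Subgroup G) ⊓
        Subgroup.centralizer ((P : Subgroup G) : Set G)) = 2 := by
      apply le_antisymm hs
      apply (Subgroup.one_lt_card_iff_ne_bot _).mpr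
      intro hbot
      have hz : z ∈ (Q : Subgroup G) ⊓ Subgroup.centralizer ((P : Subgroup G) : Set G) :=
        Subgroup.mem_inf.mpr ⟨d.zQ, d.zC⟩
      rw [hbot] at hz
      exact d.z1 (Subgroup.mem_bot.mp hz)
    obtain ⟨w, hw1, hw2⟩ := (Nat.card_eq_two_iff' (1 : ↥((Q : Subgroup G) ⊓
        Subgroup.centralizer ((P : Subgroup G) : Set G)))).mp hs2
    have h1 := hw2 ⟨x, Subgroup.mem_inf.mpr ⟨hxQ, hxC⟩⟩
      (fun h => hcon.1 (congrArg Subtype.val h))
    have h2 := hw2 ⟨z, Subgroup.mem_inf.mpr ⟨d.zQ, d.zC⟩⟩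
      (fun h => d.z1 (congrArg Subtype.val h))
    exact hcon.2 (congrArg Subtype.val (h1.trans h2.symm))
  have hzQ : ∀ i : ℕ, y ^ i * z * (y ^ i)⁻¹ ∈ (Q : Subgroup G) := fun i =>
    (Subgroup.mem_normalizer_iff.mp (pow_mem d.yQ i) z).mp d.zQ
  have hz1C : y ^ 1 * z * (y ^ 1)⁻¹ ∉ Subgroup.centralizer ((P : Subgroup G) : Set G) :=
    d.Rb 1 (by omega) h13 z d.zQ d.zC d.z1
  have hz2C : y ^ 2 * z * (y ^ 2)⁻¹ ∉ Subgroup.centralizer ((P : Subgroup G) : Set G) :=
    d.Rb 2 (by omega) h23 z d.zQ d.zC d.z1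
  have hz1sq : (y ^ 1 * z * (y ^ 1)⁻¹) ^ 2 = 1 := by
    rw [conj_pow, hz2, mul_one, mul_inv_cancel]
  have hz1inv : (y ^ 1 * z * (y ^ 1)⁻¹)⁻¹ = y ^ 1 * z * (y ^ 1)⁻¹ := inv_eq_self_of_sq hz1sq
  have hmul : ∀ a ∈ (Q : Subgroup G), ∀ b ∈ (Q : Subgroup G),
      (a * b ∈ Subgroup.centralizer ((P : Subgroup G) : Set G) ↔
        (a ∈ Subgroup.centralizer ((P : Subgroup G) : Set G) ↔
          b ∈ Subgroup.centralizer ((P : Subgroup G) : Set G))) := by
    intro a ha b hb
    have h1 := Subgroup.mul_mem_iff_of_index_two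
      (H := (Subgroup.centralizer ((P : Subgroup G) : Set G)).subgroupOf (Q : Subgroup G)) he
      (a := ⟨a, ha⟩) (b := ⟨b, hb⟩)
    simpa [Subgroup.mem_subgroupOf] using h1
  have hinvQ : ∀ x ∈ (Q : Subgroup G), x ≠ 1 → ∃ g : G, x = g * z * g⁻¹ := by
    intro x hxQ hx1
    by_cases hxC : x ∈ Subgroup.centralizer ((P : Subgroup G) : Set G)
    · rcases hQC x hxQ hxC with h1 | h1
      · exact absurd h1 hx1
      · exact ⟨1, by rw [h1]; group⟩
    · have h1 : x * (y ^ 1 * z * (y ^ 1)⁻¹) ∈ Subgroup.centralizer ((P : Subgroup G) : Set G) :=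
        (hmul x hxQ _ (hzQ 1)).mpr (iff_of_false hxC hz1C)
      have h2 : (y ^ 2 * z * (y ^ 2)⁻¹) * (y ^ 1 * z * (y ^ 1)⁻¹) ∈
          Subgroup.centralizer ((P : Subgroup G) : Set G) :=
        (hmul _ (hzQ 2) _ (hzQ 1)).mpr (iff_of_false hz2C hz1C)
      rcases hQC _ (mul_mem hxQ (hzQ 1)) h1 with h3 | h3
      · refine ⟨y ^ 1, ?_⟩
        rw [← hz1inv]; exact eq_inv_of_mul_eq_one_left h3
      · rcases hQC _ (mul_mem (hzQ 2) (hzQ 1)) h2 with h4 | h4
        · exfalso
          apply hz1C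
          have h5 : y ^ 2 * z * (y ^ 2)⁻¹ = y ^ 1 * z * (y ^ 1)⁻¹ := by
            rw [← hz1inv]; exact eq_inv_of_mul_eq_one_left h4
          have h6 : y ^ 1 * z * (y ^ 1)⁻¹ = z := by
            have h7 : y ^ 1 * z * (y ^ 1)⁻¹ =
                (y ^ 1)⁻¹ * (y ^ 2 * z * (y ^ 2)⁻¹) * (y ^ 1) := by group
            rw [h7, h5]; group
          rw [h6]; exact d.zC
        · refine ⟨y ^ 2, ?_⟩
          exact mul_right_cancel (h3.trans h4.symm)
  refine ⟨⟨_, hz1sq, d.QN (hzQ 1), hz1C⟩, ?_, ?_⟩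
  · intro s hs2' hs1
    have hos : orderOf s = 2 := orderOf_eq_prime hs2' hs1
    have hZ : IsPGroup q (Subgroup.zpowers s) :=
      IsPGroup.of_card (n := 1) (by rw [Nat.card_zpowers, hos, pow_one, hq2])
    obtain ⟨g, hg⟩ := exists_conj_mem_sylow Q s hZ
    have hne : g⁻¹ * s * g ≠ 1 := by
      intro h1
      apply hs1
      have h2 : s = g * (g⁻¹ * s * g) * g⁻¹ := by group
      rw [h2, h1]; group
    obtain ⟨g', hg'⟩ := hinvQ _ hg hne
    refine ⟨g * g', ?_⟩
    have h2 : s = g * (g⁻¹ * s * g) * g⁻¹ := by group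
    rw [h2, hg']; group
  · rintro l hlC ⟨j, hj⟩
    have hlcop : (orderOf l).Coprime p := by
      have h1 : orderOf l ∣ 2 ^ j := orderOf_dvd_of_pow_eq_one hj
      apply Nat.Coprime.coprime_dvd_left h1
      apply Nat.Coprime.pow_left
      rw [hp3]; decide
    have hlNQ : l ∈ Subgroup.normalizer (Q : Set G) := by
      apply mem_normalizer_of_conj_mem
      intro x hx
      have h1 := cs_cen h hlC hlcop (d.QN hx)
      rw [← h1, mul_inv_cancel_right]; exact hx
    have hlQ : l ∈ (Q : Subgroup G) := cs_B2' Q hlNQ (j := j) (by rw [hq2]; exact hj)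
    exact hQC l hlQ hlC

/-- The minimal configuration `Ctx` is contradictory. -/
theorem cs_false {P : Sylow p G} (h : Ctx p P) : False := by
  have hp := (Fact.out : p.Prime)
  obtain ⟨z, hzC, q, hq, hqp, hoz⟩ := cs_exists_z h
  haveI : Fact q.Prime := ⟨hq⟩
  obtain ⟨Q, y, d⟩ := cs_core1 h hzC hqp hoz
  obtain ⟨hq2, hp2, he, hs⟩ := cs_core2 h d
  have hp3 := cs_core3 h d hq2 hp2
  have hp1 : p - 1 = 2 := by omega
  rw [hp1] at he hs
  obtain ⟨⟨t, ht2, htN, htC⟩, hconj, h2el⟩ := cs_core4 h d hq2 hp3 he hs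
  have hz2 : z ^ 2 = 1 := by
    have h1 := pow_orderOf_eq_one z
    rwa [hoz, hq2] at h1
  have hcop2 : Nat.Coprime 2 p := (Nat.coprime_primes Nat.prime_two hp).mpr (Ne.symm hp2)
  have hzcop : (orderOf z).Coprime p := by rw [hoz, hq2]; exact hcop2
  apply inv_graph_false (p := p) (P := P) (z := z)
  refine
    { hp2 := hp2
      comm := cs_comm P h.cyc
      ne1 := ?_
      hab := h.hab
      z2 := hz2
      z1 := d.z1
      zN := fun n hn => cs_cen h hzC hzcop hn
      Cz := fun g hg => cs_cent_le h hzC d.z1 hzcop hg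
      B2 := fun n hn hpow => cs_B2 P hn hpow
      B4 := fun n hn x hx hx1 hnx => cs_B4 P h.cyc hn hx hx1 hnx
      Gii := ?_
      conj := hconj
      C1 := fun x hx hox g hg => cs_C1 h hx hox hg
      C2 := fun u hu hu1 g hg => cs_C2 h hu hu1 hg
      t := ?_ }
  · by_contra hcon
    push Not at hcon
    apply h.h1
    intro n hn
    rw [Subgroup.mem_centralizer_iff]
    intro u hu
    rw [hcon u hu, one_mul, mul_one]
  · intro c hc hcop
    have hcC : c ∈ Subgroup.centralizer ((P : Subgroup G) : Set G) := by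
      rw [Subgroup.mem_centralizer_iff]; intro u hu; exact (hc u hu).symm
    by_cases hc1 : c = 1
    · left; exact hc1
    · apply h2el c hcC
      refine ⟨(orderOf c).primeFactorsList.length, ?_⟩
      have hpow : orderOf c = 2 ^ (orderOf c).primeFactorsList.length := by
        apply Nat.eq_prime_pow_of_unique_prime_dvd (orderOf_pos c).ne'
        intro q' hq' hq'd
        haveI : Fact q'.Prime := ⟨hq'⟩
        have hq'p : q' ≠ p := by
          intro heq
          rw [heq] at hq'd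
          exact (Nat.Prime.coprime_iff_not_dvd hp).mp hcop.symm hq'd
        have hoc' : orderOf (c ^ (orderOf c / q')) = q' :=
          orderOf_pow_orderOf_div (orderOf_pos c).ne' hq'd
        have hc'C : c ^ (orderOf c / q') ∈ Subgroup.centralizer ((P : Subgroup G) : Set G) :=
          pow_mem hcC _
        obtain ⟨Q', y', d'⟩ := cs_core1 h hc'C hq'p hoc'
        exact (cs_core2 h d').1
      rw [← hpow]; exact pow_orderOf_eq_one c
  · refine ⟨t, ht2, htN, ?_⟩
    by_contra hcon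
    push Not at hcon
    apply htC
    rw [Subgroup.mem_centralizer_iff]
    intro u hu
    exact (hcon u hu).symm

end CycStructC

end Cfsg.Agent.Lib.helper72
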