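/-
Cyclic Sylow p-subgroup with abelian p'-subgroups: a finite group with a cyclic Sylow
`p`-subgroup `P` all of whose `p'`-subgroups are abelian has a normal `p`-complement or `P` is
normal (induction on the order, the minimal configuration is killed by `cs_false`).
-/
import Mathlib
import Cfsg.Agent.Lib.helper72.CycStructC

set_option autoImplicit false

namespace Cfsg.Agent.Lib.helper72

open Subgroup

universe u

section CycStructD

variable {G : Type u} [Group G] [Finite G] {p : ℕ} [Fact p.Prime]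

lemma cs_normal_of_le (P : Sylow p G) (H : Subgroup G) (hHn : H.Normal)
    (hPH : (P : Subgroup G) ≤ H) (hHN : H ≤ Subgroup.normalizer (P : Set G)) :
    (P : Subgroup G).Normal := by
  refine ⟨fun u hu x => ?_⟩
  apply cs_B2 P (hHN (hHn.conj_mem u (hPH hu) x))
  rw [conj_pow, orderOf_dvd_iff_pow_eq_one.mp (Subgroup.orderOf_dvd_natCard _ hu), mul_one,
    mul_inv_cancel]

lemma cs_N_le_C_of_pprime (P : Sylow p G) (hcyc : IsCyclic (P : Subgroup G))
    (hA : ∀ g ∈ Subgroup.normalizer (P : Set G), (orderOf g).Coprime p →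
      g ∈ Subgroup.centralizer ((P : Subgroup G) : Set G)) :
    Subgroup.normalizer (P : Set G) ≤ Subgroup.centralizer ((P : Subgroup G) : Set G) := by
  intro n hn
  have hp := (Fact.out : p.Prime)
  obtain ⟨k, hk⟩ := IsPGroup.iff_card.mp P.isPGroup'
  have hidx : ((P : Subgroup G).index).Coprime p :=
    ((Nat.Prime.coprime_iff_not_dvd hp).mpr P.not_dvd_index).symm
  have h1 : n ^ Nat.card (P : Subgroup G) ∈ Subgroup.centralizer ((P : Subgroup G) : Set G) := by
    apply hA _ (pow_mem hn _)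
    apply Nat.Coprime.coprime_dvd_left _ hidx
    apply orderOf_dvd_of_pow_eq_one
    rw [← pow_mul, Subgroup.card_mul_index, pow_card_eq_one']
  have h2 : n ^ (P : Subgroup G).index ∈ Subgroup.centralizer ((P : Subgroup G) : Set G) := by
    apply cs_P_le_C P hcyc
    apply cs_B2 P (pow_mem hn _)
    rw [← pow_mul, mul_comm, Subgroup.card_mul_index, pow_card_eq_one']
  have hcop2 : Nat.Coprime (Nat.card (P : Subgroup G)) (P : Subgroup G).index := by
    rw [hk]
    exact Nat.Coprime.pow_left k ((Nat.Prime.coprime_iff_not_dvd hp).mpr P.not_dvd_index)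
  exact cam_mem_of_coprime _ hcop2 h1 h2

/-- The hypotheses pass to a subgroup containing `P`. -/
lemma cs_sub_hyp (P : Sylow p G) (hcyc : IsCyclic (P : Subgroup G))
    (hab : ∀ H : Subgroup G, ¬ p ∣ Nat.card H → ∀ a ∈ H, ∀ b ∈ H, a * b = b * a)
    (H : Subgroup G) (hPH : (P : Subgroup G) ≤ H) :
    IsCyclic ((P.subtype hPH : Sylow p H) : Subgroup H) ∧
    (∀ K : Subgroup H, ¬ p ∣ Nat.card K → ∀ a ∈ K, ∀ b ∈ K, a * b = b * a) := by
  constructor
  · haveI := hcyc
    show IsCyclic ↥((P : Subgroup G).subgroupOf H)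
    exact isCyclic_of_surjective (Subgroup.subgroupOfEquivOfLe hPH).symm
      (MulEquiv.surjective _)
  · intro K hK a ha b hb
    have hcard : Nat.card (K.map H.subtype) = Nat.card K :=
      Subgroup.card_map_of_injective (Subgroup.subtype_injective _)
    have h1 := hab (K.map H.subtype) (by rw [hcard]; exact hK) a.1
      (Subgroup.mem_map.mpr ⟨a, ha, rfl⟩) b.1 (Subgroup.mem_map.mpr ⟨b, hb, rfl⟩)
    exact Subtype.ext h1

lemma cs_le_normalizer_of_normal_subtype (P : Sylow p G) (H : Subgroup G)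
    (hPH : (P : Subgroup G) ≤ H)
    (hH : ((P.subtype hPH : Sylow p H) : Subgroup H).Normal) :
    H ≤ Subgroup.normalizer (P : Set G) := by
  intro x hx
  apply mem_normalizer_of_conj_mem
  intro u hu
  have hu' : (⟨u, hPH hu⟩ : H) ∈ ((P.subtype hPH : Sylow p H) : Subgroup H) := hu
  have h1 := hH.conj_mem ⟨u, hPH hu⟩ hu' ⟨x, hx⟩
  exact h1

/-- If a normal subgroup `H` containing `P` has a normal `p`-complement, then `G` has a normal
`p`-complement or `P` is normal in `G`. -/
lemma cs_lemmaA (P : Sylow p G) (hcyc : IsCyclic (P : Subgroup G))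
    (hab : ∀ H : Subgroup G, ¬ p ∣ Nat.card H → ∀ a ∈ H, ∀ b ∈ H, a * b = b * a)
    (H : Subgroup G) (hHn : H.Normal) (hPH : (P : Subgroup G) ≤ H)
    (hNPC : Cfsg.HasNormalPComplement p H) :
    Cfsg.HasNormalPComplement p G ∨ (P : Subgroup G).Normal := by
  have hp := (Fact.out : p.Prime)
  by_cases hNC : Subgroup.normalizer (P : Set G) ≤
      Subgroup.centralizer ((P : Subgroup G) : Set G)
  · left
    exact Cfsg.Agent.Lib.helper2.hasNormalPComplement_of_normalizer_le_centralizer P hNC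
  right
  have hex : ∃ g ∈ Subgroup.normalizer (P : Set G), (orderOf g).Coprime p ∧
      g ∉ Subgroup.centralizer ((P : Subgroup G) : Set G) := by
    by_contra hcon
    push Not at hcon
    exact hNC (cs_N_le_C_of_pprime P hcyc hcon)
  obtain ⟨g, hgN, hgcop, hgC⟩ := hex
  obtain ⟨K₀, hK₀n, hc⟩ :=
    Cfsg.Agent.Lib.helper2.exists_normal_isComplement'_of_hasNormalPComplement hNPC
      (P.subtype hPH)
  have hidxK : K₀.index = Nat.card ((P.subtype hPH : Sylow p H) : Subgroup H) :=
    hc.symm.index_eq_card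
  have hcardK : Nat.card K₀ = ((P.subtype hPH : Sylow p H) : Subgroup H).index :=
    hc.index_eq_card.symm
  obtain ⟨kP, hkP⟩ := IsPGroup.iff_card.mp (P.subtype hPH).isPGroup'
  have hKcop : (Nat.card K₀).Coprime p := by
    rw [hcardK]
    exact ((Nat.Prime.coprime_iff_not_dvd hp).mpr (P.subtype hPH).not_dvd_index).symm
  have hF1 : ∀ c : H, (orderOf c).Coprime p → c ∈ K₀ := by
    intro c hcop
    haveI := hK₀n
    have h1 : c ^ (p ^ kP) ∈ K₀ := by
      rw [← hkP, ← hidxK]; exact Subgroup.pow_index_mem K₀ c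
    have h2 : c ^ orderOf c ∈ K₀ := by rw [pow_orderOf_eq_one]; exact one_mem K₀
    exact cam_mem_of_coprime K₀ (Nat.Coprime.pow_left kP hcop.symm) h1 h2
  have hF2 : ∀ k : H, k ∈ K₀ → (orderOf (k : G)).Coprime p := by
    intro k hk
    rw [Subgroup.orderOf_coe]
    exact Nat.Coprime.coprime_dvd_left (Subgroup.orderOf_dvd_natCard K₀ hk) hKcop
  have hF3 : ∀ c : H, ∃ k : H, k ∈ K₀ ∧ ∃ u : H, (u : G) ∈ (P : Subgroup G) ∧ c = k * u := by
    intro c
    obtain ⟨⟨k, u⟩, hku⟩ := hc.2 c
    exact ⟨k.1, k.2, u.1, u.2, hku.symm⟩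
  have hLmem : ∀ l : G, l ∈ K₀.map H.subtype ↔ ∃ hl : l ∈ H, (⟨l, hl⟩ : H) ∈ K₀ := by
    intro l
    constructor
    · rintro ⟨k, hk, rfl⟩
      exact ⟨k.2, hk⟩
    · rintro ⟨hl, hk⟩
      exact ⟨⟨l, hl⟩, hk, rfl⟩
  have hLconj : ∀ x : G, ∀ l ∈ K₀.map H.subtype, x * l * x⁻¹ ∈ K₀.map H.subtype := by
    intro x l hl
    obtain ⟨hlH, hk⟩ := (hLmem l).mp hl
    have hxl : x * l * x⁻¹ ∈ H := hHn.conj_mem l hlH x
    refine (hLmem _).mpr ⟨hxl, hF1 _ ?_⟩
    rw [Subgroup.orderOf_mk]
    have h1 : orderOf (x * l * x⁻¹) ∣ orderOf l := by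
      apply orderOf_dvd_of_pow_eq_one
      rw [conj_pow, pow_orderOf_eq_one, mul_one, mul_inv_cancel]
    have h2 : (orderOf l).Coprime p := hF2 ⟨l, hlH⟩ hk
    exact Nat.Coprime.coprime_dvd_left h1 h2
  have hLcard : Nat.card (K₀.map H.subtype) = Nat.card K₀ :=
    Subgroup.card_map_of_injective (Subgroup.subtype_injective _)
  have hgL : ∀ l ∈ K₀.map H.subtype, g * l = l * g := by
    intro l hl
    have hgNL : Subgroup.zpowers g ≤
        Subgroup.normalizer ((K₀.map H.subtype : Subgroup G) : Set G) := by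
      rw [Subgroup.zpowers_le]
      exact mem_normalizer_of_conj_mem _ _ (fun l hl => hLconj g l hl)
    have hcard := card_sup_dvd_of_le_normalizer hgNL
    rw [Nat.card_zpowers, hLcard] at hcard
    have hnd : ¬ p ∣ Nat.card ↥(K₀.map H.subtype ⊔ Subgroup.zpowers g) := by
      intro hd
      rcases (hp.dvd_mul).mp (hd.trans hcard) with h1 | h1
      · exact (Nat.Prime.coprime_iff_not_dvd hp).mp hKcop.symm h1
      · exact (Nat.Prime.coprime_iff_not_dvd hp).mp hgcop.symm h1
    exact hab _ hnd g ((le_sup_right : Subgroup.zpowers g ≤ _) (Subgroup.mem_zpowers g)) l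
      ((le_sup_left : K₀.map H.subtype ≤ _) hl)
  have hPL : ∀ u ∈ (P : Subgroup G), ∀ l ∈ K₀.map H.subtype, u * l = l * u := by
    by_contra hcon
    push Not at hcon
    obtain ⟨u₁, hu₁, l₁, hl₁, hne⟩ := hcon
    have hD : ∀ u ∈ (P : Subgroup G), u⁻¹ * (g * u * g⁻¹) ∈ (P : Subgroup G) ⊓
        Subgroup.centralizer ((K₀.map H.subtype : Subgroup G) : Set G) := by
      intro u hu
      refine Subgroup.mem_inf.mpr
        ⟨mul_mem (inv_mem hu) ((Subgroup.mem_normalizer_iff.mp hgN u).mp hu), ?_⟩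
      rw [Subgroup.mem_centralizer_iff]
      intro l hl
      have h1 := hgL l hl
      have h2 := hgL _ (hLconj u l hl)
      have h3 : u⁻¹ * g * u * l = l * (u⁻¹ * g * u) := by
        calc u⁻¹ * g * u * l = u⁻¹ * (g * (u * l * u⁻¹)) * u := by group
          _ = u⁻¹ * ((u * l * u⁻¹) * g) * u := by rw [h2]
          _ = l * (u⁻¹ * g * u) := by group
      have h4 : g⁻¹ * l = l * g⁻¹ := by
        calc g⁻¹ * l = g⁻¹ * (l * g) * g⁻¹ := by group
          _ = g⁻¹ * (g * l) * g⁻¹ := by rw [h1]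
          _ = l * g⁻¹ := by group
      calc l * (u⁻¹ * (g * u * g⁻¹)) = (l * (u⁻¹ * g * u)) * g⁻¹ := by group
        _ = (u⁻¹ * g * u * l) * g⁻¹ := by rw [h3]
        _ = u⁻¹ * g * u * (l * g⁻¹) := by group
        _ = u⁻¹ * g * u * (g⁻¹ * l) := by rw [h4]
        _ = u⁻¹ * (g * u * g⁻¹) * l := by group
    obtain ⟨a, ha⟩ := IsPGroup.iff_card.mp P.isPGroup'
    have hDle : (P : Subgroup G) ⊓
        Subgroup.centralizer ((K₀.map H.subtype : Subgroup G) : Set G) ≤ (P : Subgroup G) :=
      inf_le_left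
    have hDcard : Nat.card ↥((P : Subgroup G) ⊓
        Subgroup.centralizer ((K₀.map H.subtype : Subgroup G) : Set G)) ∣ p ^ a := by
      rw [← ha]; exact Subgroup.card_dvd_of_le hDle
    obtain ⟨b, hba, hb⟩ := (Nat.dvd_prime_pow hp).mp hDcard
    have hblt : b < a := by
      rcases Nat.lt_or_ge b a with h | h
      · exact h
      · exfalso
        have hba' : b = a := le_antisymm hba h
        have hDeq : (P : Subgroup G) ⊓
            Subgroup.centralizer ((K₀.map H.subtype : Subgroup G) : Set G) = (P : Subgroup G) := by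
          apply Subgroup.eq_of_le_of_card_ge hDle
          rw [hb, ha, hba']
        have h5 : u₁ ∈ (P : Subgroup G) ⊓
            Subgroup.centralizer ((K₀.map H.subtype : Subgroup G) : Set G) := by
          rw [hDeq]; exact hu₁
        have h6 := Subgroup.mem_centralizer_iff.mp (Subgroup.mem_inf.mp h5).2 l₁ hl₁
        exact hne h6.symm
    have hDpow : ∀ w ∈ (P : Subgroup G) ⊓
        Subgroup.centralizer ((K₀.map H.subtype : Subgroup G) : Set G),
        w ^ (p ^ (a - 1)) = 1 := by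
      intro w hw
      have h1 : orderOf w ∣ p ^ b := by rw [← hb]; exact Subgroup.orderOf_dvd_natCard _ hw
      have h2 : p ^ b ∣ p ^ (a - 1) := pow_dvd_pow p (by omega)
      exact orderOf_dvd_iff_pow_eq_one.mp (h1.trans h2)
    haveI := hcyc
    obtain ⟨u₀, hu₀⟩ := IsCyclic.exists_generator (α := (P : Subgroup G))
    have hou₀ : orderOf (u₀ : G) = p ^ a := by
      rw [Subgroup.orderOf_coe, orderOf_eq_card_of_forall_mem_zpowers hu₀, ha]
    have hx1 : (u₀ : G) ^ (p ^ (a - 1)) ≠ 1 := by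
      apply pow_ne_one_of_lt_orderOf (pow_pos hp.pos _).ne'
      rw [hou₀]
      exact Nat.pow_lt_pow_right hp.one_lt (by omega)
    have hgx : g * (u₀ : G) ^ (p ^ (a - 1)) = (u₀ : G) ^ (p ^ (a - 1)) * g := by
      have hw := hD u₀.1 u₀.2
      have hwpow := hDpow _ hw
      have hwP : (u₀ : G)⁻¹ * (g * u₀ * g⁻¹) ∈ (P : Subgroup G) := (Subgroup.mem_inf.mp hw).1
      have hcomm : Commute (u₀ : G) ((u₀ : G)⁻¹ * (g * u₀ * g⁻¹)) :=
        cs_comm P hcyc _ u₀.2 _ hwP
      have h1 : g * u₀ * g⁻¹ = (u₀ : G) * ((u₀ : G)⁻¹ * (g * u₀ * g⁻¹)) := by group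
      have h2 : g * (u₀ : G) ^ (p ^ (a - 1)) * g⁻¹ = (u₀ : G) ^ (p ^ (a - 1)) := by
        rw [← conj_pow, h1, hcomm.mul_pow, hwpow, mul_one]
      calc g * (u₀ : G) ^ (p ^ (a - 1)) = (g * (u₀ : G) ^ (p ^ (a - 1)) * g⁻¹) * g := by group
        _ = (u₀ : G) ^ (p ^ (a - 1)) * g := by rw [h2]
    apply hgC
    rw [Subgroup.mem_centralizer_iff]
    intro u hu
    exact (cs_B4 P hcyc hgN (pow_mem u₀.2 _) hx1 hgx u hu).symm
  have hHN : H ≤ Subgroup.normalizer (P : Set G) := by
    intro c hcH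
    obtain ⟨k, hk, u, hu, hcu⟩ := hF3 ⟨c, hcH⟩
    have hc' : c = (k : G) * (u : G) := congrArg Subtype.val hcu
    rw [hc']
    apply mul_mem
    · apply mem_normalizer_of_conj_mem
      intro v hv
      have hkL : (k : G) ∈ K₀.map H.subtype := (hLmem _).mpr ⟨k.2, hk⟩
      have h1 := hPL v hv _ hkL
      rw [← h1, mul_inv_cancel_right]; exact hv
    · exact Subgroup.le_normalizer hu
  exact cs_normal_of_le P H hHn hPH hHN

end CycStructD

/-- A finite group with a cyclic Sylow `p`-subgroup `P` all of whose `p'`-subgroups are abelian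
has a normal `p`-complement, or `P` is normal. -/
theorem cs_main : ∀ (n : ℕ) (G : Type u) [Group G] [Finite G] (p : ℕ) [Fact p.Prime]
    (P : Sylow p G), Nat.card G = n → IsCyclic (P : Subgroup G) →
    (∀ H : Subgroup G, ¬ p ∣ Nat.card H → ∀ a ∈ H, ∀ b ∈ H, a * b = b * a) →
    Cfsg.HasNormalPComplement p G ∨ (P : Subgroup G).Normal := by
  intro n
  induction n using Nat.strong_induction_on with
  | _ n ih =>
    intro G _ _ p _ P hn hcyc hab
    have hp := (Fact.out : p.Prime)
    by_contra hcon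
    have h1 : ¬ Subgroup.normalizer (P : Set G) ≤
        Subgroup.centralizer ((P : Subgroup G) : Set G) := fun hle =>
      hcon (Or.inl
        (Cfsg.Agent.Lib.helper2.hasNormalPComplement_of_normalizer_le_centralizer P hle))
    obtain ⟨k, hk⟩ := IsPGroup.iff_card.mp P.isPGroup'
    have hlt : ∀ H : Subgroup G, H ≠ ⊤ → Nat.card H < n := by
      intro H hne
      rw [← hn]
      by_contra hge
      exact hne (Subgroup.eq_top_of_le_card H (not_lt.mp hge))
    have h4 : ∀ H : Subgroup G, H.Normal → ¬ p ∣ H.index → H = ⊤ := by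
      intro H hHn hidx
      by_contra hne
      have hPH : (P : Subgroup G) ≤ H := by
        intro u hu
        haveI := hHn
        have h2 : u ^ H.index ∈ H := Subgroup.pow_index_mem H u
        have h3 : u ^ Nat.card (P : Subgroup G) ∈ H := by
          rw [orderOf_dvd_iff_pow_eq_one.mp (Subgroup.orderOf_dvd_natCard _ hu)]
          exact one_mem H
        have hcop : Nat.Coprime H.index (Nat.card (P : Subgroup G)) := by
          rw [hk]
          exact Nat.Coprime.pow_right k ((Nat.Prime.coprime_iff_not_dvd hp).mpr hidx).symm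
        exact cam_mem_of_coprime H hcop h2 h3
      obtain ⟨hcycH, habH⟩ := cs_sub_hyp P hcyc hab H hPH
      rcases ih (Nat.card H) (hlt H hne) H p (P.subtype hPH) rfl hcycH habH with hH | hH
      · exact hcon (cs_lemmaA P hcyc hab H hHn hPH hH)
      · exact hcon (Or.inr (cs_normal_of_le P H hHn hPH
          (cs_le_normalizer_of_normal_subtype P H hPH hH)))
    have hM : ∀ H : Subgroup G, Subgroup.normalizer (P : Set G) ≤ H → H ≠ ⊤ →
        H ≤ Subgroup.normalizer (P : Set G) := by
      intro H hNH hne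
      have hPH : (P : Subgroup G) ≤ H := le_trans Subgroup.le_normalizer hNH
      obtain ⟨hcycH, habH⟩ := cs_sub_hyp P hcyc hab H hPH
      rcases ih (Nat.card H) (hlt H hne) H p (P.subtype hPH) rfl hcycH habH with hH | hH
      · exfalso
        apply h1
        have hPN := Cfsg.Agent.Lib.helper40.pn_iff_hasNPC.mpr hH
        apply cs_N_le_C_of_pprime P hcyc
        intro g hg hgcop
        exact hPN (P : Subgroup G) hPH P.isPGroup' g (hNH hg) hg hgcop
      · exact cs_le_normalizer_of_normal_subtype P H hPH hH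
    exact cs_false (⟨hcyc, hab, h1, h4, hM⟩ : Ctx p P)

end Cfsg.Agent.Lib.helper72
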