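/-
helper72: S0679 piece KI (`kap11_shift`, `kap11_add`, `kap11_dbl`): invariance of the key
`kap11` under the three generators' actions (pure arithmetic modulo 11).
-/
import Cfsg.Agent.Lib.helper34.Deg11Defs

set_option autoImplicit false

namespace Cfsg.Agent.Lib.helper72

open Cfsg Cfsg.Agent.Lib.helper34

theorem sum16_congr11 (c c' : ℕ → ℕ) : ∀ n : ℕ, (∀ u < n, c u = c' u) → sum16 c n = sum16 c' n
  | 0, _ => rfl
  | n+1, h => by
    show sum16 c n + c n * 16 ^ n = sum16 c' n + c' n * 16 ^ n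
    rw [sum16_congr11 c c' n (fun u hu => h u (by omega)), h n (by omega)]

theorem cand11_shift (f f' : ℕ → ℕ) (h : ∀ t < 11, f' t = f ((t + 1) % 11)) (i u : ℕ)
    (hi : i < 11) : cand11 f' i u = cand11 f ((i + 1) % 11) u := by
  unfold cand11
  rw [h _ (Nat.mod_lt _ (by norm_num)), h i hi, h _ (Nat.mod_lt _ (by norm_num))]
  have e1 : ((u + i) % 11 + 1) % 11 = (u + (i + 1) % 11) % 11 := by omega
  rw [e1]

theorem key11_shift (f f' : ℕ → ℕ) (h : ∀ t < 11, f' t = f ((t + 1) % 11)) (i : ℕ)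
    (hi : i < 11) : key11 f' i = key11 f ((i + 1) % 11) := by
  unfold key11
  exact sum16_congr11 _ _ 11 (fun u _ => cand11_shift f f' h i u hi)

/-! PIECE KI (invariance of the key) -/
theorem kap11_shift (f f' : ℕ → ℕ) (h : ∀ t < 11, f' t = f ((t + 1) % 11)) :
    kap11 f' = kap11 f := by
  unfold kap11
  apply minB_perm (fun j => (j + 1) % 11) (fun j => (j + 10) % 11)
  · intro j hj
    exact ⟨by omega, key11_shift f f' h j (by omega)⟩
  · intro j hj
    refine ⟨by omega, ?_⟩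
    rw [key11_shift f f' h ((j + 10) % 11) (by omega)]
    congr 1
    omega

theorem mul_mod11_congr (a b c : ℕ) (h : a % 11 = b % 11) : (a * c) % 11 = (b * c) % 11 := by
  rw [Nat.mul_mod a, h, ← Nat.mul_mod]

theorem add11_fact : ∀ a < 11, ∀ b < 11, ((a + 1) % 11 + 11 - (b + 1) % 11) % 11 = (a + 11 - b) % 11 := by
  decide

theorem dbl11_fact : ∀ a < 11, ∀ b < 11, ((2 * a) % 11 + 11 - (2 * b) % 11) % 11 = (2 * ((a + 11 - b) % 11)) % 11 := by
  decide

theorem inv11_dbl_fact : ∀ X < 11, ∀ Y < 11,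
    ((2 * X) % 11 * inv11 ((2 * Y) % 11)) % 11 = (X * inv11 Y) % 11 := by
  decide +kernel

theorem cand11_add (f f' : ℕ → ℕ) (hf : ∀ t < 11, f t < 11)
    (h : ∀ t < 11, f' t = (f t + 1) % 11) (i u : ℕ) (hi : i < 11) :
    cand11 f' i u = cand11 f i u := by
  unfold cand11
  have hm1 : (u + i) % 11 < 11 := Nat.mod_lt _ (by norm_num)
  have hm2 : (i + 1) % 11 < 11 := Nat.mod_lt _ (by norm_num)
  rw [h _ hm1, h i hi, h _ hm2]
  have e1 := add11_fact _ (hf _ hm1) _ (hf i hi)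
  have e2 := add11_fact _ (hf _ hm2) _ (hf i hi)
  rw [e2]
  exact mul_mod11_congr _ _ _ e1

theorem cand11_dbl (f f' : ℕ → ℕ) (hf : ∀ t < 11, f t < 11)
    (h : ∀ t < 11, f' t = (2 * f t) % 11) (i u : ℕ) (hi : i < 11) :
    cand11 f' i u = cand11 f i u := by
  unfold cand11
  have hm1 : (u + i) % 11 < 11 := Nat.mod_lt _ (by norm_num)
  have hm2 : (i + 1) % 11 < 11 := Nat.mod_lt _ (by norm_num)
  rw [h _ hm1, h i hi, h _ hm2]
  have e1 := dbl11_fact _ (hf _ hm1) _ (hf i hi)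
  have e2 := dbl11_fact _ (hf _ hm2) _ (hf i hi)
  have e3 := inv11_dbl_fact ((f ((u + i) % 11) + 11 - f i) % 11) (Nat.mod_lt _ (by norm_num))
    ((f ((i + 1) % 11) + 11 - f i) % 11) (Nat.mod_lt _ (by norm_num))
  rw [e2]
  rw [mul_mod11_congr _ _ _ (e1.trans (Nat.mod_mod _ _).symm), e3]
  exact mul_mod11_congr _ _ _ (Nat.mod_mod _ _)

theorem kap11_add (f f' : ℕ → ℕ) (hf : ∀ t < 11, f t < 11)
    (h : ∀ t < 11, f' t = (f t + 1) % 11) : kap11 f' = kap11 f := by
  unfold kap11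
  apply minB_congr
  intro j hj
  unfold key11
  exact sum16_congr11 _ _ 11 (fun u _ => cand11_add f f' hf h j u (by omega))

theorem kap11_dbl (f f' : ℕ → ℕ) (hf : ∀ t < 11, f t < 11)
    (h : ∀ t < 11, f' t = (2 * f t) % 11) : kap11 f' = kap11 f := by
  unfold kap11
  apply minB_congr
  intro j hj
  unfold key11
  exact sum16_congr11 _ _ 11 (fun u _ => cand11_dbl f f' hf h j u (by omega))

end Cfsg.Agent.Lib.helper72
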