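/-
helper72: S0679 piece L (`deg11_logic`): the final case analysis, pure group theory.
(`deg11_logic` has the weaker hypothesis `hA` of the updated skeleton: the representatives
`r j` lie in `N · T`; `deg11_logic_strict` is the first version, with `r j ∈ T`.)
-/
import Mathlib

set_option autoImplicit false

namespace Cfsg.Agent.Lib.helper72

/-- If `k = n * rj * p ∈ K` with `n` normalising `⟨x⟩` and `p ∈ ⟨x⟩ ≤ K`, then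
`rj⁻¹ x rj ∈ K`. -/
theorem deg11_logic_conj {G : Type*} [Group G] (x : G) (N K : Subgroup G)
    (hxK : x ∈ K)
    (hnorm : ∀ n ∈ N, n * x * n⁻¹ ∈ Subgroup.zpowers x)
    (k n rj p : G) (hk : k ∈ K) (hn : n ∈ N) (hp : p ∈ Subgroup.zpowers x)
    (hkeq : k = n * rj * p) :
    rj⁻¹ * x * rj ∈ K := by
  have hzK : Subgroup.zpowers x ≤ K := (Subgroup.zpowers_le).2 hxK
  have h1 : n * x * n⁻¹ ∈ K := hzK (hnorm n hn)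
  have hpK : p ∈ K := hzK hp
  have h2 : k⁻¹ * (n * x * n⁻¹) * k ∈ K := K.mul_mem (K.mul_mem (K.inv_mem hk) h1) hk
  have h3 : p * (k⁻¹ * (n * x * n⁻¹) * k) * p⁻¹ ∈ K :=
    K.mul_mem (K.mul_mem hpK h2) (K.inv_mem hpK)
  have e : p * (k⁻¹ * (n * x * n⁻¹) * k) * p⁻¹ = rj⁻¹ * x * rj := by
    subst hkeq; group
  rwa [e] at h3

/-- Membership step: `k = n * rj * p ∈ K`, `n0 * rj ∈ T`, `T ≤ K`, `L1 ≤ T`, and
`K ∩ N ⊆ L1` give `k ∈ T`. -/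
theorem deg11_logic_mem {G : Type*} [Group G] (x : G) (N L1 T K : Subgroup G)
    (hzK : Subgroup.zpowers x ≤ K) (hzL : Subgroup.zpowers x ≤ L1)
    (hNK : ∀ n ∈ N, n ∈ K → n ∈ L1) (hLT : L1 ≤ T) (hTK : T ≤ K)
    (k n rj p n0 : G) (hk : k ∈ K) (hn : n ∈ N) (hp : p ∈ Subgroup.zpowers x)
    (hkeq : k = n * rj * p) (hn0 : n0 ∈ N) (hn0r : n0 * rj ∈ T) : k ∈ T := by
  have h3 : k * p⁻¹ * (n0 * rj)⁻¹ ∈ K :=
    K.mul_mem (K.mul_mem hk (K.inv_mem (hzK hp))) (K.inv_mem (hTK hn0r))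
  have e : k * p⁻¹ * (n0 * rj)⁻¹ = n * n0⁻¹ := by subst hkeq; group
  rw [e] at h3
  have h4 : n * n0⁻¹ ∈ L1 := hNK _ (N.mul_mem hn (N.inv_mem hn0)) h3
  have e2 : k = n * n0⁻¹ * (n0 * rj) * p := by subst hkeq; group
  rw [e2]
  exact T.mul_mem (T.mul_mem (hLT h4) hn0r) (hLT (hzL hp))

/-- One side of the case analysis: `L1 ≤ K`, `¬ L2 ≤ K`, `h ∉ K`. -/
theorem deg11_logic_side {G : Type*} [Group G] (x h : G) (N L1 L2 M1 M2 K : Subgroup G)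
    (B : Prop) (J : ℕ) (r : ℕ → G)
    (hxK : x ∈ K)
    (hnorm : ∀ n ∈ N, n * x * n⁻¹ ∈ Subgroup.zpowers x)
    (hdec : ∀ k ∈ K, k ∈ N ∨ ∃ j < J, ∃ n ∈ N, ∃ p ∈ Subgroup.zpowers x, k = n * r j * p)
    (hA : ∀ j < J, (r j)⁻¹ * x * r j ∈ K →
      B ∨ ((∃ n ∈ N, n * r j ∈ L1) ∧ L1 ≤ K) ∨ ((∃ n ∈ N, n * r j ∈ L2) ∧ L2 ≤ K) ∨
        ((∃ n ∈ N, n * r j ∈ M1) ∧ M1 ≤ K) ∨ ((∃ n ∈ N, n * r j ∈ M2) ∧ M2 ≤ K))
    (hLM1 : L1 ≤ M1) (hLM2 : L2 ≤ M2)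
    (hN1 : ∀ n ∈ N, n ∈ L1 ∨ n * h ∈ L1)
    (hx1 : x ∈ L1) (hB : ¬ B) (hL1 : L1 ≤ K) (hL2 : ¬ L2 ≤ K) (hh : h ∉ K) :
    K = L1 ∨ K = M1 := by
  have hzK : Subgroup.zpowers x ≤ K := (Subgroup.zpowers_le).2 hxK
  have hzL : Subgroup.zpowers x ≤ L1 := (Subgroup.zpowers_le).2 hx1
  have hNK : ∀ n ∈ N, n ∈ K → n ∈ L1 := by
    intro n hn hnK
    rcases hN1 n hn with h1 | h1
    · exact h1
    · exfalso
      apply hh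
      have h2 : n⁻¹ * (n * h) ∈ K := K.mul_mem (K.inv_mem hnK) (hL1 h1)
      simpa using h2
  by_cases hM : M1 ≤ K
  · right
    refine le_antisymm ?_ hM
    intro k hk
    rcases hdec k hk with hkN | ⟨j, hj, n, hn, p, hp, hkeq⟩
    · exact hLM1 (hNK k hkN hk)
    · have hy := deg11_logic_conj x N K hxK hnorm k n (r j) p hk hn hp hkeq
      have hr : ∃ n0 ∈ N, n0 * r j ∈ M1 := by
        rcases hA j hj hy with hb | ⟨⟨n0, h0, h1⟩, h2⟩ | ⟨_, h2⟩ | ⟨h1, h2⟩ | ⟨_, h2⟩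
        · exact absurd hb hB
        · exact ⟨n0, h0, hLM1 h1⟩
        · exact absurd h2 hL2
        · exact h1
        · exact absurd (hLM2.trans h2) hL2
      obtain ⟨n0, hn0, hn0r⟩ := hr
      exact deg11_logic_mem x N L1 M1 K hzK hzL hNK hLM1 hM k n (r j) p n0 hk hn hp hkeq
        hn0 hn0r
  · left
    refine le_antisymm ?_ hL1
    intro k hk
    rcases hdec k hk with hkN | ⟨j, hj, n, hn, p, hp, hkeq⟩
    · exact hNK k hkN hk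
    · have hy := deg11_logic_conj x N K hxK hnorm k n (r j) p hk hn hp hkeq
      have hr : ∃ n0 ∈ N, n0 * r j ∈ L1 := by
        rcases hA j hj hy with hb | ⟨h1, _⟩ | ⟨_, h2⟩ | ⟨_, h2⟩ | ⟨_, h2⟩
        · exact absurd hb hB
        · exact h1
        · exact absurd h2 hL2
        · exact absurd h2 hM
        · exact absurd (hLM2.trans h2) hL2
      obtain ⟨n0, hn0, hn0r⟩ := hr
      exact deg11_logic_mem x N L1 L1 K hzK hzL hNK le_rfl hL1 k n (r j) p n0 hk hn hp hkeq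
        hn0 hn0r

/-! PIECE L (final logic) -/
theorem deg11_logic {G : Type*} [Group G] (x h : G) (N L1 L2 M1 M2 K : Subgroup G) (B : Prop)
    (J : ℕ) (r : ℕ → G)
    (hord : orderOf x = 11)
    (hxK : x ∈ K)
    (hnorm : ∀ n ∈ N, n * x * n⁻¹ ∈ Subgroup.zpowers x)
    (hdec : ∀ k ∈ K, k ∈ N ∨ ∃ j < J, ∃ n ∈ N, ∃ p ∈ Subgroup.zpowers x, k = n * r j * p)
    (hA : ∀ j < J, (r j)⁻¹ * x * r j ∈ K →
      B ∨ ((∃ n ∈ N, n * r j ∈ L1) ∧ L1 ≤ K) ∨ ((∃ n ∈ N, n * r j ∈ L2) ∧ L2 ≤ K) ∨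
        ((∃ n ∈ N, n * r j ∈ M1) ∧ M1 ≤ K) ∨ ((∃ n ∈ N, n * r j ∈ M2) ∧ M2 ≤ K))
    (hLM1 : L1 ≤ M1) (hLM2 : L2 ≤ M2)
    (h12 : L1 ≤ K → L2 ≤ K → B)
    (hN1 : ∀ n ∈ N, n ∈ L1 ∨ n * h ∈ L1) (hN2 : ∀ n ∈ N, n ∈ L2 ∨ n * h ∈ L2)
    (hh1 : h ∈ K → L1 ≤ K → L2 ≤ K) (hh2 : h ∈ K → L2 ≤ K → L1 ≤ K)
    (hx1 : x ∈ L1) (hx2 : x ∈ L2)
    (hns : ¬ K ≤ N) :
    B ∨ K = L1 ∨ K = L2 ∨ K = M1 ∨ K = M2 := by
  have _hord := hord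
  by_cases hB : B
  · exact Or.inl hB
  right
  obtain ⟨k, hk, hkN⟩ := SetLike.not_le_iff_exists.1 hns
  rcases hdec k hk with h0 | ⟨j, hj, n, hn, p, hp, hkeq⟩
  · exact absurd h0 hkN
  have hy := deg11_logic_conj x N K hxK hnorm k n (r j) p hk hn hp hkeq
  have hL : L1 ≤ K ∨ L2 ≤ K := by
    rcases hA j hj hy with hb | ⟨_, h2⟩ | ⟨_, h2⟩ | ⟨_, h2⟩ | ⟨_, h2⟩
    · exact absurd hb hB
    · exact Or.inl h2
    · exact Or.inr h2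
    · exact Or.inl (hLM1.trans h2)
    · exact Or.inr (hLM2.trans h2)
  rcases hL with hL1 | hL2
  · have hL2 : ¬ L2 ≤ K := fun h' => hB (h12 hL1 h')
    have hh : h ∉ K := fun h' => hL2 (hh1 h' hL1)
    rcases deg11_logic_side x h N L1 L2 M1 M2 K B J r hxK hnorm hdec hA hLM1 hLM2 hN1 hx1
      hB hL1 hL2 hh with e | e
    · exact Or.inl e
    · exact Or.inr (Or.inr (Or.inl e))
  · have hL1 : ¬ L1 ≤ K := fun h' => hB (h12 h' hL2)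
    have hh : h ∉ K := fun h' => hL1 (hh2 h' hL2)
    have hA' : ∀ j < J, (r j)⁻¹ * x * r j ∈ K →
        B ∨ ((∃ n ∈ N, n * r j ∈ L2) ∧ L2 ≤ K) ∨ ((∃ n ∈ N, n * r j ∈ L1) ∧ L1 ≤ K) ∨
          ((∃ n ∈ N, n * r j ∈ M2) ∧ M2 ≤ K) ∨ ((∃ n ∈ N, n * r j ∈ M1) ∧ M1 ≤ K) := by
      intro j hj hy
      rcases hA j hj hy with hb | h1 | h1 | h1 | h1
      · exact Or.inl hb
      · exact Or.inr (Or.inr (Or.inl h1))
      · exact Or.inr (Or.inl h1)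
      · exact Or.inr (Or.inr (Or.inr (Or.inr h1)))
      · exact Or.inr (Or.inr (Or.inr (Or.inl h1)))
    rcases deg11_logic_side x h N L2 L1 M2 M1 K B J r hxK hnorm hdec hA' hLM2 hLM1 hN2 hx2
      hB hL2 hL1 hh with e | e
    · exact Or.inr (Or.inl e)
    · exact Or.inr (Or.inr (Or.inr e))

/-- The first version of piece L (`r j ∈ T` instead of `r j ∈ N · T`). -/
theorem deg11_logic_strict {G : Type*} [Group G] (x h : G) (N L1 L2 M1 M2 K : Subgroup G)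
    (B : Prop) (J : ℕ) (r : ℕ → G)
    (hord : orderOf x = 11)
    (hxK : x ∈ K)
    (hnorm : ∀ n ∈ N, n * x * n⁻¹ ∈ Subgroup.zpowers x)
    (hdec : ∀ k ∈ K, k ∈ N ∨ ∃ j < J, ∃ n ∈ N, ∃ p ∈ Subgroup.zpowers x, k = n * r j * p)
    (hA : ∀ j < J, (r j)⁻¹ * x * r j ∈ K →
      B ∨ (r j ∈ L1 ∧ L1 ≤ K) ∨ (r j ∈ L2 ∧ L2 ≤ K) ∨ (r j ∈ M1 ∧ M1 ≤ K) ∨ (r j ∈ M2 ∧ M2 ≤ K))
    (hLM1 : L1 ≤ M1) (hLM2 : L2 ≤ M2)
    (h12 : L1 ≤ K → L2 ≤ K → B)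
    (hN1 : ∀ n ∈ N, n ∈ L1 ∨ n * h ∈ L1) (hN2 : ∀ n ∈ N, n ∈ L2 ∨ n * h ∈ L2)
    (hh1 : h ∈ K → L1 ≤ K → L2 ≤ K) (hh2 : h ∈ K → L2 ≤ K → L1 ≤ K)
    (hx1 : x ∈ L1) (hx2 : x ∈ L2)
    (hns : ¬ K ≤ N) :
    B ∨ K = L1 ∨ K = L2 ∨ K = M1 ∨ K = M2 := by
  refine deg11_logic x h N L1 L2 M1 M2 K B J r hord hxK hnorm hdec ?_ hLM1 hLM2 h12 hN1 hN2
    hh1 hh2 hx1 hx2 hns
  intro j hj hy
  have w : ∀ T : Subgroup G, r j ∈ T → ∃ n ∈ N, n * r j ∈ T :=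
    fun T hT => ⟨1, N.one_mem, by simpa using hT⟩
  rcases hA j hj hy with hb | ⟨h1, h2⟩ | ⟨h1, h2⟩ | ⟨h1, h2⟩ | ⟨h1, h2⟩
  · exact Or.inl hb
  · exact Or.inr (Or.inl ⟨w _ h1, h2⟩)
  · exact Or.inr (Or.inr (Or.inl ⟨w _ h1, h2⟩))
  · exact Or.inr (Or.inr (Or.inr (Or.inl ⟨w _ h1, h2⟩)))
  · exact Or.inr (Or.inr (Or.inr (Or.inr ⟨w _ h1, h2⟩)))

end Cfsg.Agent.Lib.helper72
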