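import Mathlib
import Cfsg.Prelude.Def_RootSubgroups
import Cfsg.Agent.Lib.helper85.McLDefs

/-!
# S5075 piece UNIP: an element of `H` acting trivially on `V/U₂`, `U₂/U₁`, `U₁` is `1`
when `O_p(H) = 1`.
-/

set_option autoImplicit false

open Cfsg.Agent.Lib.helper85.McL

namespace Cfsg.Agent.Lib.helper72.McL

universe u

variable {p : ℕ} [Fact p.Prime] {V : Type u} [AddCommGroup V] [Module (ZMod p) V]

private theorem h72_unip_nsmul (x : V) (m : ℕ) (hm : p ∣ m) : m • x = 0 := by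
  rw [← Nat.cast_smul_eq_nsmul (ZMod p), (ZMod.natCast_eq_zero_iff m p).mpr hm, zero_smul]

private theorem h72_unip_pow (h : V ≃ₗ[ZMod p] V) (v a b : V)
    (h1 : h v = v + a) (h2 : h a = a + b) (h3 : h b = b) (n : ℕ) :
    (h ^ n) v = v + n • a + (n.choose 2) • b := by
  induction n with
  | zero => simp
  | succ n ih =>
    have hc : Nat.choose (n + 1) 2 = n + Nat.choose n 2 := by
      rw [Nat.choose_succ_succ' n 1]; simp
    rw [pow_succ', LinearEquiv.mul_apply, ih, map_add, map_add, map_nsmul, map_nsmul, h1, h2, h3,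
      hc, add_smul, add_smul, smul_add, one_smul]
    abel

/-- PIECE UNIP. -/
theorem unip_trivial (hp : p ≠ 2) (H : Subgroup (V ≃ₗ[ZMod p] V))
    (hOp : Cfsg.pCore p ↥H = ⊥) : UnipHyp H := by
  intro U₁ U₂ hU₁ hU₂ k hk h1 h2 h3
  have hpp : p.Prime := Fact.out
  let N : Subgroup ↥H :=
    { carrier := {h | (∀ v, (h : V ≃ₗ[ZMod p] V) v - v ∈ U₂) ∧
          (∀ u ∈ U₂, (h : V ≃ₗ[ZMod p] V) u - u ∈ U₁) ∧
          (∀ u ∈ U₁, (h : V ≃ₗ[ZMod p] V) u = u)}
      mul_mem' := by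
        rintro a b ⟨a1, a2, a3⟩ ⟨b1, b2, b3⟩
        refine ⟨fun v => ?_, fun u hu => ?_, fun u hu => ?_⟩
        · have e : ((a * b : ↥H) : V ≃ₗ[ZMod p] V) v - v =
              ((a : V ≃ₗ[ZMod p] V) ((b : V ≃ₗ[ZMod p] V) v) - (b : V ≃ₗ[ZMod p] V) v) +
                ((b : V ≃ₗ[ZMod p] V) v - v) := by
            rw [Subgroup.coe_mul, LinearEquiv.mul_apply]; abel
          rw [e]
          exact U₂.add_mem (a1 _) (b1 v)
        · have e : ((a * b : ↥H) : V ≃ₗ[ZMod p] V) u - u =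
              ((a : V ≃ₗ[ZMod p] V) ((b : V ≃ₗ[ZMod p] V) u) - (b : V ≃ₗ[ZMod p] V) u) +
                ((b : V ≃ₗ[ZMod p] V) u - u) := by
            rw [Subgroup.coe_mul, LinearEquiv.mul_apply]; abel
          rw [e]
          exact U₁.add_mem (a2 _ (hU₂ _ b.2 u hu)) (b2 u hu)
        · rw [Subgroup.coe_mul, LinearEquiv.mul_apply, b3 u hu, a3 u hu]
      one_mem' := by
        refine ⟨fun v => ?_, fun u _ => ?_, fun u _ => ?_⟩
        · simp
        · simp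
        · simp
      inv_mem' := by
        rintro a ⟨a1, a2, a3⟩
        refine ⟨fun v => ?_, fun u hu => ?_, fun u hu => ?_⟩
        · have e : ((a⁻¹ : ↥H) : V ≃ₗ[ZMod p] V) v - v =
              -((a : V ≃ₗ[ZMod p] V) (((a⁻¹ : ↥H) : V ≃ₗ[ZMod p] V) v) -
                ((a⁻¹ : ↥H) : V ≃ₗ[ZMod p] V) v) := by
            rw [Subgroup.coe_inv, ← LinearEquiv.mul_apply, mul_inv_cancel, LinearEquiv.coe_one, id_eq]
            abel
          rw [e]
          exact U₂.neg_mem (a1 _)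
        · have e : ((a⁻¹ : ↥H) : V ≃ₗ[ZMod p] V) u - u =
              -((a : V ≃ₗ[ZMod p] V) (((a⁻¹ : ↥H) : V ≃ₗ[ZMod p] V) u) -
                ((a⁻¹ : ↥H) : V ≃ₗ[ZMod p] V) u) := by
            rw [Subgroup.coe_inv, ← LinearEquiv.mul_apply, mul_inv_cancel, LinearEquiv.coe_one, id_eq]
            abel
          rw [e]
          exact U₁.neg_mem (a2 _ (hU₂ _ (a⁻¹).2 u hu))
        · have e := a3 u hu
          rw [Subgroup.coe_inv]
          conv_lhs => rw [← e]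
          rw [← LinearEquiv.mul_apply, inv_mul_cancel, LinearEquiv.coe_one, id_eq] }
  have hN : N.Normal := by
    constructor
    rintro a ⟨a1, a2, a3⟩ g
    refine ⟨fun v => ?_, fun u hu => ?_, fun u hu => ?_⟩
    · have e : ((g * a * g⁻¹ : ↥H) : V ≃ₗ[ZMod p] V) v - v =
          (g : V ≃ₗ[ZMod p] V) ((a : V ≃ₗ[ZMod p] V) (((g⁻¹ : ↥H) : V ≃ₗ[ZMod p] V) v) -
            ((g⁻¹ : ↥H) : V ≃ₗ[ZMod p] V) v) := by
        rw [map_sub, Subgroup.coe_mul, Subgroup.coe_mul, LinearEquiv.mul_apply,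
          LinearEquiv.mul_apply]
        congr 1
        rw [Subgroup.coe_inv, ← LinearEquiv.mul_apply, mul_inv_cancel, LinearEquiv.coe_one, id_eq]
      rw [e]
      exact hU₂ _ g.2 _ (a1 _)
    · have e : ((g * a * g⁻¹ : ↥H) : V ≃ₗ[ZMod p] V) u - u =
          (g : V ≃ₗ[ZMod p] V) ((a : V ≃ₗ[ZMod p] V) (((g⁻¹ : ↥H) : V ≃ₗ[ZMod p] V) u) -
            ((g⁻¹ : ↥H) : V ≃ₗ[ZMod p] V) u) := by
        rw [map_sub, Subgroup.coe_mul, Subgroup.coe_mul, LinearEquiv.mul_apply,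
          LinearEquiv.mul_apply]
        congr 1
        rw [Subgroup.coe_inv, ← LinearEquiv.mul_apply, mul_inv_cancel, LinearEquiv.coe_one, id_eq]
      rw [e]
      exact hU₁ _ g.2 _ (a2 _ (hU₂ _ (g⁻¹).2 u hu))
    · rw [Subgroup.coe_mul, Subgroup.coe_mul, LinearEquiv.mul_apply, LinearEquiv.mul_apply,
        a3 _ (hU₁ _ (g⁻¹).2 u hu), Subgroup.coe_inv, ← LinearEquiv.mul_apply, mul_inv_cancel,
        LinearEquiv.coe_one, id_eq]
  have hpN : IsPGroup p ↥N := by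
    rintro ⟨a, a1, a2, a3⟩
    refine ⟨1, ?_⟩
    rw [pow_one]
    apply Subtype.ext
    apply Subtype.ext
    apply LinearEquiv.ext
    intro v
    have key := h72_unip_pow (a : V ≃ₗ[ZMod p] V) v ((a : V ≃ₗ[ZMod p] V) v - v)
      ((a : V ≃ₗ[ZMod p] V) ((a : V ≃ₗ[ZMod p] V) v - v) - ((a : V ≃ₗ[ZMod p] V) v - v))
      (by abel) (by abel) (a3 _ (a2 _ (a1 v))) p
    have hp2 : 2 < p := lt_of_le_of_ne hpp.two_le (Ne.symm hp)
    rw [h72_unip_nsmul _ p dvd_rfl,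
      h72_unip_nsmul _ (p.choose 2) (hpp.dvd_choose_self (by norm_num) hp2), add_zero,
      add_zero] at key
    simpa using key
  have hle : N ≤ Cfsg.pCore p ↥H := le_sSup ⟨hN, hpN⟩
  rw [hOp] at hle
  have hkN : (⟨k, hk⟩ : ↥H) ∈ N := ⟨h1, h2, h3⟩
  have h0 := hle hkN
  rw [Subgroup.mem_bot] at h0
  exact congrArg Subtype.val h0

end Cfsg.Agent.Lib.helper72.McL
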