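import Mathlib
import Cfsg.Agent.Lib.helper79.PearlX

set_option autoImplicit false
open Cfsg

namespace Cfsg.Agent.Lib.helper79.P3

open Cfsg.Agent.Lib.helper68

theorem h72_mem_centralizer_single {G : Type*} [Group G] (a c : G) :
    c ∈ Subgroup.centralizer ({a} : Set G) ↔ a * c = c * a := by
  rw [Subgroup.mem_centralizer_iff]
  constructor
  · intro h; exact h a rfl
  · intro h y hy
    rw [Set.mem_singleton_iff] at hy
    subst hy
    exact h

theorem h72_card_centralizer_conj {G : Type*} [Group G] (g x : G) :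
    Nat.card (Subgroup.centralizer ({g⁻¹ * x * g} : Set G)) = Nat.card (Subgroup.centralizer ({x} : Set G)) := by
  refine Nat.card_congr
    { toFun := fun c => ⟨g * c.1 * g⁻¹, ?_⟩
      invFun := fun d => ⟨g⁻¹ * d.1 * g, ?_⟩
      left_inv := fun c => Subtype.ext (by simp [mul_assoc])
      right_inv := fun d => Subtype.ext (by simp [mul_assoc]) }
  · have hc := (h72_mem_centralizer_single _ _).mp c.2
    rw [h72_mem_centralizer_single]
    calc x * (g * c.1 * g⁻¹) = g * ((g⁻¹ * x * g) * c.1) * g⁻¹ := by group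
      _ = g * (c.1 * (g⁻¹ * x * g)) * g⁻¹ := by rw [hc]
      _ = g * c.1 * g⁻¹ * x := by group
  · have hd := (h72_mem_centralizer_single _ _).mp d.2
    rw [h72_mem_centralizer_single]
    calc g⁻¹ * x * g * (g⁻¹ * d.1 * g) = g⁻¹ * (x * d.1) * g := by group
      _ = g⁻¹ * (d.1 * x) * g := by rw [hd]
      _ = g⁻¹ * d.1 * g * (g⁻¹ * x * g) := by group

/-- Sub-fact (c1) of NONUNIF: for a non-uniform `h ∉ P_2`, `com h x ∉ P_3` (FRAT as a hypothesis). -/
theorem h72_p3_com_not_mem {G : Type*} [Group G] [Finite G] (n : ℕ) (hn : 3 ≤ n) (hG : Nat.card G = 3 ^ n) (x : G)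
    (hx : x ^ 3 = 1) (hC : Nat.card (Subgroup.centralizer ({x} : Set G)) = 3 ^ 2)
    (hFRAT : ∀ H : Subgroup G, H ⊔ gam G 2 = ⊤ → H = ⊤) (h : G) (hh : h ∉ gam G 2)
    (hCh : Nat.card (Subgroup.centralizer ({h} : Set G)) ≠ 3 ^ 2) : com h x ∉ gam G 3 := by
  have hp3 : Fact (Nat.Prime 3) := ⟨by norm_num⟩
  intro hcon
  have hxh : com x h ∈ gam G 3 := by
    have e : com x h = (com h x)⁻¹ := by unfold com; group
    rw [e]; exact inv_mem hcon
  obtain ⟨g, hg2, hg⟩ := Cfsg.Agent.Lib.helper79.h79_px_onto 3 n hG x hC hn 2 (by norm_num) (by omega) _ hxh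
  have h1 : g⁻¹ * x * g = h⁻¹ * x * h := by
    unfold com at hg
    calc g⁻¹ * x * g = x * (x⁻¹ * g⁻¹ * x * g) := by group
      _ = x * (x⁻¹ * h⁻¹ * x * h) := by rw [hg]
      _ = h⁻¹ * x * h := by group
  have ht : x * (h * g⁻¹) = h * g⁻¹ * x := by
    calc x * (h * g⁻¹) = h * (h⁻¹ * x * h) * g⁻¹ := by group
      _ = h * (g⁻¹ * x * g) * g⁻¹ := by rw [h1]
      _ = h * g⁻¹ * x := by group
  have hxc : x ∈ Subgroup.centralizer ({x} : Set G) := (h72_mem_centralizer_single x x).mpr rfl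
  have htc : h * g⁻¹ ∈ Subgroup.centralizer ({x} : Set G) := (h72_mem_centralizer_single x _).mpr ht
  have hnotop : Subgroup.centralizer ({x} : Set G) ≠ ⊤ := by
    intro hcent
    rw [hcent, Subgroup.card_top, hG] at hC
    have := Nat.pow_right_injective (by norm_num : 2 ≤ 3) hC
    omega
  have hidx : (gam G 2).index = 3 ^ 2 := Cfsg.Agent.Lib.helper79.h79_px_index 3 n hG x hC hn 2 le_rfl (by omega)
  have hQ : Nat.card (G ⧸ gam G 2) = 9 := by
    rw [← Subgroup.index_eq_card, hidx]; norm_num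
  have hx2 : x ∉ gam G 2 := Cfsg.Agent.Lib.helper79.h79_px_not_mem 3 n hG x hC hn
  -- the key membership
  have hmem : (QuotientGroup.mk (h * g⁻¹) : G ⧸ gam G 2) ∈ Subgroup.zpowers (QuotientGroup.mk x : G ⧸ gam G 2) := by
    by_contra hnot
    have hx1 : (QuotientGroup.mk x : G ⧸ gam G 2) ≠ 1 := by
      intro h0; exact hx2 ((QuotientGroup.eq_one_iff _).mp h0)
    have hx3' : (QuotientGroup.mk x : G ⧸ gam G 2) ^ 3 = 1 := by
      have : (QuotientGroup.mk (x ^ 3) : G ⧸ gam G 2) = 1 := by rw [hx]; rfl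
      exact this
    have hord : orderOf (QuotientGroup.mk x : G ⧸ gam G 2) = 3 := by
      have hd := orderOf_dvd_of_pow_eq_one hx3'
      rcases (Nat.dvd_prime (by norm_num : Nat.Prime 3)).mp hd with h1' | h3'
      · exact absurd (orderOf_eq_one_iff.mp h1') hx1
      · exact h3'
    have hX3 : Nat.card (Subgroup.zpowers (QuotientGroup.mk x : G ⧸ gam G 2)) = 3 := by
      rw [Nat.card_zpowers, hord]
    have hd1 : 3 ∣ Nat.card (Subgroup.zpowers (QuotientGroup.mk x : G ⧸ gam G 2) ⊔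
        Subgroup.zpowers (QuotientGroup.mk (h * g⁻¹) : G ⧸ gam G 2) : Subgroup (G ⧸ gam G 2)) := by
      rw [← hX3]; exact Subgroup.card_dvd_of_le le_sup_left
    have hd2 : Nat.card (Subgroup.zpowers (QuotientGroup.mk x : G ⧸ gam G 2) ⊔
        Subgroup.zpowers (QuotientGroup.mk (h * g⁻¹) : G ⧸ gam G 2) : Subgroup (G ⧸ gam G 2)) ∣ 3 ^ 2 := by
      have := Subgroup.card_subgroup_dvd_card (Subgroup.zpowers (QuotientGroup.mk x : G ⧸ gam G 2) ⊔
        Subgroup.zpowers (QuotientGroup.mk (h * g⁻¹) : G ⧸ gam G 2))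
      rw [hQ] at this
      exact this
    have hne3 : Nat.card (Subgroup.zpowers (QuotientGroup.mk x : G ⧸ gam G 2) ⊔
        Subgroup.zpowers (QuotientGroup.mk (h * g⁻¹) : G ⧸ gam G 2) : Subgroup (G ⧸ gam G 2)) ≠ 3 := by
      intro h3
      have heq := Subgroup.eq_of_le_of_card_ge (le_sup_left : Subgroup.zpowers (QuotientGroup.mk x : G ⧸ gam G 2) ≤
        Subgroup.zpowers (QuotientGroup.mk x : G ⧸ gam G 2) ⊔ Subgroup.zpowers (QuotientGroup.mk (h * g⁻¹) : G ⧸ gam G 2))
        (by rw [hX3, h3])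
      apply hnot
      rw [heq]
      exact (le_sup_right : Subgroup.zpowers (QuotientGroup.mk (h * g⁻¹) : G ⧸ gam G 2) ≤ _)
        (Subgroup.mem_zpowers _)
    have h9 : Nat.card (Subgroup.zpowers (QuotientGroup.mk x : G ⧸ gam G 2) ⊔
        Subgroup.zpowers (QuotientGroup.mk (h * g⁻¹) : G ⧸ gam G 2) : Subgroup (G ⧸ gam G 2)) = 9 := by
      obtain ⟨m, hm, hm'⟩ := (Nat.dvd_prime_pow (by norm_num : Nat.Prime 3)).mp hd2
      rw [hm'] at hd1 hne3 ⊢
      interval_cases m
      · norm_num at hd1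
      · exact absurd rfl hne3
      · norm_num
    have htop : Subgroup.zpowers (QuotientGroup.mk x : G ⧸ gam G 2) ⊔
        Subgroup.zpowers (QuotientGroup.mk (h * g⁻¹) : G ⧸ gam G 2) = ⊤ :=
      Subgroup.eq_top_of_card_eq _ (by rw [h9, hQ])
    have hmap : (Subgroup.zpowers x ⊔ Subgroup.zpowers (h * g⁻¹)).map (QuotientGroup.mk' (gam G 2)) = ⊤ := by
      rw [Subgroup.map_sup, MonoidHom.map_zpowers, MonoidHom.map_zpowers]
      exact htop
    have hsup : (Subgroup.zpowers x ⊔ Subgroup.zpowers (h * g⁻¹)) ⊔ gam G 2 = ⊤ := by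
      rw [eq_top_iff]
      intro y _
      have hy : (QuotientGroup.mk' (gam G 2)) y ∈ (Subgroup.zpowers x ⊔ Subgroup.zpowers (h * g⁻¹)).map (QuotientGroup.mk' (gam G 2)) := by
        rw [hmap]; exact Subgroup.mem_top _
      obtain ⟨w, hw, hwy⟩ := hy
      have hmem' : w⁻¹ * y ∈ gam G 2 := QuotientGroup.eq.mp hwy
      have e : y = w * (w⁻¹ * y) := by group
      rw [e]
      exact Subgroup.mul_mem_sup hw hmem'
    have hM := hFRAT _ hsup
    apply hnotop
    rw [eq_top_iff, ← hM]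
    exact sup_le ((Subgroup.zpowers_le).mpr hxc) ((Subgroup.zpowers_le).mpr htc)
  obtain ⟨k, hk⟩ := Subgroup.mem_zpowers_iff.mp hmem
  have hk' : (QuotientGroup.mk (x ^ k) : G ⧸ gam G 2) = QuotientGroup.mk (h * g⁻¹) := by
    rw [← hk]; rfl
  have hm2 : (x ^ k)⁻¹ * (h * g⁻¹) ∈ gam G 2 := QuotientGroup.eq.mp hk'
  have hmg : (x ^ k)⁻¹ * (h * g⁻¹) * g ∈ gam G 2 := Subgroup.mul_mem _ hm2 hg2
  have hh' : h = x ^ k * ((x ^ k)⁻¹ * (h * g⁻¹) * g) := by group
  -- trichotomy for x ^ k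
  have hx3z : x ^ (3 : ℤ) = 1 := by
    have : x ^ ((3 : ℕ) : ℤ) = 1 := by rw [zpow_natCast, hx]
    exact this
  have hk3 : x ^ k = x ^ (k % 3) := by
    conv_lhs => rw [← Int.emod_add_mul_ediv k 3]
    rw [zpow_add, zpow_mul, hx3z, one_zpow, mul_one]
  have hr0 := Int.emod_nonneg k (by norm_num : (3 : ℤ) ≠ 0)
  have hr3 := Int.emod_lt_of_pos k (by norm_num : (0 : ℤ) < 3)
  have hcases : k % 3 = 0 ∨ k % 3 = 1 ∨ k % 3 = 2 := by omega
  rcases hcases with h0 | h1' | h2'
  · rw [hk3, h0, zpow_zero, one_mul] at hh'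
    apply hh
    rw [hh']
    rw [hk3, h0, zpow_zero] at hmg
    exact hmg
  · rw [hk3, h1', zpow_one] at hh' hmg
    obtain ⟨g', hg'⟩ := Cfsg.Agent.Lib.helper79.h79_px_conj 3 n hG x hC hn _ hmg
    apply hCh
    rw [hh', ← hg', h72_card_centralizer_conj, hC]
  · have hxinv : x ^ (2 : ℤ) = x⁻¹ := by
      have h3 : x * x * x = 1 := by
        have := hx
        simpa [pow_succ] using this
      have : x ^ (2 : ℤ) = x * x := by
        have : x ^ ((2 : ℕ) : ℤ) = x * x := by rw [zpow_natCast, pow_two]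
        exact this
      rw [this]
      exact eq_inv_of_mul_eq_one_left h3
    rw [hk3, h2', hxinv] at hh' hmg
    have hC' : Nat.card (Subgroup.centralizer ({x⁻¹} : Set G)) = 3 ^ 2 := by
      have e : Subgroup.centralizer ({x⁻¹} : Set G) = Subgroup.centralizer ({x} : Set G) := by
        ext c
        rw [h72_mem_centralizer_single, h72_mem_centralizer_single]
        constructor
        · intro hc
          calc x * c = x * (c * x⁻¹) * x := by group
            _ = x * (x⁻¹ * c) * x := by rw [hc]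
            _ = c * x := by group
        · intro hc
          calc x⁻¹ * c = x⁻¹ * (c * x) * x⁻¹ := by group
            _ = x⁻¹ * (x * c) * x⁻¹ := by rw [hc]
            _ = c * x⁻¹ := by group
      rw [e, hC]
    obtain ⟨g', hg'⟩ := Cfsg.Agent.Lib.helper79.h79_px_conj 3 n hG x⁻¹ hC' hn _ hmg
    apply hCh
    rw [hh', ← hg', h72_card_centralizer_conj, hC']

end Cfsg.Agent.Lib.helper79.P3
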