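import Mathlib
import Cfsg.Agent.Lib.helper79.PearlX

set_option autoImplicit false
open Cfsg

namespace Cfsg.Agent.Lib.helper79.P3

open Cfsg.Agent.Lib.helper68

/-- Sub-fact (c2) of NONUNIF: cubes lie in `P_2` (FRAT as a hypothesis). -/
theorem h72_p3_cube_mem_gam2 {G : Type*} [Group G] [Finite G] (n : ℕ) (hn : 3 ≤ n) (hG : Nat.card G = 3 ^ n) (x : G)
    (hC : Nat.card (Subgroup.centralizer ({x} : Set G)) = 3 ^ 2)
    (hFRAT : ∀ H : Subgroup G, H ⊔ gam G 2 = ⊤ → H = ⊤) (h : G) : h ^ 3 ∈ gam G 2 := by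
  have hp3 : Fact (Nat.Prime 3) := ⟨by norm_num⟩
  have hidx : (gam G 2).index = 3 ^ 2 := Cfsg.Agent.Lib.helper79.h79_px_index 3 n hG x hC hn 2 le_rfl (by omega)
  have hQ : Nat.card (G ⧸ gam G 2) = 9 := by
    rw [← Subgroup.index_eq_card, hidx]; norm_num
  have hdvd : orderOf (QuotientGroup.mk h : G ⧸ gam G 2) ∣ 3 ^ 2 := by
    have := orderOf_dvd_natCard (QuotientGroup.mk h : G ⧸ gam G 2)
    rw [hQ] at this
    exact this
  obtain ⟨m, hm, hord⟩ := (Nat.dvd_prime_pow (by norm_num : Nat.Prime 3)).mp hdvd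
  by_cases hm2 : m = 2
  · -- cyclic quotient: contradiction
    exfalso
    subst hm2
    have hz : Subgroup.zpowers (QuotientGroup.mk h : G ⧸ gam G 2) = ⊤ := by
      apply Subgroup.eq_top_of_card_eq
      rw [Nat.card_zpowers, hord, hQ]; norm_num
    have hsup : Subgroup.zpowers h ⊔ gam G 2 = ⊤ := by
      rw [eq_top_iff]
      intro g _
      have hg : (QuotientGroup.mk g : G ⧸ gam G 2) ∈ Subgroup.zpowers (QuotientGroup.mk h : G ⧸ gam G 2) := by
        rw [hz]; exact Subgroup.mem_top _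
      obtain ⟨k, hk⟩ := Subgroup.mem_zpowers_iff.mp hg
      have hk' : (QuotientGroup.mk (h ^ k) : G ⧸ gam G 2) = QuotientGroup.mk g := by
        rw [← hk]; rfl
      have hmem : (h ^ k)⁻¹ * g ∈ gam G 2 := QuotientGroup.eq.mp hk'
      have e : g = h ^ k * ((h ^ k)⁻¹ * g) := by group
      rw [e]
      exact Subgroup.mul_mem_sup (Subgroup.zpow_mem_zpowers h k) hmem
    have htop := hFRAT _ hsup
    have hcomm : ∀ a b : G, a * b = b * a := by
      intro a b
      have ha : a ∈ Subgroup.zpowers h := by rw [htop]; exact Subgroup.mem_top _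
      have hb : b ∈ Subgroup.zpowers h := by rw [htop]; exact Subgroup.mem_top _
      obtain ⟨i, rfl⟩ := Subgroup.mem_zpowers_iff.mp ha
      obtain ⟨j, rfl⟩ := Subgroup.mem_zpowers_iff.mp hb
      rw [← zpow_add, ← zpow_add, add_comm]
    have hcent : Subgroup.centralizer ({x} : Set G) = ⊤ := by
      rw [eq_top_iff]
      intro g _
      rw [Subgroup.mem_centralizer_iff]
      intro y _
      exact hcomm y g
    rw [hcent, Subgroup.card_top, hG] at hC
    have := Nat.pow_right_injective (by norm_num : 2 ≤ 3) hC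
    omega
  · have hm1 : m ≤ 1 := by omega
    have hd3 : orderOf (QuotientGroup.mk h : G ⧸ gam G 2) ∣ 3 := by
      rw [hord]
      have : (3 : ℕ) = 3 ^ 1 := by norm_num
      rw [this]
      exact pow_dvd_pow 3 hm1
    have h1 : (QuotientGroup.mk h : G ⧸ gam G 2) ^ 3 = 1 := orderOf_dvd_iff_pow_eq_one.mp hd3
    have h2 : (QuotientGroup.mk (h ^ 3) : G ⧸ gam G 2) = 1 := by
      rw [← h1]; rfl
    exact (QuotientGroup.eq_one_iff _).mp h2

end Cfsg.Agent.Lib.helper79.P3
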