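/-
helper72: S4306 piece DH-EXC, abstract core (`h72_exc_core`): the exceptional alternative of the
dichotomy (`r = 2`, `q` a Fermat prime) for a weight of `H`-type.  The pieces FREE-INT and SQ enter
as hypotheses `hFI`, `hSQ`; C1, C5, C10, C11 enter through the hypotheses on the form
`β(u, v) = μ ⁅u, v⁆`.
-/
import Mathlib
import Cfsg.Agent.Lib.helper75.PQDefs
import Cfsg.Agent.Lib.helper1.Coprime

set_option autoImplicit false

namespace Cfsg.Agent.Lib.helper75.PQ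

open scoped commutatorElement
open Pointwise

section h72gen

variable {Γ : Type*} [Group Γ]

theorem h72_conj_mem {A : Subgroup Γ} {g : Γ} (hg : g ∈ Subgroup.normalizer (A : Set Γ)) {x : Γ}
    (hx : x ∈ A) : g * x * g⁻¹ ∈ A := (Subgroup.mem_normalizer_iff.mp hg x).mp hx

theorem h72_conj_mem' {A : Subgroup Γ} {g : Γ} (hg : g ∈ Subgroup.normalizer (A : Set Γ)) {x : Γ}
    (hx : x ∈ A) : g⁻¹ * x * g ∈ A := by
  have := h72_conj_mem (Subgroup.inv_mem _ hg) hx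
  rwa [inv_inv] at this

/-- `g` normalizing `A` and `B` normalizes `⁅A, B⁆`. -/
theorem h72_mem_normalizer_commutator {A B : Subgroup Γ} {g : Γ}
    (hA : g ∈ Subgroup.normalizer (A : Set Γ)) (hB : g ∈ Subgroup.normalizer (B : Set Γ)) :
    g ∈ Subgroup.normalizer ((⁅A, B⁆ : Subgroup Γ) : Set Γ) := by
  apply Cfsg.Agent.Lib.helper1.mem_normalizer_of_conj_smul_eq
  have h1 : MulAut.conj g • A = A := Cfsg.Agent.Lib.helper1.conj_smul_eq_of_mem_normalizer hA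
  have h2 : MulAut.conj g • B = B := Cfsg.Agent.Lib.helper1.conj_smul_eq_of_mem_normalizer hB
  have h3 := Subgroup.map_commutator A B (MulAut.conj g).toMonoidHom
  calc MulAut.conj g • ⁅A, B⁆ = ⁅MulAut.conj g • A, MulAut.conj g • B⁆ := h3
    _ = ⁅A, B⁆ := by rw [h1, h2]

/-- `g` normalizing `A` and `B` normalizes `A ⊓ B`. -/
theorem h72_mem_normalizer_inf {A B : Subgroup Γ} {g : Γ}
    (hA : g ∈ Subgroup.normalizer (A : Set Γ)) (hB : g ∈ Subgroup.normalizer (B : Set Γ)) :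
    g ∈ Subgroup.normalizer ((A ⊓ B : Subgroup Γ) : Set Γ) := by
  rw [Subgroup.mem_normalizer_iff]
  intro x
  exact ⟨fun h => ⟨(Subgroup.mem_normalizer_iff.mp hA x).mp h.1,
      (Subgroup.mem_normalizer_iff.mp hB x).mp h.2⟩,
    fun h => ⟨(Subgroup.mem_normalizer_iff.mp hA x).mpr h.1,
      (Subgroup.mem_normalizer_iff.mp hB x).mpr h.2⟩⟩

/-- The subgroup of the elements normalizing `R₁` and `N₁` and acting trivially on `R₁ / N₁`. -/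
def h72CentSec (R₁ N₁ : Subgroup Γ) : Subgroup Γ where
  carrier := {g | g ∈ Subgroup.normalizer (R₁ : Set Γ) ∧ g ∈ Subgroup.normalizer (N₁ : Set Γ) ∧
    ∀ u ∈ R₁, ⁅g, u⁆ ∈ N₁}
  one_mem' := ⟨Subgroup.one_mem _, Subgroup.one_mem _, fun u _ => by
    rw [commutatorElement_one_left]; exact N₁.one_mem⟩
  mul_mem' := by
    rintro a b ⟨ha1, ha2, ha3⟩ ⟨hb1, hb2, hb3⟩
    refine ⟨Subgroup.mul_mem _ ha1 hb1, Subgroup.mul_mem _ ha2 hb2, fun u hu => ?_⟩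
    have e : ⁅a * b, u⁆ = a * ⁅b, u⁆ * a⁻¹ * ⁅a, u⁆ := by
      simp only [commutatorElement_def]; group
    rw [e]
    exact N₁.mul_mem (h72_conj_mem ha2 (hb3 u hu)) (ha3 u hu)
  inv_mem' := by
    rintro a ⟨ha1, ha2, ha3⟩
    refine ⟨Subgroup.inv_mem _ ha1, Subgroup.inv_mem _ ha2, fun u hu => ?_⟩
    have e : ⁅a⁻¹, u⁆ = a⁻¹ * (⁅a, u⁆)⁻¹ * a := by
      simp only [commutatorElement_def]; group
    rw [e]
    exact h72_conj_mem' ha2 (N₁.inv_mem (ha3 u hu))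

theorem h72_normalizer_centSec {R₁ N₁ : Subgroup Γ} {a : Γ}
    (ha1 : a ∈ Subgroup.normalizer (R₁ : Set Γ)) (ha2 : a ∈ Subgroup.normalizer (N₁ : Set Γ)) :
    a ∈ Subgroup.normalizer ((h72CentSec R₁ N₁ : Subgroup Γ) : Set Γ) := by
  have key : ∀ b : Γ, b ∈ Subgroup.normalizer (R₁ : Set Γ) →
      b ∈ Subgroup.normalizer (N₁ : Set Γ) →
      ∀ g ∈ h72CentSec R₁ N₁, b * g * b⁻¹ ∈ h72CentSec R₁ N₁ := by
    rintro b hb1 hb2 g ⟨hg1, hg2, hg3⟩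
    refine ⟨Subgroup.mul_mem _ (Subgroup.mul_mem _ hb1 hg1) (Subgroup.inv_mem _ hb1),
      Subgroup.mul_mem _ (Subgroup.mul_mem _ hb2 hg2) (Subgroup.inv_mem _ hb2), fun u hu => ?_⟩
    have e : ⁅b * g * b⁻¹, u⁆ = b * ⁅g, b⁻¹ * u * b⁆ * b⁻¹ := by
      simp only [commutatorElement_def]; group
    rw [e]
    exact h72_conj_mem hb2 (hg3 _ (h72_conj_mem' hb1 hu))
  rw [Subgroup.mem_normalizer_iff]
  intro g
  constructor
  · exact key a ha1 ha2 g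
  · intro hg
    have h1 := key a⁻¹ (Subgroup.inv_mem _ ha1) (Subgroup.inv_mem _ ha2) _ hg
    have e : a⁻¹ * (a * g * a⁻¹) * a⁻¹⁻¹ = g := by group
    rwa [e] at h1

theorem h72_comm_mem_of_normalizer {A : Subgroup Γ} {g : Γ}
    (hg : g ∈ Subgroup.normalizer (A : Set Γ)) {x : Γ} (hx : x ∈ A) : ⁅g, x⁆ ∈ A := by
  rw [commutatorElement_def]
  exact A.mul_mem (h72_conj_mem hg hx) (A.inv_mem hx)

/-- The subgroup of the `g` normalizing `N` with `⁅g, y⁆ ∈ N`. -/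
def h72CommSub (N : Subgroup Γ) (y : Γ) : Subgroup Γ where
  carrier := {g | g ∈ Subgroup.normalizer (N : Set Γ) ∧ ⁅g, y⁆ ∈ N}
  one_mem' := ⟨Subgroup.one_mem _, by rw [commutatorElement_one_left]; exact N.one_mem⟩
  mul_mem' := by
    rintro a b ⟨ha1, ha2⟩ ⟨hb1, hb2⟩
    refine ⟨Subgroup.mul_mem _ ha1 hb1, ?_⟩
    have e : ⁅a * b, y⁆ = a * ⁅b, y⁆ * a⁻¹ * ⁅a, y⁆ := by
      simp only [commutatorElement_def]; group
    rw [e]
    exact N.mul_mem (h72_conj_mem ha1 hb2) ha2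
  inv_mem' := by
    rintro a ⟨ha1, ha2⟩
    refine ⟨Subgroup.inv_mem _ ha1, ?_⟩
    have e : ⁅a⁻¹, y⁆ = a⁻¹ * (⁅a, y⁆)⁻¹ * a := by
      simp only [commutatorElement_def]; group
    rw [e]
    exact h72_conj_mem' ha1 (N.inv_mem ha2)

theorem h72_isSolvable_of_isPGroup [Finite Γ] {A : Subgroup Γ} {p : ℕ} (hp : p.Prime)
    (hA : IsPGroup p A) : Group.IsSolvable A := by
  have := Fact.mk hp
  have : Group.IsNilpotent A := hA.isNilpotent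
  infer_instance

theorem h72_coprime_card_of_isPGroup [Finite Γ] {A B : Subgroup Γ} {p p' : ℕ} (hp : p.Prime)
    (hp' : p'.Prime) (hne : p ≠ p') (hA : IsPGroup p A) (hB : IsPGroup p' B) :
    (Nat.card A).Coprime (Nat.card B) := by
  have := Fact.mk hp
  have := Fact.mk hp'
  obtain ⟨a, ha⟩ := IsPGroup.iff_card.mp hA
  obtain ⟨b, hb⟩ := IsPGroup.iff_card.mp hB
  rw [ha, hb]
  exact Nat.Coprime.pow _ _ ((Nat.coprime_primes hp hp').mpr hne)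

theorem h72_zpowers_eq [Finite Γ] {H : Subgroup Γ} {q : ℕ} (hq : q.Prime)
    (cardH : Nat.card H = q) {h : Γ} (hh : h ∈ H) (hh1 : h ≠ 1) : Subgroup.zpowers h = H := by
  apply Subgroup.eq_of_le_of_card_ge (Subgroup.zpowers_le.mpr hh)
  rw [Nat.card_zpowers, cardH]
  have h1 : orderOf h ∣ q := by
    rw [← cardH]
    have := orderOf_dvd_natCard (⟨h, hh⟩ : H)
    rwa [Subgroup.orderOf_mk] at this
  rcases (Nat.dvd_prime hq).mp h1 with h2 | h2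
  · exact absurd (orderOf_eq_one_iff.mp h2) hh1
  · exact h2.ge

theorem h72_card_eq_inf_mul_relIndex (A B : Subgroup Γ) :
    Nat.card B = Nat.card (A ⊓ B : Subgroup Γ) * A.relIndex B := by
  have h1 := Subgroup.card_mul_index (A.subgroupOf B)
  have h2 : Nat.card (A.subgroupOf B) = Nat.card (A ⊓ B : Subgroup Γ) := by
    rw [← Subgroup.inf_subgroupOf_right]
    exact Nat.card_congr (Subgroup.subgroupOfEquivOfLe inf_le_right).toEquiv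
  rw [← h1, h2]
  rfl

theorem h72_card_le_mul [Finite Γ] (A B B' : Subgroup Γ) (hBB' : B' ≤ B) (k : ℕ) (hk : k ≠ 0)
    (hB : Nat.card B = Nat.card (A ⊓ B : Subgroup Γ) * k) :
    Nat.card B' ≤ Nat.card (A ⊓ B' : Subgroup Γ) * k := by
  have h1 := h72_card_eq_inf_mul_relIndex A B
  have hpos : 0 < Nat.card (A ⊓ B : Subgroup Γ) := Nat.card_pos
  have h2 : A.relIndex B = k := by
    have : Nat.card (A ⊓ B : Subgroup Γ) * A.relIndex B = Nat.card (A ⊓ B : Subgroup Γ) * k := by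
      rw [← h1, ← hB]
    exact Nat.eq_of_mul_eq_mul_left hpos this
  have h3 : A.relIndex B' ≤ A.relIndex B :=
    Subgroup.relIndex_le_of_le_right hBB' (by rw [h2]; exact hk)
  rw [h72_card_eq_inf_mul_relIndex A B']
  exact Nat.mul_le_mul_left _ (h2 ▸ h3)

variable {F : Type*} [Field F]

/-- The form `β(u, v) = μ ⁅u, v⁆` on a group `R` of class two, `μ` multiplicative on the centre. -/
structure H72Form (R : Subgroup Γ) (μ : Γ → F) : Prop where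
  cl : ∀ u ∈ R, ∀ v ∈ R, ∀ t ∈ R, ⁅u, v⁆ * t = t * ⁅u, v⁆
  one : μ 1 = 1
  mul : ∀ z ∈ ZR R, ∀ z' ∈ ZR R, μ (z * z') = μ z * μ z'

namespace H72Form

variable {R : Subgroup Γ} {μ : Γ → F}

theorem comm_mem (hf : H72Form R μ) {u v : Γ} (hu : u ∈ R) (hv : v ∈ R) : ⁅u, v⁆ ∈ ZR R := by
  rw [mem_ZR]
  refine ⟨?_, fun t ht => (hf.cl u hu v hv t ht).symm⟩
  rw [commutatorElement_def]
  exact R.mul_mem (R.mul_mem (R.mul_mem hu hv) (R.inv_mem hu)) (R.inv_mem hv)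

theorem mul_left (hf : H72Form R μ) {u u' v : Γ} (hu : u ∈ R) (hu' : u' ∈ R) (hv : v ∈ R) :
    μ ⁅u * u', v⁆ = μ ⁅u, v⁆ * μ ⁅u', v⁆ := by
  have e : ⁅u * u', v⁆ = ⁅u', v⁆ * ⁅u, v⁆ := by
    have h1 : ⁅u * u', v⁆ = u * ⁅u', v⁆ * u⁻¹ * ⁅u, v⁆ := by
      simp only [commutatorElement_def]; group
    have h2 : u * ⁅u', v⁆ * u⁻¹ = ⁅u', v⁆ := by
      rw [← hf.cl u' hu' v hv u hu, mul_inv_cancel_right]
    rw [h1, h2]
  rw [e, hf.mul _ (hf.comm_mem hu' hv) _ (hf.comm_mem hu hv), mul_comm]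

theorem mul_right (hf : H72Form R μ) {u v v' : Γ} (hu : u ∈ R) (hv : v ∈ R) (hv' : v' ∈ R) :
    μ ⁅u, v * v'⁆ = μ ⁅u, v⁆ * μ ⁅u, v'⁆ := by
  have e : ⁅u, v * v'⁆ = ⁅u, v⁆ * ⁅u, v'⁆ := by
    have h1 : ⁅u, v * v'⁆ = ⁅u, v⁆ * (v * ⁅u, v'⁆ * v⁻¹) := by
      simp only [commutatorElement_def]; group
    have h2 : v * ⁅u, v'⁆ * v⁻¹ = ⁅u, v'⁆ := by
      rw [← hf.cl u hu v' hv' v hv, mul_inv_cancel_right]
    rw [h1, h2]
  rw [e, hf.mul _ (hf.comm_mem hu hv) _ (hf.comm_mem hu hv')]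

theorem inv_left_mul (hf : H72Form R μ) {u v : Γ} (hu : u ∈ R) (hv : v ∈ R) :
    μ ⁅u, v⁆ * μ ⁅u⁻¹, v⁆ = 1 := by
  rw [← hf.mul_left hu (R.inv_mem hu) hv, mul_inv_cancel, commutatorElement_one_left, hf.one]

theorem swap_mul (hf : H72Form R μ) {u v : Γ} (hu : u ∈ R) (hv : v ∈ R) :
    μ ⁅u, v⁆ * μ ⁅v, u⁆ = 1 := by
  rw [← hf.mul _ (hf.comm_mem hu hv) _ (hf.comm_mem hv hu)]
  have e : ⁅u, v⁆ * ⁅v, u⁆ = 1 := by
    simp only [commutatorElement_def]; group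
  rw [e, hf.one]

theorem eq_one_swap (hf : H72Form R μ) {u v : Γ} (hu : u ∈ R) (hv : v ∈ R)
    (h : μ ⁅u, v⁆ = 1) : μ ⁅v, u⁆ = 1 := by
  have h1 := hf.swap_mul hu hv
  rwa [h, one_mul] at h1

theorem eq_one_inv_left (hf : H72Form R μ) {u v : Γ} (hu : u ∈ R) (hv : v ∈ R)
    (h : μ ⁅u, v⁆ = 1) : μ ⁅u⁻¹, v⁆ = 1 := by
  have h1 := hf.inv_left_mul hu hv
  rwa [h, one_mul] at h1

theorem conj_left (hf : H72Form R μ) {t u v : Γ} (ht : t ∈ R) (hu : u ∈ R) (hv : v ∈ R) :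
    μ ⁅u * t * u⁻¹, v⁆ = μ ⁅t, v⁆ := by
  rw [hf.mul_left (R.mul_mem hu ht) (R.inv_mem hu) hv, hf.mul_left hu ht hv]
  have h1 := hf.inv_left_mul hu hv
  calc μ ⁅u, v⁆ * μ ⁅t, v⁆ * μ ⁅u⁻¹, v⁆ = μ ⁅t, v⁆ * (μ ⁅u, v⁆ * μ ⁅u⁻¹, v⁆) := by ring
    _ = μ ⁅t, v⁆ := by rw [h1, mul_one]

/-- The radical of the form on a subgroup `R' ≤ R`. -/
def rad (hf : H72Form R μ) (R' : Subgroup Γ) (hR' : R' ≤ R) : Subgroup Γ where
  carrier := {u | u ∈ R' ∧ ∀ v ∈ R', μ ⁅u, v⁆ = 1}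
  one_mem' := ⟨R'.one_mem, fun v _ => by rw [commutatorElement_one_left]; exact hf.one⟩
  mul_mem' := by
    rintro a b ⟨ha, ha'⟩ ⟨hb, hb'⟩
    refine ⟨R'.mul_mem ha hb, fun v hv => ?_⟩
    rw [hf.mul_left (hR' ha) (hR' hb) (hR' hv), ha' v hv, hb' v hv, one_mul]
  inv_mem' := by
    rintro a ⟨ha, ha'⟩
    exact ⟨R'.inv_mem ha, fun v hv => hf.eq_one_inv_left (hR' ha) (hR' hv) (ha' v hv)⟩

theorem rad_normalizer (hf : H72Form R μ) (R' : Subgroup Γ) (hR' : R' ≤ R) {g : Γ}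
    (hgR' : g ∈ Subgroup.normalizer (R' : Set Γ))
    (hinv : ∀ u ∈ R, ∀ v ∈ R, μ ⁅g * u * g⁻¹, g * v * g⁻¹⁆ = μ ⁅u, v⁆) :
    g ∈ Subgroup.normalizer ((hf.rad R' hR' : Subgroup Γ) : Set Γ) := by
  rw [Subgroup.mem_normalizer_iff]
  intro x
  constructor
  · rintro ⟨hx, hx'⟩
    refine ⟨h72_conj_mem hgR' hx, fun v hv => ?_⟩
    have hv' : g⁻¹ * v * g ∈ R' := h72_conj_mem' hgR' hv
    have h1 := hinv x (hR' hx) _ (hR' hv')
    have e : g * (g⁻¹ * v * g) * g⁻¹ = v := by group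
    rw [e] at h1
    rw [h1]
    exact hx' _ hv'
  · rintro ⟨hx, hx'⟩
    have hx1 : x ∈ R' := by
      have h1 := h72_conj_mem' hgR' hx
      have e : g⁻¹ * (g * x * g⁻¹) * g = x := by group
      rwa [e] at h1
    refine ⟨hx1, fun v hv => ?_⟩
    rw [← hinv x (hR' hx1) v (hR' hv)]
    exact hx' _ (h72_conj_mem hgR' hv)

/-- The elements of `R` orthogonal to `c`. -/
def perp (hf : H72Form R μ) (c : Γ) (hc : c ∈ R) : Subgroup Γ where
  carrier := {t | t ∈ R ∧ μ ⁅t, c⁆ = 1}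
  one_mem' := ⟨R.one_mem, by rw [commutatorElement_one_left]; exact hf.one⟩
  mul_mem' := by
    rintro a b ⟨ha, ha'⟩ ⟨hb, hb'⟩
    refine ⟨R.mul_mem ha hb, ?_⟩
    rw [hf.mul_left ha hb hc, ha', hb', one_mul]
  inv_mem' := by
    rintro a ⟨ha, ha'⟩
    exact ⟨R.inv_mem ha, hf.eq_one_inv_left ha hc ha'⟩

/-- `{u ∈ R | ⁅h, u⁆ ∈ Rad R}` as a subgroup. -/
def radh (hf : H72Form R μ) (h : Γ) (hh : h ∈ Subgroup.normalizer (R : Set Γ)) : Subgroup Γ where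
  carrier := {u | u ∈ R ∧ ∀ v ∈ R, μ ⁅⁅h, u⁆, v⁆ = 1}
  one_mem' := ⟨R.one_mem, fun v _ => by
    rw [commutatorElement_one_right, commutatorElement_one_left]; exact hf.one⟩
  mul_mem' := by
    rintro a b ⟨ha, ha'⟩ ⟨hb, hb'⟩
    refine ⟨R.mul_mem ha hb, fun v hv => ?_⟩
    have hca : ⁅h, a⁆ ∈ R := h72_comm_mem_of_normalizer hh ha
    have hcb : ⁅h, b⁆ ∈ R := h72_comm_mem_of_normalizer hh hb
    have e : ⁅h, a * b⁆ = ⁅h, a⁆ * (a * ⁅h, b⁆ * a⁻¹) := by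
      simp only [commutatorElement_def]; group
    rw [e, hf.mul_left hca (R.mul_mem (R.mul_mem ha hcb) (R.inv_mem ha)) hv, ha' v hv,
      hf.conj_left hcb ha hv, hb' v hv, one_mul]
  inv_mem' := by
    rintro a ⟨ha, ha'⟩
    refine ⟨R.inv_mem ha, fun v hv => ?_⟩
    have hca : ⁅h, a⁆ ∈ R := h72_comm_mem_of_normalizer hh ha
    have e : ⁅h, a⁻¹⁆ = a⁻¹ * (⁅h, a⁆)⁻¹ * a⁻¹⁻¹ := by
      simp only [commutatorElement_def]; group
    rw [e, hf.conj_left (R.inv_mem hca) (R.inv_mem ha) hv]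
    exact hf.eq_one_inv_left hca hv (ha' v hv)

end H72Form

end h72gen

end Cfsg.Agent.Lib.helper75.PQ
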