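/-
helper72: S4306 piece DH-EXC, abstract core (`h72_exc_core`): the exceptional alternative of the
dichotomy (`r = 2`, `q` a Fermat prime) for a weight of `H`-type.  The pieces FREE-INT and SQ enter
as hypotheses `hFI`, `hSQ`; C1, C5, C10, C11 enter through the hypotheses on the form
`β(u, v) = μ ⁅u, v⁆`.
-/
import Mathlib
import Cfsg.Agent.Lib.helper72.PQ_DHEXCa

set_option autoImplicit false

namespace Cfsg.Agent.Lib.helper75.PQ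

open scoped commutatorElement
open Pointwise

universe u

theorem h72_exc_arith (n q a b c e : ℕ) (hn : 1 ≤ n) (hqn : q = 2 ^ n + 1)
    (h1 : b + a * (q - 1) = c * q) (h2 : b ≤ c + 2 * n) (h3 : b = 2 * e + a) (hac : a ≤ c) :
    b = a := by
  obtain ⟨j, rfl⟩ := Nat.exists_eq_add_of_le hac
  obtain ⟨n', rfl⟩ := Nat.exists_eq_add_of_le hn
  have hQ : 2 ^ (1 + n') = 2 * 2 ^ n' := by rw [pow_add, pow_one]
  have hlt : 1 + n' < 2 ^ (1 + n') := Nat.lt_two_pow_self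
  subst hqn
  rw [Nat.add_sub_cancel] at h1
  have h1' : b = j * 2 ^ (1 + n') + a + j := by
    have : (a + j) * (2 ^ (1 + n') + 1) = a * 2 ^ (1 + n') + (j * 2 ^ (1 + n') + a + j) := by ring
    rw [this] at h1
    omega
  rcases Nat.eq_zero_or_pos j with hj | hj
  · subst hj; omega
  · exfalso
    have hj2 : j < 2 := by
      by_contra hcon
      push Not at hcon
      have : 2 * 2 ^ (1 + n') ≤ j * 2 ^ (1 + n') := Nat.mul_le_mul_right _ hcon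
      omega
    have hj1 : j = 1 := by omega
    subst hj1
    omega

section h72core

variable {Γ : Type u} [Group Γ] [Finite Γ] {F : Type*} [Field F]

theorem h72_exc_core (R S H : Subgroup Γ) (μ : Γ → F) (q s n : ℕ)
    (hq : q.Prime) (hqn : q = 2 ^ n + 1) (hn : 1 ≤ n) (hs : s.Prime) (hs2 : s ≠ 2) (hsq : s ≠ q)
    (hR2 : IsPGroup 2 R) (hSs : IsPGroup s S) (cardH : Nat.card H = q)
    (HS : H ≤ Subgroup.normalizer (S : Set Γ)) (HR : H ≤ Subgroup.normalizer (R : Set Γ))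
    (SR : S ≤ Subgroup.normalizer (R : Set Γ))
    (hf : H72Form R μ)
    (hsq2 : ∀ u ∈ R, u ^ 2 ∈ ZR R)
    (hSZ : ∀ y ∈ S, ∀ z ∈ ZR R, y * z = z * y)
    (hHμ : ∀ h ∈ H, ∀ z ∈ ZR R, μ (h * z * h⁻¹) = μ z)
    (hC1 : ∀ y ∈ S, ∀ y' ∈ S, ∀ x ∈ R, ⁅y, y'⁆ * x = x * ⁅y, y'⁆)
    (hC11 : ∀ c ∈ ⁅S, H⁆, (∀ h ∈ H, h * c = c * h) → ∀ x ∈ R, c * x = x * c)
    (h₀ : Γ) (hh₀ : h₀ ∈ H) (hh₀1 : h₀ ≠ 1)
    (hcard : Nat.card R =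
      Nat.card {u : Γ // u ∈ R ∧ ∀ v ∈ R, μ ⁅⁅h₀, u⁆, v⁆ = 1} * (q - 1) ^ 2)
    (hFI : ∀ (R₁ N₁ Y : Subgroup Γ), N₁ ≤ R₁ → ∀ (ℓ : ℕ), ℓ.Prime →
      (∀ u ∈ R₁, u ^ ℓ ∈ N₁) → (∀ u ∈ R₁, ∀ v ∈ R₁, ⁅u, v⁆ ∈ N₁) →
      ∀ (h : Γ) (q : ℕ), q.Prime → h ^ q = 1 →
      Y ≤ Subgroup.normalizer (R₁ : Set Γ) → Y ≤ Subgroup.normalizer (N₁ : Set Γ) →
      h ∈ Subgroup.normalizer (R₁ : Set Γ) → h ∈ Subgroup.normalizer (N₁ : Set Γ) →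
      h ∈ Subgroup.normalizer (Y : Set Γ) →
      (∀ y ∈ Y, ∀ y' ∈ Y, ∀ u ∈ R₁, ⁅⁅y, y'⁆, u⁆ ∈ N₁) →
      (Nat.card Y).Coprime ℓ →
      (∀ y ∈ Y, (∀ u ∈ R₁, ⁅⁅h, y⁆, u⁆ ∈ N₁) → ∀ u ∈ R₁, ⁅y, u⁆ ∈ N₁) →
      (∀ u ∈ R₁, (∀ y ∈ Y, ⁅y, u⁆ ∈ N₁) → u ∈ N₁) →
      Nat.card R₁ * Nat.card N₁ ^ (q - 1) = Nat.card {u : Γ // u ∈ R₁ ∧ ⁅h, u⁆ ∈ N₁} ^ q)
    (hSQ : ∀ R' : Subgroup Γ, R' ≤ R → ∃ m : ℕ, Nat.card R' =
      m ^ 2 * Nat.card {u : Γ // u ∈ R' ∧ ∀ v ∈ R', μ ⁅u, v⁆ = 1}) :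
    ∀ h ∈ H, ∀ y ∈ S, ∀ u ∈ R, ∀ v ∈ R, μ ⁅⁅⁅h, y⁆, u⁆, v⁆ = 1 := by
  classical
  -- the groups
  have hY₀S : (⁅S, H⁆ : Subgroup Γ) ≤ S :=
    Cfsg.Agent.Lib.helper1.commutator_le_of_le_normalizer HS
  have hHY₀ : H ≤ Subgroup.normalizer ((⁅S, H⁆ : Subgroup Γ) : Set Γ) :=
    Cfsg.Agent.Lib.helper1.right_le_normalizer_commutator HS
  obtain ⟨Y₀, hY₀⟩ : ∃ Y₀ : Subgroup Γ, Y₀ = ⁅S, H⁆ := ⟨_, rfl⟩
  rw [← hY₀] at hY₀S hHY₀ hC11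
  have hY₀R : Y₀ ≤ Subgroup.normalizer (R : Set Γ) := hY₀S.trans SR
  have hR₁R : (⁅R, Y₀⁆ : Subgroup Γ) ≤ R :=
    Cfsg.Agent.Lib.helper1.commutator_le_of_le_normalizer hY₀R
  have hY₀R₁ : Y₀ ≤ Subgroup.normalizer ((⁅R, Y₀⁆ : Subgroup Γ) : Set Γ) :=
    Cfsg.Agent.Lib.helper1.right_le_normalizer_commutator hY₀R
  have hHR₁ : H ≤ Subgroup.normalizer ((⁅R, Y₀⁆ : Subgroup Γ) : Set Γ) := fun h hh =>
    h72_mem_normalizer_commutator (HR hh) (hHY₀ hh)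
  obtain ⟨R₁, hR₁⟩ : ∃ R₁ : Subgroup Γ, R₁ = ⁅R, Y₀⁆ := ⟨_, rfl⟩
  rw [← hR₁] at hR₁R hY₀R₁ hHR₁
  -- invariance of the form
  have hinvS : ∀ y ∈ S, ∀ u ∈ R, ∀ v ∈ R, μ ⁅y * u * y⁻¹, y * v * y⁻¹⁆ = μ ⁅u, v⁆ := by
    intro y hy u hu v hv
    have e : ⁅y * u * y⁻¹, y * v * y⁻¹⁆ = y * ⁅u, v⁆ * y⁻¹ := by
      simp only [commutatorElement_def]; group
    rw [e, hSZ y hy _ (hf.comm_mem hu hv), mul_inv_cancel_right]
  have hinvH : ∀ h ∈ H, ∀ u ∈ R, ∀ v ∈ R, μ ⁅h * u * h⁻¹, h * v * h⁻¹⁆ = μ ⁅u, v⁆ := by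
    intro h hh u hu v hv
    have e : ⁅h * u * h⁻¹, h * v * h⁻¹⁆ = h * ⁅u, v⁆ * h⁻¹ := by
      simp only [commutatorElement_def]; group
    rw [e, hHμ h hh _ (hf.comm_mem hu hv)]
  -- the radical of R₁
  obtain ⟨Rad₁, hRad₁⟩ : ∃ Rad₁ : Subgroup Γ, Rad₁ = hf.rad R₁ hR₁R := ⟨_, rfl⟩
  have hRadmem : ∀ u : Γ, u ∈ Rad₁ ↔ u ∈ R₁ ∧ ∀ v ∈ R₁, μ ⁅u, v⁆ = 1 := fun u => by
    rw [hRad₁]; exact Iff.rfl
  have hRad₁le : Rad₁ ≤ R₁ := fun u hu => ((hRadmem u).mp hu).1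
  have hY₀Rad : Y₀ ≤ Subgroup.normalizer (Rad₁ : Set Γ) := fun y hy => by
    rw [hRad₁]
    exact hf.rad_normalizer R₁ hR₁R (hY₀R₁ hy) (hinvS y (hY₀S hy))
  have hHRad : H ≤ Subgroup.normalizer (Rad₁ : Set Γ) := fun h hh => by
    rw [hRad₁]
    exact hf.rad_normalizer R₁ hR₁R (hHR₁ hh) (hinvH h hh)
  -- ORTH
  have horth : ∀ c ∈ R, (∀ y ∈ Y₀, y * c = c * y) → ∀ t ∈ R₁, μ ⁅t, c⁆ = 1 := by
    intro c hc hcY t ht
    have hle : R₁ ≤ hf.perp c hc := by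
      rw [hR₁, Subgroup.commutator_le]
      intro u hu y hy
      have hyu : y * u⁻¹ * y⁻¹ ∈ R := h72_conj_mem (hY₀R hy) (R.inv_mem hu)
      have e : ⁅u, y⁆ = u * (y * u⁻¹ * y⁻¹) := by
        simp only [commutatorElement_def]; group
      refine ⟨by rw [e]; exact R.mul_mem hu hyu, ?_⟩
      rw [e, hf.mul_left hu hyu hc]
      have e2 : ⁅y * u⁻¹ * y⁻¹, c⁆ = ⁅y * u⁻¹ * y⁻¹, y * c * y⁻¹⁆ := by
        rw [hcY y hy, mul_inv_cancel_right]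
      rw [e2, hinvS y (hY₀S hy) _ (R.inv_mem hu) _ hc]
      exact hf.inv_left_mul hu hc
    exact (hle ht).2
  -- coprimality and solvability
  have hY₀s : IsPGroup s Y₀ := hSs.to_le hY₀S
  have hR₁2 : IsPGroup 2 R₁ := hR2.to_le hR₁R
  have hRad2 : IsPGroup 2 Rad₁ := hR₁2.to_le hRad₁le
  have hcopYR₁ : (Nat.card Y₀).Coprime (Nat.card R₁) :=
    h72_coprime_card_of_isPGroup hs Nat.prime_two hs2 hY₀s hR₁2
  have hcopYRad : (Nat.card Y₀).Coprime (Nat.card Rad₁) :=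
    h72_coprime_card_of_isPGroup hs Nat.prime_two hs2 hY₀s hRad2
  have hsolvY : Group.IsSolvable Y₀ := h72_isSolvable_of_isPGroup hs hY₀s
  -- (E2): the hypotheses of FREE-INT
  have hh₀q : h₀ ^ q = 1 := by
    have h1 : (⟨h₀, hh₀⟩ : H) ^ Nat.card H = 1 := pow_card_eq_one'
    rw [cardH] at h1
    have h2 := congrArg Subtype.val h1
    simpa using h2
  have hexp : ∀ u ∈ R₁, u ^ 2 ∈ Rad₁ := by
    intro u hu
    rw [hRadmem]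
    refine ⟨R₁.pow_mem hu 2, fun v hv => ?_⟩
    have h1 := (mem_ZR.mp (hsq2 u (hR₁R hu))).2 v (hR₁R hv)
    have e : ⁅u ^ 2, v⁆ = 1 := commutatorElement_eq_one_iff_mul_comm.mpr h1.symm
    rw [e, hf.one]
  have hcomm : ∀ u ∈ R₁, ∀ v ∈ R₁, ⁅u, v⁆ ∈ Rad₁ := by
    intro u hu v hv
    rw [hRadmem]
    refine ⟨?_, fun t ht => ?_⟩
    · rw [commutatorElement_def]
      exact R₁.mul_mem (R₁.mul_mem (R₁.mul_mem hu hv) (R₁.inv_mem hu)) (R₁.inv_mem hv)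
    · have e : ⁅⁅u, v⁆, t⁆ = 1 :=
        commutatorElement_eq_one_iff_mul_comm.mpr (hf.cl u (hR₁R hu) v (hR₁R hv) t (hR₁R ht))
      rw [e, hf.one]
  have hYab : ∀ y ∈ Y₀, ∀ y' ∈ Y₀, ∀ u ∈ R₁, ⁅⁅y, y'⁆, u⁆ ∈ Rad₁ := by
    intro y hy y' hy' u hu
    have e : ⁅⁅y, y'⁆, u⁆ = 1 :=
      commutatorElement_eq_one_iff_mul_comm.mpr (hC1 y (hY₀S hy) y' (hY₀S hy') u (hR₁R hu))
    rw [e]; exact Rad₁.one_mem
  have hcop2 : (Nat.card Y₀).Coprime 2 := by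
    have := Fact.mk hs
    obtain ⟨k, hk⟩ := IsPGroup.iff_card.mp hY₀s
    rw [hk]
    exact Nat.Coprime.pow_left _ ((Nat.coprime_primes hs Nat.prime_two).mpr hs2)
  have hfpf : ∀ y ∈ Y₀, (∀ u ∈ R₁, ⁅⁅h₀, y⁆, u⁆ ∈ Rad₁) → ∀ u ∈ R₁, ⁅y, u⁆ ∈ Rad₁ := by
    intro y hy hyc
    have hN'mem : ∀ g ∈ Y₀, (∀ u ∈ R₁, ⁅g, u⁆ ∈ Rad₁) → g ∈ Y₀ ⊓ h72CentSec R₁ Rad₁ :=
      fun g hg hgc => ⟨hg, hY₀R₁ hg, hY₀Rad hg, hgc⟩
    have hHN' : H ≤ Subgroup.normalizer ((Y₀ ⊓ h72CentSec R₁ Rad₁ : Subgroup Γ) : Set Γ) :=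
      fun h hh => h72_mem_normalizer_inf (hHY₀ hh)
        (h72_normalizer_centSec (hHR₁ hh) (hHRad hh))
    have hN'Y : Y₀ ⊓ h72CentSec R₁ Rad₁ ≤ Y₀ := inf_le_left
    have hN'c : ∀ g ∈ Y₀ ⊓ h72CentSec R₁ Rad₁, ∀ u ∈ R₁, ⁅g, u⁆ ∈ Rad₁ := fun g hg => hg.2.2.2
    obtain ⟨N', hN'⟩ : ∃ N' : Subgroup Γ, N' = Y₀ ⊓ h72CentSec R₁ Rad₁ := ⟨_, rfl⟩
    rw [← hN'] at hN'mem hHN' hN'Y hN'c
    have hh₀y : ⁅h₀, y⁆ ∈ N' := hN'mem _ (h72_comm_mem_of_normalizer (hHY₀ hh₀) hy) hyc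
    have hHsub : H ≤ h72CommSub N' y := by
      rw [← h72_zpowers_eq hq cardH hh₀ hh₀1, Subgroup.zpowers_le]
      exact ⟨hHN' hh₀, hh₀y⟩
    have hcopHN : (Nat.card H).Coprime (Nat.card N') := by
      rw [cardH]
      have := Fact.mk hs
      obtain ⟨k, hk⟩ := IsPGroup.iff_card.mp (hY₀s.to_le hN'Y)
      rw [hk]
      exact Nat.Coprime.pow_right _ ((Nat.coprime_primes hq hs).mpr (Ne.symm hsq))
    obtain ⟨c, hc, hcy⟩ := Cfsg.Agent.Lib.helper1.coset_fixed H N' hHN' hcopHN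
      (Or.inr (h72_isSolvable_of_isPGroup hs (hY₀s.to_le hN'Y))) y
      (fun a ha => by
        have := (hHsub ha).2
        rwa [commutatorElement_def] at this)
    have hcY : c ∈ Y₀ := by
      have : c = (c * y⁻¹) * y := by group
      rw [this]; exact Y₀.mul_mem (hN'Y hcy) hy
    have hcR : ∀ x ∈ R, c * x = x * c :=
      hC11 c hcY (fun h hh => Subgroup.mem_centralizer_iff.mp hc h hh)
    have hcN : c ∈ N' := hN'mem c hcY (fun u hu => by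
      have e : ⁅c, u⁆ = 1 := commutatorElement_eq_one_iff_mul_comm.mpr (hcR u (hR₁R hu))
      rw [e]; exact Rad₁.one_mem)
    have hyN : y ∈ N' := by
      have : y = (c * y⁻¹)⁻¹ * c := by group
      rw [this]; exact N'.mul_mem (N'.inv_mem hcy) hcN
    exact hN'c y hyN
  have hfix : ∀ u ∈ R₁, (∀ y ∈ Y₀, ⁅y, u⁆ ∈ Rad₁) → u ∈ Rad₁ := by
    intro u hu huc
    obtain ⟨c, hc, hcu⟩ := Cfsg.Agent.Lib.helper1.coset_fixed Y₀ Rad₁ hY₀Rad hcopYRad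
      (Or.inl hsolvY) u
      (fun a ha => by
        have := huc a ha
        rwa [commutatorElement_def] at this)
    have hcR₁ : c ∈ R₁ := by
      have : c = (c * u⁻¹) * u := by group
      rw [this]; exact R₁.mul_mem (hRad₁le hcu) hu
    have hcRad : c ∈ Rad₁ := (hRadmem c).mpr ⟨hcR₁, fun v hv =>
      hf.eq_one_swap (hR₁R hv) (hR₁R hcR₁) (horth c (hR₁R hcR₁)
        (fun y hy => Subgroup.mem_centralizer_iff.mp hc y hy) v hv)⟩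
    have : u = (c * u⁻¹)⁻¹ * c := by group
    rw [this]; exact Rad₁.mul_mem (Rad₁.inv_mem hcu) hcRad
  have hE2 := hFI R₁ Rad₁ Y₀ hRad₁le 2 Nat.prime_two hexp hcomm h₀ q hq hh₀q hY₀R₁ hY₀Rad
    (hHR₁ hh₀) (hHRad hh₀) (hHY₀ hh₀) hYab hcop2 hfpf hfix
  -- (E3)
  obtain ⟨Cc, hCc⟩ : ∃ Cc : ℕ, Cc = Nat.card {u : Γ // u ∈ R₁ ∧ ⁅h₀, u⁆ ∈ Rad₁} := ⟨_, rfl⟩
  rw [← hCc] at hE2
  have hE3 : Nat.card R₁ ≤ Cc * (q - 1) ^ 2 := by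
    have hq1 : (q - 1) ^ 2 ≠ 0 := pow_ne_zero 2 (by have := hq.two_le; omega)
    have hRhle : hf.radh h₀ (HR hh₀) ≤ R := fun u hu => hu.1
    have hRh : Nat.card R = Nat.card (hf.radh h₀ (HR hh₀) ⊓ R : Subgroup Γ) * (q - 1) ^ 2 := by
      rw [inf_of_le_left hRhle, hcard]
      congr 1
    have h1 := h72_card_le_mul (hf.radh h₀ (HR hh₀)) R R₁ hR₁R _ hq1 hRh
    refine h1.trans (Nat.mul_le_mul_right _ ?_)
    have hmem : ∀ x : (hf.radh h₀ (HR hh₀) ⊓ R₁ : Subgroup Γ),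
        (x : Γ) ∈ R₁ ∧ ⁅h₀, (x : Γ)⁆ ∈ Rad₁ := fun x =>
      ⟨x.2.2, (hRadmem _).mpr ⟨h72_comm_mem_of_normalizer (hHR₁ hh₀) x.2.2,
        fun v hv => x.2.1.2 v (hR₁R hv)⟩⟩
    rw [hCc]
    exact Nat.card_le_card_of_injective (fun x => ⟨x.1, hmem x⟩)
      (fun x y hxy => by
        have h := congrArg Subtype.val hxy
        exact Subtype.ext h)
  -- (E4), (E5): arithmetic
  have := Fact.mk Nat.prime_two
  obtain ⟨b, hb⟩ := IsPGroup.iff_card.mp hR₁2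
  obtain ⟨a, ha⟩ := IsPGroup.iff_card.mp hRad2
  have hq0 : q ≠ 0 := hq.ne_zero
  have hCdvd : Cc ∣ 2 ^ (b + a * (q - 1)) := by
    have : Cc ^ q = 2 ^ (b + a * (q - 1)) := by rw [← hE2, hb, ha, pow_add, pow_mul]
    rw [← this]; exact dvd_pow_self _ hq0
  obtain ⟨c, -, hc⟩ := (Nat.dvd_prime_pow Nat.prime_two).mp hCdvd
  have h1 : b + a * (q - 1) = c * q := by
    apply Nat.pow_right_injective (le_refl 2)
    show 2 ^ (b + a * (q - 1)) = 2 ^ (c * q)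
    rw [pow_add, pow_mul, pow_mul, ← hb, ← ha, ← hc, hE2]
  have h2 : b ≤ c + 2 * n := by
    have h := hE3
    rw [hb, hc, hqn, Nat.add_sub_cancel, ← pow_mul, ← pow_add] at h
    have h' := (Nat.pow_le_pow_iff_right (by norm_num : 1 < 2)).mp h
    omega
  obtain ⟨m, hm⟩ := hSQ R₁ hR₁R
  have hRadcard : Nat.card {u : Γ // u ∈ R₁ ∧ ∀ v ∈ R₁, μ ⁅u, v⁆ = 1} = Nat.card Rad₁ :=
    Nat.card_congr (Equiv.subtypeEquivRight (fun u => (hRadmem u).symm))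
  rw [hRadcard, hb, ha] at hm
  have hmdvd : m ∣ 2 ^ b := by
    rw [hm]; exact Dvd.dvd.mul_right (dvd_pow_self m two_ne_zero) _
  obtain ⟨e, -, he⟩ := (Nat.dvd_prime_pow Nat.prime_two).mp hmdvd
  have h3 : b = 2 * e + a := by
    apply Nat.pow_right_injective (le_refl 2)
    show 2 ^ b = 2 ^ (2 * e + a)
    rw [hm, he, pow_add, ← pow_mul, mul_comm e 2]
  have hac : a ≤ c := by
    have hle : Nat.card Rad₁ ≤ Cc := by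
      have hmem : ∀ x : Rad₁, (x : Γ) ∈ R₁ ∧ ⁅h₀, (x : Γ)⁆ ∈ Rad₁ := fun x =>
        ⟨hRad₁le x.2, h72_comm_mem_of_normalizer (hHRad hh₀) x.2⟩
      rw [hCc]
      exact Nat.card_le_card_of_injective (fun x => ⟨x.1, hmem x⟩)
        (fun x y hxy => by
        have h := congrArg Subtype.val hxy
        exact Subtype.ext h)
    rw [ha, hc] at hle
    exact (Nat.pow_le_pow_iff_right (by norm_num : 1 < 2)).mp hle
  have hba : b = a := h72_exc_arith n q a b c e hn hqn h1 h2 h3 hac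
  have hRadeq : Rad₁ = R₁ := Subgroup.eq_of_le_of_card_ge hRad₁le (by rw [hb, ha, hba])
  have hE5 : ∀ t ∈ R₁, ∀ v ∈ R₁, μ ⁅t, v⁆ = 1 := fun t ht v hv => by
    have : t ∈ Rad₁ := hRadeq ▸ ht
    exact ((hRadmem t).mp this).2 v hv
  -- (E6)
  intro h hh y hy u hu v hv
  have hhy : ⁅h, y⁆ ∈ Y₀ := by
    rw [← commutatorElement_inv, hY₀]
    exact Subgroup.inv_mem _ (Subgroup.commutator_mem_commutator hy hh)
  have ht : ⁅⁅h, y⁆, u⁆ ∈ R₁ := by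
    rw [← commutatorElement_inv, hR₁]
    exact Subgroup.inv_mem _ (Subgroup.commutator_mem_commutator hu hhy)
  obtain ⟨c, hc, hcv⟩ := Cfsg.Agent.Lib.helper1.coset_fixed Y₀ R₁ hY₀R₁ hcopYR₁
    (Or.inl hsolvY) v
    (fun a ha => by
      have : ⁅a, v⁆ ∈ R₁ := by
        rw [← commutatorElement_inv, hR₁]
        exact Subgroup.inv_mem _ (Subgroup.commutator_mem_commutator hv ha)
      rwa [commutatorElement_def] at this)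
  have hcR : c ∈ R := by
    have : c = (c * v⁻¹) * v := by group
    rw [this]; exact R.mul_mem (hR₁R hcv) hv
  have e : v = (c * v⁻¹)⁻¹ * c := by group
  rw [e, hf.mul_right (hR₁R ht) (R.inv_mem (hR₁R hcv)) hcR, hE5 _ ht _ (R₁.inv_mem hcv),
    horth c hcR (fun y hy => Subgroup.mem_centralizer_iff.mp hc y hy) _ ht, one_mul]

end h72core

end Cfsg.Agent.Lib.helper75.PQ
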