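/-
helper72: S4306 piece DH-EXC (`MinTower.H_type_exc`): the exceptional alternative of the
dichotomy (`r = 2`, `q` a Fermat prime) for a weight of `H`-type, from the abstract core
`h72_exc_core` and the pieces C1, C5, C10, C11, FREE, FREE-INT, SQ.
-/
import Mathlib
import Cfsg.Agent.Lib.helper72.PQ_DHEXCb
import Cfsg.Agent.Lib.helper66.S3B
import Cfsg.Agent.Lib.helper75.PQWt
import Cfsg.Agent.Lib.helper46.PQ_C1011
import Cfsg.Agent.Lib.helper83.PQ_FREEINT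
import Cfsg.Agent.Lib.helper25.PQ_FREE
import Cfsg.Agent.Lib.helper70.PQ_SQ

set_option autoImplicit false

namespace Cfsg.Agent.Lib.helper75.PQ

open Cfsg.Agent.Lib.helper66 (WtV Fx cw)
open scoped commutatorElement

section h72D2

variable {Γ : Type*} [Group Γ] [Finite Γ] {F : Type*} [Field F] [IsAlgClosed F]
  {W : Type*} [AddCommGroup W] [Module F W] [FiniteDimensional F W]
  {ρ : Γ →* Module.End F W} {K H S R : Subgroup Γ} {p q s r : ℕ}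

/-- DH-EXC: the exceptional alternative of `dich` for a weight of `H`-type. -/
theorem MinTower.H_type_exc (T : MinTower ρ K H S R p q s r)
    (hnab : ¬ ∀ x ∈ R, ∀ x' ∈ R, x * x' = x' * x) (μ : Γ → F) (w : W)
    (hw : WtV ρ ⊤ (ZR R) μ w) (hH : ∀ h ∈ H, Fx (ZR R) h μ)
    (h₀ : Γ) (hh₀ : h₀ ∈ H) (hh₀1 : h₀ ≠ 1) (n : ℕ) (hr2 : r = 2) (hqn : q = 2 ^ n + 1)
    (hcard : Nat.card R =
      Nat.card {u : Γ // u ∈ R ∧ ∀ v ∈ R, μ ⁅⁅h₀, u⁆, v⁆ = 1} * (q - 1) ^ 2) :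
    ∀ h ∈ H, ∀ y ∈ S, ∀ u ∈ R, ∀ v ∈ R, μ ⁅⁅⁅h, y⁆, u⁆, v⁆ = 1 := by
  obtain ⟨hZS, hcl⟩ := T.center_R hnab
  have hf : H72Form R μ := ⟨hcl, Cfsg.Agent.Lib.helper66.wt_one ρ ⊤ (ZR R) μ w hw,
    fun z hz z' hz' => Cfsg.Agent.Lib.helper66.wt_mul ρ ⊤ (ZR R) μ w hw z z' hz hz'⟩
  have hn : 1 ≤ n := by
    rcases Nat.eq_zero_or_pos n with h0 | h0
    · exfalso
      apply T.hrq
      rw [hr2, hqn, h0]
      norm_num
    · exact h0
  subst hr2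
  have hsq2 : ∀ u ∈ R, u ^ 2 ∈ ZR R := T.pow_mem_center hnab
  have hSZ : ∀ y ∈ S, ∀ z ∈ ZR R, y * z = z * y := fun y hy z hz =>
    (hZS z (mem_ZR.mp hz).1).mpr (fun x' hx' => ((mem_ZR.mp hz).2 x' hx').symm) y hy
  have hHμ : ∀ h ∈ H, ∀ z ∈ ZR R, μ (h * z * h⁻¹) = μ z := fun h hh z hz =>
    Cfsg.Agent.Lib.helper66.Fx_conj (ZR R) μ h (c5_mem_normalizer_ZR (T.HR hh)) (hH h hh) z hz
  have hwM : w ∈ wtSp ρ (ZR R) μ := hw.2.2
  have hw0 : w ≠ 0 := hw.2.1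
  have one_of : ∀ z ∈ ZR R, ρ z w = w → μ z = 1 := by
    intro z hz h1
    have h2 := hwM z hz
    rw [h1] at h2
    by_contra hne
    have h3 : (μ z - 1) • w = 0 := by rw [sub_smul, one_smul, ← h2, sub_self]
    rcases smul_eq_zero.mp h3 with h4 | h4
    · exact hne (sub_eq_zero.mp h4)
    · exact hw0 h4
  have hSQ : ∀ R' : Subgroup Γ, R' ≤ R → ∃ m : ℕ, Nat.card R' =
      m ^ 2 * Nat.card {u : Γ // u ∈ R' ∧ ∀ v ∈ R', μ ⁅u, v⁆ = 1} := by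
    intro R' hR'
    have hRF : (Nat.card R' : F) ≠ 0 := by
      have := Fact.mk Nat.prime_two
      obtain ⟨k, hk⟩ := IsPGroup.iff_card.mp (T.Rgrp.to_le hR')
      rw [hk, Nat.cast_pow]
      exact pow_ne_zero _ T.rF
    obtain ⟨m, hm⟩ := sq_index ρ R' hRF
      (fun u hu v hv t ht => hcl u (hR' hu) v (hR' hv) t (hR' ht))
      (wtSp ρ (ZR R) μ)
      (fun hbot => hw0 (by
        have h1 : w ∈ wtSp ρ (ZR R) μ := hwM
        rw [hbot] at h1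
        exact (Submodule.mem_bot F).mp h1))
      (fun u hu w' hw' z hz => by
        have e : z * u = u * z := ((mem_ZR.mp hz).2 u (hR' hu)).symm
        rw [← rho_mul', e, rho_mul', hw' z hz, map_smul])
      (fun u hu v hv => ⟨μ ⁅u, v⁆, fun w' hw' => hw' _ (hf.comm_mem (hR' hu) (hR' hv))⟩)
    refine ⟨m, ?_⟩
    rw [hm]
    congr 1
    apply Nat.card_congr
    apply Equiv.subtypeEquivRight
    intro u
    constructor
    · rintro ⟨hu, h1⟩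
      exact ⟨hu, fun v hv => one_of _ (hf.comm_mem (hR' hu) (hR' hv)) (h1 v hv w hwM)⟩
    · rintro ⟨hu, h1⟩
      refine ⟨hu, fun v hv w' hw' => ?_⟩
      rw [hw' _ (hf.comm_mem (hR' hu) (hR' hv)), h1 v hv, one_smul]
  exact h72_exc_core R S H μ q s n T.hq hqn hn T.hs T.hsr T.hsq T.Rgrp T.Sgrp T.cardH T.HS T.HR
    T.SR hf hsq2 hSZ hHμ T.comm_S T.comm_SH_fix h₀ hh₀ hh₀1 hcard
    (fun R₁ N₁ Y hNR ℓ hℓ hexp hcomm h q hq hhq hYR hYN hhR hhN hhY hYab hcop hfpf hfix =>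
      free_count_int_core
        (fun V _ _ ℓ hℓ hV Y h q hq hhq hYab hcop hnorm hfpf hfix =>
          free_count V ℓ hℓ hV Y h q hq hhq hYab hcop hnorm hfpf hfix)
        R₁ N₁ Y hNR ℓ hℓ hexp hcomm h q hq hhq hYR hYN hhR hhN hhY hYab hcop hfpf hfix)
    hSQ

end h72D2

end Cfsg.Agent.Lib.helper75.PQ
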