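/-
helper72: S2490 piece C (`pg_min_simple`): a non-commutative minimal normal subgroup of a group
of order 7920 is simple.

The generic solvability lemmas `pgc_solvable_*` are copied from helper46's
`Lib/helper46/SL2Solvable.lean` (generic section, Mathlib only) to keep the import closure small.
-/
import Mathlib
import Cfsg.Agent.Lib.helper9.PgDefs

set_option autoImplicit false

namespace Cfsg.Agent.Lib.helper72

open Cfsg.Agent.Lib.helper9

universe u

section PgCGeneric

variable {G : Type*} [Group G]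

/-- A normal commutative subgroup with commutative quotient. -/
theorem pgc_solvable_of_normal_comm (N : Subgroup G) [N.Normal]
    (hN : ∀ a ∈ N, ∀ b ∈ N, a * b = b * a) (hQ : ∀ a b : G ⧸ N, a * b = b * a) :
    Group.IsSolvable G := by
  have h1 : Group.IsSolvable N :=
    Group.isSolvable_of_comm (fun a b => Subtype.ext (hN a a.2 b b.2))
  have h2 : Group.IsSolvable (G ⧸ N) := Group.isSolvable_of_comm hQ
  exact Group.isSolvable_of_ker_le_range N.subtype (QuotientGroup.mk' N)
    (by rw [QuotientGroup.ker_mk', Subgroup.range_subtype])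

/-- A group of prime order or order one is commutative. -/
theorem pgc_comm_of_card_le_three [Finite G] (h : Nat.card G ≤ 3) :
    ∀ a b : G, a * b = b * a := by
  have hpos : 0 < Nat.card G := Nat.card_pos
  have hcases : Nat.card G = 1 ∨ Nat.card G = 2 ∨ Nat.card G = 3 := by omega
  rcases hcases with h1 | h1 | h1
  · have := (Nat.card_eq_one_iff_unique.mp h1).1
    intro a b
    rw [Subsingleton.elim a 1, Subsingleton.elim b 1]
  · have : Fact (Nat.Prime 2) := ⟨Nat.prime_two⟩
    have hc := isCyclic_of_prime_card h1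
    intro a b
    exact (IsCyclic.commGroup (α := G)).mul_comm a b
  · have : Fact (Nat.Prime 3) := ⟨Nat.prime_three⟩
    have hc := isCyclic_of_prime_card h1
    intro a b
    exact (IsCyclic.commGroup (α := G)).mul_comm a b

/-- A commutative subgroup of index two. -/
theorem pgc_solvable_of_index_two_comm [Finite G] (N : Subgroup G) (hidx : N.index = 2)
    (hN : ∀ a ∈ N, ∀ b ∈ N, a * b = b * a) : Group.IsSolvable G := by
  have hn : N.Normal := Subgroup.normal_of_index_eq_two hidx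
  refine pgc_solvable_of_normal_comm N hN (pgc_comm_of_card_le_three ?_)
  rw [← Subgroup.index_eq_card, hidx]
  norm_num

/-- Groups of order dividing `6` are solvable. -/
theorem pgc_solvable_of_card_dvd_six [Finite G] (h : Nat.card G ∣ 6) : Group.IsSolvable G := by
  classical
  have hle := Nat.le_of_dvd (by norm_num) h
  have hpos : 0 < Nat.card G := Nat.card_pos
  by_cases h6 : Nat.card G = 6
  · have : Fact (Nat.Prime 3) := ⟨Nat.prime_three⟩
    obtain ⟨Q, hQ⟩ := Sylow.exists_subgroup_card_pow_prime (G := G) 3 (n := 1)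
      (by rw [h6]; norm_num)
    have hidx : Q.index = 2 := by
      have := Subgroup.card_mul_index Q
      rw [hQ, h6] at this
      omega
    refine pgc_solvable_of_index_two_comm Q hidx ?_
    have hc := pgc_comm_of_card_le_three (G := Q) (by rw [hQ]; norm_num)
    intro a ha b hb
    have := hc ⟨a, ha⟩ ⟨b, hb⟩
    exact congrArg Subtype.val this
  · have h3 : Nat.card G ≤ 3 := by
      obtain ⟨k, hk⟩ := h
      have : k ≠ 1 := by rintro rfl; omega
      have : k ≠ 0 := by rintro rfl; omega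
      have : 2 ≤ k := by omega
      nlinarith
    exact Group.isSolvable_of_comm (pgc_comm_of_card_le_three h3)

/-- Groups of order dividing `48` are solvable. -/
theorem pgc_solvable_of_card_dvd_48 [Finite G] (h : Nat.card G ∣ 48) : Group.IsSolvable G := by
  classical
  have : Fact (Nat.Prime 2) := ⟨Nat.prime_two⟩
  obtain ⟨P⟩ : Nonempty (Sylow 2 G) := inferInstance
  have hidx3 : (P : Subgroup G).index ∣ 3 := by
    have h1 := Subgroup.card_mul_index (P : Subgroup G)
    have h2 := P.not_dvd_index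
    have h3 : (P : Subgroup G).index ∣ 48 := Dvd.dvd.trans ⟨_, h1.symm.trans (mul_comm _ _)⟩ h
    have h4 : (48 : ℕ) = 2 ^ 4 * 3 := by norm_num
    rw [h4] at h3
    have hcop : Nat.Coprime (P : Subgroup G).index (2 ^ 4) :=
      Nat.Coprime.pow_right 4 (by
        rw [Nat.coprime_comm]
        exact (Nat.Prime.coprime_iff_not_dvd Nat.prime_two).mpr h2)
    exact hcop.dvd_of_dvd_mul_left h3
  have hker : (MulAction.toPermHom G (G ⧸ (P : Subgroup G))).ker ≤ (P : Subgroup G) := by
    rw [← Subgroup.normalCore_eq_ker]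
    exact Subgroup.normalCore_le _
  have hsolvker : Group.IsSolvable (MulAction.toPermHom G (G ⧸ (P : Subgroup G))).ker := by
    have hp : IsPGroup 2 (MulAction.toPermHom G (G ⧸ (P : Subgroup G))).ker :=
      P.2.to_le hker
    have := hp.isNilpotent
    infer_instance
  have hsolvperm : Group.IsSolvable (Equiv.Perm (G ⧸ (P : Subgroup G))) := by
    apply pgc_solvable_of_card_dvd_six
    rw [Nat.card_perm, ← Subgroup.index_eq_card]
    have hle := Nat.le_of_dvd (by norm_num) hidx3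
    have hpos : 0 < (P : Subgroup G).index := Nat.pos_of_ne_zero Subgroup.index_ne_zero_of_finite
    interval_cases (P : Subgroup G).index <;> simp_all [Nat.factorial]
  exact Group.isSolvable_of_ker_le_range
    (MulAction.toPermHom G (G ⧸ (P : Subgroup G))).ker.subtype
    (MulAction.toPermHom G (G ⧸ (P : Subgroup G)))
    (by rw [Subgroup.range_subtype])

/-- The closure of a set of pairwise commuting elements is commutative. -/
theorem pgc_closure_comm (s : Set G) (h : ∀ a ∈ s, ∀ b ∈ s, a * b = b * a) :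
    ∀ x ∈ Subgroup.closure s, ∀ y ∈ Subgroup.closure s, x * y = y * x := by
  have hs : s ⊆ Subgroup.centralizer s := by
    intro x hx
    rw [SetLike.mem_coe, Subgroup.mem_centralizer_iff]
    intro y hy
    exact h y hy x hx
  have h1 : Subgroup.closure s ≤ Subgroup.centralizer s := (Subgroup.closure_le _).2 hs
  have h2 := Subgroup.closure_le_centralizer_centralizer s
  intro x hx y hy
  have h3 := h2 hx
  rw [Subgroup.mem_centralizer_iff] at h3
  exact (h3 y (h1 hy)).symm

/-- Two elementwise commuting subgroups with trivial intersection: the product of the orders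
divides the group order. -/
theorem pgc_card_mul_dvd [Finite G] (K₁ K₂ : Subgroup G)
    (hcomm : ∀ a ∈ K₁, ∀ b ∈ K₂, a * b = b * a) (hbot : K₁ ⊓ K₂ = ⊥) :
    Nat.card K₁ * Nat.card K₂ ∣ Nat.card G := by
  have hc : ∀ (m : K₁) (n : K₂), Commute (K₁.subtype m) (K₂.subtype n) :=
    fun m n => hcomm m m.2 n n.2
  have hinj : Function.Injective (MonoidHom.noncommCoprod K₁.subtype K₂.subtype hc) := by
    rw [MonoidHom.noncommCoprod_injective]
    refine ⟨K₁.subtype_injective, K₂.subtype_injective, ?_⟩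
    rw [Subgroup.range_subtype, Subgroup.range_subtype, disjoint_iff, hbot]
  have h := Subgroup.card_dvd_of_injective _ hinj
  rwa [Nat.card_prod] at h

theorem pgc_dvd_12 (c : ℕ) (h : c * c ∣ 7920) : c ∣ 12 := by
  have hle : c * c ≤ 7920 := Nat.le_of_dvd (by norm_num) h
  have hc : c ≤ 88 := by nlinarith
  have key : ∀ c ≤ 88, c * c ∣ 7920 → c ∣ 12 := by decide
  exact key c hc h

/-- `K` is a nontrivial `V`-invariant subgroup of `V`. -/
def PgInv (V K : Subgroup G) : Prop :=
  K ≤ V ∧ K ≠ ⊥ ∧ ∀ v ∈ V, ∀ k ∈ K, v * k * v⁻¹ ∈ K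

/-- The conjugate subgroup `g K g⁻¹`. -/
abbrev pgcj (g : G) (K : Subgroup G) : Subgroup G := K.map (MulAut.conj g).toMonoidHom

theorem mem_pgcj {g x : G} {K : Subgroup G} : x ∈ pgcj g K ↔ ∃ k ∈ K, g * k * g⁻¹ = x :=
  Iff.rfl

theorem pgInv_conj {V K : Subgroup G} (hVn : V.Normal) (h : PgInv V K) (g : G) :
    PgInv V (pgcj g K) := by
  refine ⟨?_, ?_, ?_⟩
  · rintro _ ⟨k, hk, rfl⟩
    exact hVn.conj_mem k (h.1 hk) g
  · rw [Ne, Subgroup.map_eq_bot_iff_of_injective K (MulAut.conj g).injective]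
    exact h.2.1
  · rintro v hv _ ⟨k, hk, rfl⟩
    have hv' : g⁻¹ * v * g ∈ V := by
      have := hVn.conj_mem v hv g⁻¹
      simpa using this
    refine ⟨(g⁻¹ * v * g) * k * (g⁻¹ * v * g)⁻¹, h.2.2 _ hv' k hk, ?_⟩
    show g * ((g⁻¹ * v * g) * k * (g⁻¹ * v * g)⁻¹) * g⁻¹ = v * (g * k * g⁻¹) * v⁻¹
    group

theorem pgInv_conj_eq {V K : Subgroup G} (h : PgInv V K) {v : G} (hv : v ∈ V) :
    pgcj v K = K := by
  apply le_antisymm
  · rintro _ ⟨k, hk, rfl⟩
    exact h.2.2 v hv k hk
  · intro k hk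
    have h1 : v⁻¹ * k * v ∈ K := by
      have := h.2.2 v⁻¹ (V.inv_mem hv) k hk
      simpa using this
    refine ⟨v⁻¹ * k * v, h1, ?_⟩
    show v * (v⁻¹ * k * v) * v⁻¹ = k
    group

theorem pgInv_inf {V K₁ K₂ : Subgroup G} (h1 : PgInv V K₁) (h2 : PgInv V K₂)
    (hne : K₁ ⊓ K₂ ≠ ⊥) : PgInv V (K₁ ⊓ K₂) :=
  ⟨inf_le_left.trans h1.1, hne, fun v hv k hk =>
    ⟨h1.2.2 v hv k hk.1, h2.2.2 v hv k hk.2⟩⟩

theorem pgc_comm_of_inf_bot {V K₁ K₂ : Subgroup G} (h1 : PgInv V K₁) (h2 : PgInv V K₂)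
    (hbot : K₁ ⊓ K₂ = ⊥) : ∀ a ∈ K₁, ∀ b ∈ K₂, a * b = b * a := by
  intro a ha b hb
  have m2 : a * b * a⁻¹ * b⁻¹ ∈ K₂ :=
    K₂.mul_mem (h2.2.2 a (h1.1 ha) b hb) (K₂.inv_mem hb)
  have m1 : a * b * a⁻¹ * b⁻¹ ∈ K₁ := by
    have h3 : b * a⁻¹ * b⁻¹ ∈ K₁ := h1.2.2 b (h2.1 hb) a⁻¹ (K₁.inv_mem ha)
    have h4 := K₁.mul_mem ha h3
    have e : a * (b * a⁻¹ * b⁻¹) = a * b * a⁻¹ * b⁻¹ := by group
    rwa [e] at h4
  have hc : a * b * a⁻¹ * b⁻¹ ∈ K₁ ⊓ K₂ := ⟨m1, m2⟩
  rw [hbot, Subgroup.mem_bot] at hc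
  have h5 := mul_inv_eq_one.1 hc
  exact mul_inv_eq_iff_eq_mul.1 h5

end PgCGeneric

/-- Main step: a nontrivial `V`-invariant subgroup of `V` is `V`. -/
theorem pgc_main {G : Type u} [Group G] [Finite G] (hord : Nat.card G = 7920)
    (V : Subgroup G) (hVn : V.Normal)
    (hmin : ∀ W : Subgroup G, W.Normal → W ≤ V → W = ⊥ ∨ W = V)
    (hnab : ¬ ∀ x ∈ V, ∀ y ∈ V, x * y = y * x)
    (K₀ : Subgroup G) (h₀ : PgInv V K₀) : K₀ = V := by
  classical
  by_contra hK₀
  -- an invariant subgroup of minimal order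
  have hex : ∃ n, ∃ K, PgInv V K ∧ Nat.card K = n := ⟨_, K₀, h₀, rfl⟩
  obtain ⟨K, hK, hKn⟩ := Nat.find_spec hex
  have hminK : ∀ K', PgInv V K' → Nat.card K ≤ Nat.card K' := by
    intro K' hK'
    rw [hKn]
    exact Nat.find_min' hex ⟨K', hK', rfl⟩
  have hdisj : ∀ K₁ K₂ : Subgroup G, PgInv V K₁ → PgInv V K₂ → Nat.card K₁ = Nat.card K →
      Nat.card K₂ = Nat.card K → K₁ ≠ K₂ → K₁ ⊓ K₂ = ⊥ := by
    intro K₁ K₂ h1 h2 c1 c2 hne
    by_contra hb
    have h3 : PgInv V (K₁ ⊓ K₂) := pgInv_inf h1 h2 hb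
    have h4 := hminK _ h3
    have e1 : K₁ ⊓ K₂ = K₁ := Subgroup.eq_of_le_of_card_ge inf_le_left (by rw [c1]; exact h4)
    have e2 : K₁ ⊓ K₂ = K₂ := Subgroup.eq_of_le_of_card_ge inf_le_right (by rw [c2]; exact h4)
    exact hne (e1.symm.trans e2)
  have hKV : K ≠ V := by
    intro e
    have h1 := hminK K₀ h₀
    rw [e] at h1
    exact hK₀ (Subgroup.eq_of_le_of_card_ge h₀.1 h1)
  -- `K` is not normal in `G`
  have hconj : ∃ g : G, pgcj g K ≠ K := by
    by_contra hcon
    push Not at hcon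
    have hn : K.Normal := ⟨fun k hk g => by
      have h1 : g * k * g⁻¹ ∈ pgcj g K := ⟨k, hk, rfl⟩
      rw [hcon g] at h1
      exact h1⟩
    rcases hmin K hn hK.1 with h | h
    · exact hK.2.1 h
    · exact hKV h
  obtain ⟨g, hg⟩ := hconj
  have hcard : ∀ c : G, Nat.card (pgcj c K) = Nat.card K :=
    fun c => Subgroup.card_map_of_injective (MulAut.conj c).injective
  have hKg := pgInv_conj hVn hK g
  -- `|K|^2 ∣ 7920`, so `|K| ∣ 12`
  have hd := hdisj (pgcj g K) K hKg hK (hcard g) rfl hg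
  have hcomm := pgc_comm_of_inf_bot hKg hK hd
  have hsq : Nat.card K * Nat.card K ∣ 7920 := by
    have h1 := pgc_card_mul_dvd (pgcj g K) K hcomm hd
    rwa [hcard g, hord] at h1
  have h12 : Nat.card K ∣ 12 := pgc_dvd_12 _ hsq
  -- `K` is abelian
  have hKab : ∀ a ∈ K, ∀ b ∈ K, a * b = b * a := by
    have hsolv : Group.IsSolvable K :=
      pgc_solvable_of_card_dvd_48 (h12.trans (by norm_num))
    have hKnt : Nontrivial K := (Subgroup.nontrivial_iff_ne_bot K).2 hK.2.1
    have hlt := Group.IsSolvable.commutator_lt_top_of_nontrivial K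
    have hle : ⁅K, K⁆ ≤ K := by
      rw [Subgroup.commutator_le]
      intro a ha b hb
      exact K.mul_mem (K.mul_mem (K.mul_mem ha hb) (K.inv_mem ha)) (K.inv_mem hb)
    have hne : ⁅K, K⁆ ≠ K := by
      intro e
      rw [← Subgroup.map_subtype_commutator] at e
      apply hlt.ne
      rw [eq_top_iff]
      intro x _
      have hx : (x : G) ∈ (commutator K).map K.subtype := by
        rw [e]
        exact x.2
      obtain ⟨y, hy, hyx⟩ := hx
      have hyx' : y = x := Subtype.ext hyx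
      rwa [← hyx']
    have hbot : ⁅K, K⁆ = ⊥ := by
      by_contra hb
      have hinv : PgInv V ⁅K, K⁆ := by
        refine ⟨hle.trans hK.1, hb, ?_⟩
        intro v hv k hk
        have h1 : v * k * v⁻¹ ∈ (⁅K, K⁆).map (MulAut.conj v).toMonoidHom := ⟨k, hk, rfl⟩
        rw [Subgroup.map_commutator] at h1
        have h2 : K.map (MulAut.conj v).toMonoidHom = K := pgInv_conj_eq hK hv
        rwa [h2] at h1
      exact hne (Subgroup.eq_of_le_of_card_ge hle (hminK _ hinv))
    rw [Subgroup.commutator_eq_bot_iff_le_centralizer] at hbot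
    intro a ha b hb
    have h1 := hbot ha
    rw [Subgroup.mem_centralizer_iff] at h1
    exact (h1 b hb).symm
  -- all conjugates of `K` commute elementwise
  have hall : ∀ x ∈ Group.conjugatesOfSet (K : Set G),
      ∀ y ∈ Group.conjugatesOfSet (K : Set G), x * y = y * x := by
    intro x hx y hy
    rw [Group.mem_conjugatesOfSet_iff] at hx hy
    obtain ⟨a, ha, hax⟩ := hx
    obtain ⟨b, hb, hby⟩ := hy
    rw [isConj_iff] at hax hby
    obtain ⟨c, rfl⟩ := hax
    obtain ⟨d, rfl⟩ := hby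
    by_cases hcd : pgcj c K = pgcj d K
    · have hy' : d * b * d⁻¹ ∈ pgcj c K := by
        rw [hcd]
        exact ⟨b, hb, rfl⟩
      obtain ⟨b', hb', hb'e⟩ := hy'
      have hb'e' : c * b' * c⁻¹ = d * b * d⁻¹ := hb'e
      rw [← hb'e']
      have h1 := hKab a ha b' hb'
      calc c * a * c⁻¹ * (c * b' * c⁻¹) = c * (a * b') * c⁻¹ := by group
        _ = c * (b' * a) * c⁻¹ := by rw [h1]
        _ = c * b' * c⁻¹ * (c * a * c⁻¹) := by group
    · have hd' := hdisj (pgcj c K) (pgcj d K) (pgInv_conj hVn hK c) (pgInv_conj hVn hK d)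
        (hcard c) (hcard d) hcd
      exact pgc_comm_of_inf_bot (pgInv_conj hVn hK c) (pgInv_conj hVn hK d) hd' _
        ⟨a, ha, rfl⟩ _ ⟨b, hb, rfl⟩
  -- `V` is the normal closure of `K`, hence abelian
  have hNC : Subgroup.normalClosure (K : Set G) = V := by
    rcases hmin _ Subgroup.normalClosure_normal (Subgroup.normalClosure_le_normal hK.1) with h | h
    · exfalso
      apply hK.2.1
      rw [eq_bot_iff, ← h]
      exact Subgroup.le_normalClosure
    · exact h
  apply hnab
  intro x hx y hy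
  rw [← hNC] at hx hy
  exact pgc_closure_comm _ hall x hx y hy

-- PIECE C
theorem pg_min_simple {G : Type u} [Group G] [Finite G] (hord : Nat.card G = 7920)
    (V : Subgroup G) (hVn : V.Normal) (hV1 : V ≠ ⊥)
    (hmin : ∀ W : Subgroup G, W.Normal → W ≤ V → W = ⊥ ∨ W = V)
    (hnab : ¬ ∀ x ∈ V, ∀ y ∈ V, x * y = y * x) : IsSimpleGroup V := by
  have hVnt : Nontrivial V := (Subgroup.nontrivial_iff_ne_bot V).2 hV1
  refine { toNontrivial := hVnt, eq_bot_or_eq_top_of_normal := fun H hH => ?_ }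
  by_cases hb : H = ⊥
  · exact Or.inl hb
  right
  have hinv : PgInv V (H.map V.subtype) := by
    refine ⟨Subgroup.map_subtype_le H, ?_, ?_⟩
    · rw [Ne, Subgroup.map_eq_bot_iff_of_injective H V.subtype_injective]
      exact hb
    · rintro v hv _ ⟨h, hh, rfl⟩
      exact ⟨⟨v, hv⟩ * h * ⟨v, hv⟩⁻¹, hH.conj_mem h hh ⟨v, hv⟩, rfl⟩
  have hmap := pgc_main hord V hVn hmin hnab _ hinv
  rw [eq_top_iff]
  intro x _
  have hx : (x : G) ∈ H.map V.subtype := by
    rw [hmap]
    exact x.2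
  obtain ⟨y, hy, hyx⟩ := hx
  have hyx' : y = x := Subtype.ext hyx
  rwa [← hyx']

end Cfsg.Agent.Lib.helper72
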