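import Mathlib
import Cfsg.Prelude.Def_GeometricClasses
import Cfsg.Agent.Lib.helper24.SfoDefs

set_option autoImplicit false

namespace Cfsg.Agent.Lib.helper2

open Cfsg.Geo Matrix

/-- EMB2 -/
theorem qfc_embed {F : Type*} [Field F] {ι : Type} [Fintype ι] [DecidableEq ι]
    (Q : (ι → F) → F) (δ : F) [Fact (∀ r : F, r ^ 2 ≠ δ + 0 * r)] (κ : Matrix ι ι F)
    (d : ℕ) (Φ : (Fin d → QuadraticAlgebra F δ 0) ≃+ (ι → F))
    (hΦ : ∀ (z : QuadraticAlgebra F δ 0) (k : Fin d → QuadraticAlgebra F δ 0),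
        Φ (z • k) = z.re • Φ k + z.im • (κ *ᵥ Φ k))
    (qk : (ι → F) → QuadraticAlgebra F δ 0) (hre : ∀ v, (qk v).re = Q v)
    (φ : GL (Fin d) (QuadraticAlgebra F δ 0) →* GL ι F) (hφi : Function.Injective φ)
    (hφ : ∀ (T : GL (Fin d) (QuadraticAlgebra F δ 0)) (k : Fin d → QuadraticAlgebra F δ 0),
        (φ T : Matrix ι ι F) *ᵥ Φ k =
          Φ ((T : Matrix (Fin d) (Fin d) (QuadraticAlgebra F δ 0)) *ᵥ k)) :
    ∃ H : Subgroup (GL ι F), H ≤ Cfsg.isometryGroup F Q ∧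
      (∀ g ∈ H, (g : Matrix ι ι F) * κ = κ * (g : Matrix ι ι F)) ∧
      Nat.card H = Nat.card (Cfsg.Agent.Lib.helper24.sfoIsom (fun k => qk (Φ k))) := by
  refine ⟨(Cfsg.Agent.Lib.helper24.sfoIsom (fun k => qk (Φ k))).map φ, ?_, ?_, ?_⟩
  · rintro g ⟨T, hT, rfl⟩
    intro u v
    change Q ((φ T : Matrix ι ι F) *ᵥ u) = Q u
    obtain ⟨k, rfl⟩ := Φ.surjective u
    rw [hφ T k, ← hre, ← hre]
    have := hT k
    exact congrArg QuadraticAlgebra.re this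
  · rintro g ⟨T, hT, rfl⟩
    have hκ : ∀ k : Fin d → QuadraticAlgebra F δ 0, κ *ᵥ Φ k = Φ ((⟨0, 1⟩ : QuadraticAlgebra F δ 0) • k) := by
      intro k
      rw [hΦ]
      simp
    apply Matrix.toLin'.injective
    apply LinearMap.ext
    intro u
    obtain ⟨k, rfl⟩ := Φ.surjective u
    rw [Matrix.toLin'_apply, Matrix.toLin'_apply, ← Matrix.mulVec_mulVec, ← Matrix.mulVec_mulVec,
      hκ k, hφ T, hφ T, hκ, Matrix.mulVec_smul]
  · exact (Nat.card_congr (Subgroup.equivMapOfInjective _ φ hφi).toEquiv).symm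

end Cfsg.Agent.Lib.helper2
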