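import Mathlib
import Cfsg.Prelude.Def_GeometricClasses

set_option autoImplicit false

namespace Cfsg.Agent.Lib.helper2

open Cfsg.Geo Matrix

/-- QK (racer copy, helper72) -/
theorem h72_qfc_qk_nondeg {F : Type*} [Field F] {ι : Type} [Fintype ι] [DecidableEq ι]
    (h2 : (2 : F) ≠ 0) (Q : (ι → F) → F) (hQ : IsNondegenerateQuadraticForm Q)
    (δ : F) [Fact (∀ r : F, r ^ 2 ≠ δ + 0 * r)] (κ : Matrix ι ι F)
    (hκ : κ * κ = δ • (1 : Matrix ι ι F))
    (hsa : ∀ u v : ι → F, QuadraticMap.polar Q (κ *ᵥ u) v = QuadraticMap.polar Q u (κ *ᵥ v))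
    (d : ℕ) (Φ : (Fin d → QuadraticAlgebra F δ 0) ≃+ (ι → F))
    (hΦ : ∀ (z : QuadraticAlgebra F δ 0) (k : Fin d → QuadraticAlgebra F δ 0),
        Φ (z • k) = z.re • Φ k + z.im • (κ *ᵥ Φ k)) :
    IsNondegenerateQuadraticForm
      (fun k : Fin d → QuadraticAlgebra F δ 0 =>
        (⟨Q (Φ k), QuadraticMap.polar Q (κ *ᵥ Φ k) (Φ k) / (2 * δ)⟩ : QuadraticAlgebra F δ 0)) := by
  have hδ : δ ≠ 0 := by
    intro h
    have := (Fact.out : ∀ r : F, r ^ 2 ≠ δ + 0 * r) 0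
    apply this
    rw [h]; ring
  have hB := hQ.polar_bilinear
  have hsym : ∀ u v : ι → F, QuadraticMap.polar Q u v = QuadraticMap.polar Q v u := by
    intro u v
    unfold QuadraticMap.polar
    rw [add_comm u v]
    ring
  have hQadd : ∀ u v : ι → F, Q (u + v) = Q u + Q v + QuadraticMap.polar Q u v := by
    intro u v
    unfold QuadraticMap.polar
    ring
  have hBvv : ∀ v : ι → F, QuadraticMap.polar Q v v = 2 * Q v := by
    intro v
    unfold QuadraticMap.polar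
    have h : v + v = (2 : F) • v := (two_smul F v).symm
    rw [h, hQ.smul]
    ring
  have hκκ : ∀ v : ι → F, κ *ᵥ (κ *ᵥ v) = δ • v := by
    intro v
    rw [Matrix.mulVec_mulVec, hκ, Matrix.smul_mulVec, Matrix.one_mulVec]
  have hQκ : ∀ v : ι → F, Q (κ *ᵥ v) = δ * Q v := by
    intro v
    have h1 := hBvv (κ *ᵥ v)
    rw [hsa, hκκ, hB.smul_right, hBvv] at h1
    have : (2 : F) * Q (κ *ᵥ v) = 2 * (δ * Q v) := by rw [← h1]; ring
    exact mul_left_cancel₀ h2 this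
  -- the polar form
  have hpol : ∀ k k' : Fin d → QuadraticAlgebra F δ 0,
      QuadraticMap.polar (fun k : Fin d → QuadraticAlgebra F δ 0 =>
        (⟨Q (Φ k), QuadraticMap.polar Q (κ *ᵥ Φ k) (Φ k) / (2 * δ)⟩ : QuadraticAlgebra F δ 0)) k k' =
      (⟨QuadraticMap.polar Q (Φ k) (Φ k'), QuadraticMap.polar Q (κ *ᵥ Φ k) (Φ k') / δ⟩ : QuadraticAlgebra F δ 0) := by
    intro k k'
    unfold QuadraticMap.polar
    apply QuadraticAlgebra.ext
    · simp only [QuadraticAlgebra.re_sub, map_add]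
    · simp only [QuadraticAlgebra.im_sub, map_add, Matrix.mulVec_add]
      have e1 : QuadraticMap.polar Q (κ *ᵥ Φ k + κ *ᵥ Φ k') (Φ k + Φ k') =
          QuadraticMap.polar Q (κ *ᵥ Φ k) (Φ k) + 2 * QuadraticMap.polar Q (κ *ᵥ Φ k) (Φ k') +
            QuadraticMap.polar Q (κ *ᵥ Φ k') (Φ k') := by
        rw [hB.add_left, hB.add_right, hB.add_right]
        have : QuadraticMap.polar Q (κ *ᵥ Φ k') (Φ k) = QuadraticMap.polar Q (κ *ᵥ Φ k) (Φ k') := by
          rw [hsa, hsym]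
        rw [this]; ring
      unfold QuadraticMap.polar at e1
      rw [e1]
      field_simp
      ring
  have hpsym : ∀ k k' : Fin d → QuadraticAlgebra F δ 0,
      QuadraticMap.polar (fun k : Fin d → QuadraticAlgebra F δ 0 =>
        (⟨Q (Φ k), QuadraticMap.polar Q (κ *ᵥ Φ k) (Φ k) / (2 * δ)⟩ : QuadraticAlgebra F δ 0)) k k' =
      QuadraticMap.polar (fun k : Fin d → QuadraticAlgebra F δ 0 =>
        (⟨Q (Φ k), QuadraticMap.polar Q (κ *ᵥ Φ k) (Φ k) / (2 * δ)⟩ : QuadraticAlgebra F δ 0)) k' k := by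
    intro k k'
    unfold QuadraticMap.polar
    rw [add_comm k k']
    ring
  have hadd : ∀ x y v : Fin d → QuadraticAlgebra F δ 0,
      QuadraticMap.polar (fun k : Fin d → QuadraticAlgebra F δ 0 =>
        (⟨Q (Φ k), QuadraticMap.polar Q (κ *ᵥ Φ k) (Φ k) / (2 * δ)⟩ : QuadraticAlgebra F δ 0)) (x + y) v =
      QuadraticMap.polar (fun k : Fin d → QuadraticAlgebra F δ 0 =>
        (⟨Q (Φ k), QuadraticMap.polar Q (κ *ᵥ Φ k) (Φ k) / (2 * δ)⟩ : QuadraticAlgebra F δ 0)) x v +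
      QuadraticMap.polar (fun k : Fin d → QuadraticAlgebra F δ 0 =>
        (⟨Q (Φ k), QuadraticMap.polar Q (κ *ᵥ Φ k) (Φ k) / (2 * δ)⟩ : QuadraticAlgebra F δ 0)) y v := by
    intro x y v
    rw [hpol, hpol, hpol]
    apply QuadraticAlgebra.ext
    · simp only [QuadraticAlgebra.re_add, map_add, hB.add_left]
    · simp only [QuadraticAlgebra.im_add, map_add, Matrix.mulVec_add, hB.add_left]
      ring
  have hsmul : ∀ (c : QuadraticAlgebra F δ 0) (x v : Fin d → QuadraticAlgebra F δ 0),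
      QuadraticMap.polar (fun k : Fin d → QuadraticAlgebra F δ 0 =>
        (⟨Q (Φ k), QuadraticMap.polar Q (κ *ᵥ Φ k) (Φ k) / (2 * δ)⟩ : QuadraticAlgebra F δ 0)) (c • x) v =
      c * QuadraticMap.polar (fun k : Fin d → QuadraticAlgebra F δ 0 =>
        (⟨Q (Φ k), QuadraticMap.polar Q (κ *ᵥ Φ k) (Φ k) / (2 * δ)⟩ : QuadraticAlgebra F δ 0)) x v := by
    intro c x v
    rw [hpol, hpol, hΦ]
    apply QuadraticAlgebra.ext
    · simp only [QuadraticAlgebra.re_mul, hB.add_left, hB.smul_left]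
      field_simp
    · simp only [QuadraticAlgebra.im_mul, Matrix.mulVec_add, Matrix.mulVec_smul, hκκ, hB.add_left, hB.smul_left]
      field_simp
      ring
  refine ⟨?_, ⟨hadd, hsmul, ?_, ?_⟩, ?_⟩
  · intro c k
    rw [hΦ]
    have e1 : Q (c.re • Φ k + c.im • κ *ᵥ Φ k) =
        (c.re ^ 2 + δ * c.im ^ 2) * Q (Φ k) + c.re * c.im * QuadraticMap.polar Q (κ *ᵥ Φ k) (Φ k) := by
      rw [hQadd, hQ.smul, hQ.smul, hQκ, hB.smul_left, hB.smul_right, hsym (Φ k)]
      ring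
    have e2 : QuadraticMap.polar Q (κ *ᵥ (c.re • Φ k + c.im • κ *ᵥ Φ k)) (c.re • Φ k + c.im • κ *ᵥ Φ k) =
        (c.re ^ 2 + δ * c.im ^ 2) * QuadraticMap.polar Q (κ *ᵥ Φ k) (Φ k) + 4 * c.re * c.im * δ * Q (Φ k) := by
      rw [Matrix.mulVec_add, Matrix.mulVec_smul, Matrix.mulVec_smul, hκκ]
      simp only [hB.add_left, hB.add_right, hB.smul_left, hB.smul_right, hBvv, hQκ, hsym (Φ k) (κ *ᵥ Φ k)]
      ring
    have hc2 : c ^ 2 = c * c := pow_two c
    rw [e1, e2, hc2]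
    apply QuadraticAlgebra.ext
    · simp only [QuadraticAlgebra.re_mul, QuadraticAlgebra.im_mul]
      field_simp
      ring
    · simp only [QuadraticAlgebra.re_mul, QuadraticAlgebra.im_mul]
      field_simp
      ring
  · intro v x y
    rw [hpsym, hadd, hpsym x, hpsym y]
  · intro c v x
    rw [hpsym, hsmul, hpsym x]
  · intro k hk
    have hv : Φ k ≠ 0 := by
      intro h
      apply hk
      apply Φ.injective
      rw [h, map_zero]
    obtain ⟨⟨x, hx⟩, ⟨y, hy⟩⟩ := hQ.nondegenerate (Φ k) hv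
    refine ⟨⟨Φ.symm x, ?_⟩, ⟨Φ.symm y, ?_⟩⟩
    · rw [hpol]
      intro h
      apply hx
      have := congrArg QuadraticAlgebra.re h
      simpa using this
    · rw [hpol]
      intro h
      apply hy
      have := congrArg QuadraticAlgebra.re h
      simpa using this

end Cfsg.Agent.Lib.helper2
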