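import Mathlib
import Cfsg.Agent.Lib.helper81.S0197Defs

/-!
# S0197 piece GL: the facts for the concrete group `GL(2,3)` (helper72)

All matrix facts are decided on the entries `a b c d : ZMod 3`.
-/

set_option autoImplicit false
set_option maxRecDepth 100000

namespace Cfsg.Agent.Lib.helper72.S0197

open Cfsg Cfsg.Agent.Lib.helper81.S0197

/-- `2 × 2` matrices over `ZMod 3`. -/
abbrev M3 := Matrix (Fin 2) (Fin 2) (ZMod 3)

/-- `GL(2,3)`. -/
abbrev GL3 := Matrix.GeneralLinearGroup (Fin 2) (ZMod 3)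

/-! ### Matrix facts (by `decide`) -/

theorem m_center : ∀ a b c d : ZMod 3, a * d - b * c ≠ 0 →
    (!![a,b;c,d] : M3) * !![1,1;0,1] = !![1,1;0,1] * !![a,b;c,d] →
    (!![a,b;c,d] : M3) * !![1,0;1,1] = !![1,0;1,1] * !![a,b;c,d] →
    ((!![a,b;c,d] : M3) = 1 ∨ (!![a,b;c,d] : M3) = !![2,0;0,2]) := by decide

theorem m_cent_z : ∀ a b c d : ZMod 3, a * d - b * c ≠ 0 →
    (!![a,b;c,d] : M3) * !![1,1;1,0] = !![1,1;1,0] * !![a,b;c,d] →
    ∃ k : Fin 8, (!![a,b;c,d] : M3) = (!![1,1;1,0] : M3) ^ (k : ℕ) := by decide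

theorem m_cent_y : ∀ a b c d : ZMod 3, a * d - b * c ≠ 0 →
    (!![a,b;c,d] : M3) * !![2,1;1,1] = !![2,1;1,1] * !![a,b;c,d] →
    ∃ k : Fin 8, (!![a,b;c,d] : M3) = (!![1,1;1,0] : M3) ^ (k : ℕ) := by decide

theorem m_cent_w : ∀ a b c d : ZMod 3, a * d - b * c ≠ 0 →
    (!![a,b;c,d] : M3) * !![2,2;0,2] = !![2,2;0,2] * !![a,b;c,d] →
    ∃ k : Fin 6, (!![a,b;c,d] : M3) = (!![2,2;0,2] : M3) ^ (k : ℕ) := by decide

theorem m_nconj_z : ∀ a b c d : ZMod 3, a * d - b * c ≠ 0 →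
    (!![a,b;c,d] : M3) * !![1,1;1,0] ≠ !![0,1;1,2] * !![a,b;c,d] := by decide

theorem m_ord8 : ∀ a b c d : ZMod 3, (!![a,b;c,d] : M3)^8 = 1 → (!![a,b;c,d] : M3)^4 ≠ 1 →
    (!![a,b;c,d] : M3)^4 = !![2,0;0,2] := by decide

set_option synthInstance.maxHeartbeats 400000 in
set_option synthInstance.maxSize 2048 in
theorem m_invol : ∀ a b c d : ZMod 3, (!![a,b;c,d] : M3)^2 = 1 → (!![a,b;c,d] : M3) ≠ 1 →
    (!![a,b;c,d] : M3) ≠ !![2,0;0,2] →
    ∃ p q r s : ZMod 3, p * s - q * r ≠ 0 ∧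
      (!![p,q;r,s] : M3) * !![a,b;c,d] = !![1,0;0,2] * !![p,q;r,s] := by decide

theorem m_pairs : ∀ a b c d : ZMod 3, a * d - b * c ≠ 0 →
    (((!![a,b;c,d] : M3)^2 = 1 ∧ (!![a,b;c,d] : M3) ≠ 1 ∧ (!![a,b;c,d] : M3) ≠ !![2,0;0,2] ∧
      ((!![a,b;c,d] : M3) * !![2,1;1,1])^2 = 1 ∧ (!![a,b;c,d] : M3) * !![2,1;1,1] ≠ 1 ∧
      (!![a,b;c,d] : M3) * !![2,1;1,1] ≠ !![2,0;0,2]) ↔
     ((!![a,b;c,d] : M3) = !![1,0;2,2] ∨ (!![a,b;c,d] : M3) = !![1,2;0,2] ∨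
      (!![a,b;c,d] : M3) = !![2,0;1,1] ∨ (!![a,b;c,d] : M3) = !![2,1;0,1])) := by decide

/-! ### The bridge between `GL(2,3)` and matrices -/

theorem gl_cases (x : GL3) : ∃ a b c d : ZMod 3, a * d - b * c ≠ 0 ∧ (x : M3) = !![a,b;c,d] := by
  refine ⟨(x : M3) 0 0, (x : M3) 0 1, (x : M3) 1 0, (x : M3) 1 1, ?_, Matrix.eta_fin_two _⟩
  have h := Matrix.GeneralLinearGroup.det_ne_zero x
  rw [Matrix.det_fin_two] at h
  exact h

/-- The element of `GL(2,3)` with given matrix and inverse. -/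
def gmk (A B : M3) (h1 : A * B = 1) (h2 : B * A = 1) : GL3 := ⟨A, B, h1, h2⟩

theorem gmk_val (A B : M3) (h1 : A * B = 1) (h2 : B * A = 1) : ((gmk A B h1 h2 : GL3) : M3) = A :=
  rfl

/-- The element of order 8. -/
def gz : GL3 := gmk !![1,1;1,0] !![0,1;1,2] (by decide) (by decide)

/-- The element of order 6. -/
def gw : GL3 := gmk !![2,2;0,2] !![2,1;0,2] (by decide) (by decide)

theorem gz_val : (gz : M3) = !![1,1;1,0] := rfl

theorem gw_val : (gw : M3) = !![2,2;0,2] := rfl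

theorem gz_pow4 : ((gz ^ 4 : GL3) : M3) = !![2,0;0,2] := by
  rw [Units.val_pow_eq_pow_val, gz_val]
  decide

theorem gz_pow2 : ((gz ^ 2 : GL3) : M3) = !![2,1;1,1] := by
  rw [Units.val_pow_eq_pow_val, gz_val]
  decide

theorem gl_ext {x y : GL3} (h : (x : M3) = (y : M3)) : x = y := Units.ext h

/-- Every non-central involution is conjugate to `diag(1,2)`. -/
theorem gl_invol_conj (u : GL3) (h1 : u ^ 2 = 1) (h2 : u ≠ 1) (h3 : u ≠ gz ^ 4) :
    ∃ n : GL3, n * u * n⁻¹ = gmk !![1,0;0,2] !![1,0;0,2] (by decide) (by decide) := by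
  obtain ⟨a, b, c, d, -, hu⟩ := gl_cases u
  have e1 : (!![a,b;c,d] : M3) ^ 2 = 1 := by
    have h := congrArg Units.val h1
    rwa [Units.val_pow_eq_pow_val, hu, Units.val_one] at h
  have e2 : (!![a,b;c,d] : M3) ≠ 1 := by
    intro h
    apply h2
    apply gl_ext
    rw [hu, h, Units.val_one]
  have e3 : (!![a,b;c,d] : M3) ≠ !![2,0;0,2] := by
    intro h
    apply h3
    apply gl_ext
    rw [hu, h, gz_pow4]
  obtain ⟨p, q, r, s, hdet, hN⟩ := m_invol a b c d e1 e2 e3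
  have hunit : IsUnit (!![p,q;r,s] : M3) := by
    rw [Matrix.isUnit_iff_isUnit_det, Matrix.det_fin_two_of]
    exact isUnit_iff_ne_zero.mpr hdet
  refine ⟨hunit.unit, ?_⟩
  rw [mul_inv_eq_iff_eq_mul]
  apply gl_ext
  rw [Units.val_mul, Units.val_mul, gmk_val, hu]
  exact hN

/-- The four solutions of the `pairs` condition. -/
def gu1 : GL3 := gmk !![1,0;2,2] !![1,0;2,2] (by decide) (by decide)
def gu2 : GL3 := gmk !![1,2;0,2] !![1,2;0,2] (by decide) (by decide)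
def gu3 : GL3 := gmk !![2,0;1,1] !![2,0;1,1] (by decide) (by decide)
def gu4 : GL3 := gmk !![2,1;0,1] !![2,1;0,1] (by decide) (by decide)

theorem gl_pairs_iff (u : GL3) :
    (u ^ 2 = 1 ∧ u ≠ 1 ∧ u ≠ gz ^ 4 ∧ (u⁻¹ * gz ^ 2) ^ 2 = 1 ∧
      u⁻¹ * gz ^ 2 ≠ 1 ∧ u⁻¹ * gz ^ 2 ≠ gz ^ 4) ↔
    (u = gu1 ∨ u = gu2 ∨ u = gu3 ∨ u = gu4) := by
  obtain ⟨a, b, c, d, hdet, hu⟩ := gl_cases u
  have key := m_pairs a b c d hdet
  have A1 : u ^ 2 = 1 ↔ (!![a,b;c,d] : M3) ^ 2 = 1 := by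
    rw [Units.ext_iff, Units.val_pow_eq_pow_val, hu, Units.val_one]
  have A2 : u = 1 ↔ (!![a,b;c,d] : M3) = 1 := by
    rw [Units.ext_iff, hu, Units.val_one]
  have A3 : u = gz ^ 4 ↔ (!![a,b;c,d] : M3) = !![2,0;0,2] := by
    rw [Units.ext_iff, hu, gz_pow4]
  have A4 : (u * gz ^ 2) ^ 2 = 1 ↔ ((!![a,b;c,d] : M3) * !![2,1;1,1]) ^ 2 = 1 := by
    rw [Units.ext_iff, Units.val_pow_eq_pow_val, Units.val_mul, hu, gz_pow2, Units.val_one]
  have A5 : u * gz ^ 2 = 1 ↔ (!![a,b;c,d] : M3) * !![2,1;1,1] = 1 := by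
    rw [Units.ext_iff, Units.val_mul, hu, gz_pow2, Units.val_one]
  have A6 : u * gz ^ 2 = gz ^ 4 ↔ (!![a,b;c,d] : M3) * !![2,1;1,1] = !![2,0;0,2] := by
    rw [Units.ext_iff, Units.val_mul, hu, gz_pow2, gz_pow4]
  have B1 : u = gu1 ↔ (!![a,b;c,d] : M3) = !![1,0;2,2] := by
    rw [Units.ext_iff, hu]
    exact Iff.rfl
  have B2 : u = gu2 ↔ (!![a,b;c,d] : M3) = !![1,2;0,2] := by
    rw [Units.ext_iff, hu]
    exact Iff.rfl
  have B3 : u = gu3 ↔ (!![a,b;c,d] : M3) = !![2,0;1,1] := by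
    rw [Units.ext_iff, hu]
    exact Iff.rfl
  have B4 : u = gu4 ↔ (!![a,b;c,d] : M3) = !![2,1;0,1] := by
    rw [Units.ext_iff, hu]
    exact Iff.rfl
  constructor
  · rintro ⟨h1, h2, h3, h4, h5, h6⟩
    have hinv : u⁻¹ = u := inv_eq_of_mul_eq_one_right (by rw [← pow_two]; exact h1)
    rw [hinv] at h4 h5 h6
    have h := key.mp ⟨A1.mp h1, fun h => h2 (A2.mpr h), fun h => h3 (A3.mpr h), A4.mp h4,
      fun h => h5 (A5.mpr h), fun h => h6 (A6.mpr h)⟩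
    rcases h with h | h | h | h
    · exact Or.inl (B1.mpr h)
    · exact Or.inr (Or.inl (B2.mpr h))
    · exact Or.inr (Or.inr (Or.inl (B3.mpr h)))
    · exact Or.inr (Or.inr (Or.inr (B4.mpr h)))
  · intro h
    have hm : ((!![a,b;c,d] : M3) = !![1,0;2,2] ∨ (!![a,b;c,d] : M3) = !![1,2;0,2] ∨
        (!![a,b;c,d] : M3) = !![2,0;1,1] ∨ (!![a,b;c,d] : M3) = !![2,1;0,1]) := by
      rcases h with h | h | h | h
      · exact Or.inl (B1.mp h)
      · exact Or.inr (Or.inl (B2.mp h))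
      · exact Or.inr (Or.inr (Or.inl (B3.mp h)))
      · exact Or.inr (Or.inr (Or.inr (B4.mp h)))
    obtain ⟨m1, m2, m3, m4, m5, m6⟩ := key.mpr hm
    have h1 := A1.mpr m1
    have hinv : u⁻¹ = u := inv_eq_of_mul_eq_one_right (by rw [← pow_two]; exact h1)
    rw [hinv]
    exact ⟨h1, fun h => m2 (A2.mp h), fun h => m3 (A3.mp h), A4.mpr m4,
      fun h => m5 (A5.mp h), fun h => m6 (A6.mp h)⟩

theorem gl_pairs_card :
    Nat.card {u : GL3 // u ^ 2 = 1 ∧ u ≠ 1 ∧ u ≠ gz ^ 4 ∧ (u⁻¹ * gz ^ 2) ^ 2 = 1 ∧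
      u⁻¹ * gz ^ 2 ≠ 1 ∧ u⁻¹ * gz ^ 2 ≠ gz ^ 4} = 4 := by
  have hs : ∀ u : GL3, (u ^ 2 = 1 ∧ u ≠ 1 ∧ u ≠ gz ^ 4 ∧ (u⁻¹ * gz ^ 2) ^ 2 = 1 ∧
      u⁻¹ * gz ^ 2 ≠ 1 ∧ u⁻¹ * gz ^ 2 ≠ gz ^ 4) ↔ u ∈ ({gu1, gu2, gu3, gu4} : Finset GL3) := by
    intro u
    rw [gl_pairs_iff]
    simp only [Finset.mem_insert, Finset.mem_singleton]
  rw [Nat.card_congr (Equiv.subtypeEquivRight hs), Nat.card_eq_fintype_card, Fintype.card_coe]
  decide

/-- PIECE GL: the facts for the concrete group `GL(2,3)`. -/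
theorem glfacts_gl23 : ∃ z0 w0 : Matrix.GeneralLinearGroup (Fin 2) (ZMod 3),
    GLFacts (Matrix.GeneralLinearGroup (Fin 2) (ZMod 3)) z0 w0 := by
  refine ⟨gz, gw, ?_⟩
  constructor
  · -- card
    have h := Matrix.card_GL_field (𝔽 := ZMod 3) (n := 2)
    rw [h]
    simp [Fin.prod_univ_two, ZMod.card]
  · -- center
    intro x hx
    obtain ⟨a, b, c, d, hdet, hxv⟩ := gl_cases x
    have h1 := congrArg Units.val (hx (gmk !![1,1;0,1] !![1,2;0,1] (by decide) (by decide)))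
    have h2 := congrArg Units.val (hx (gmk !![1,0;1,1] !![1,0;2,1] (by decide) (by decide)))
    rw [Units.val_mul, Units.val_mul, gmk_val, hxv] at h1 h2
    rcases m_center a b c d hdet h1 h2 with h | h
    · left
      apply gl_ext
      rw [hxv, h, Units.val_one]
    · right
      apply gl_ext
      rw [hxv, h, gz_pow4]
  · -- z8
    apply gl_ext
    rw [Units.val_pow_eq_pow_val, gz_val, Units.val_one]
    decide
  · -- z4
    intro h
    have h' := congrArg Units.val h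
    rw [gz_pow4, Units.val_one] at h'
    revert h'
    decide
  · -- w3
    apply gl_ext
    rw [Units.val_pow_eq_pow_val, gw_val, gz_pow4]
    decide
  · -- w2
    intro h
    have h' := congrArg Units.val h
    rw [Units.val_pow_eq_pow_val, gw_val, Units.val_one] at h'
    revert h'
    decide
  · -- cent_z
    intro x hx
    obtain ⟨a, b, c, d, hdet, hxv⟩ := gl_cases x
    have h1 := congrArg Units.val hx
    rw [Units.val_mul, Units.val_mul, gz_val, hxv] at h1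
    obtain ⟨k, hk⟩ := m_cent_z a b c d hdet h1
    have : x = gz ^ (k : ℕ) := by
      apply gl_ext
      rw [hxv, hk, Units.val_pow_eq_pow_val, gz_val]
    rw [this]
    exact Subgroup.npow_mem_zpowers gz k
  · -- cent_y
    intro x hx
    obtain ⟨a, b, c, d, hdet, hxv⟩ := gl_cases x
    have h1 := congrArg Units.val hx
    rw [Units.val_mul, Units.val_mul, gz_pow2, hxv] at h1
    obtain ⟨k, hk⟩ := m_cent_y a b c d hdet h1
    have : x = gz ^ (k : ℕ) := by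
      apply gl_ext
      rw [hxv, hk, Units.val_pow_eq_pow_val, gz_val]
    rw [this]
    exact Subgroup.npow_mem_zpowers gz k
  · -- cent_w
    intro x hx
    obtain ⟨a, b, c, d, hdet, hxv⟩ := gl_cases x
    have h1 := congrArg Units.val hx
    rw [Units.val_mul, Units.val_mul, gw_val, hxv] at h1
    obtain ⟨k, hk⟩ := m_cent_w a b c d hdet h1
    have : x = gw ^ (k : ℕ) := by
      apply gl_ext
      rw [hxv, hk, Units.val_pow_eq_pow_val, gw_val]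
    rw [this]
    exact Subgroup.npow_mem_zpowers gw k
  · -- conj_z
    refine ⟨gmk !![0,1;2,0] !![0,2;1,0] (by decide) (by decide), ?_⟩
    rw [mul_inv_eq_iff_eq_mul]
    apply gl_ext
    rw [Units.val_mul, Units.val_mul, Units.val_pow_eq_pow_val, gmk_val, gz_val]
    decide
  · -- nconj_z
    intro n hn
    obtain ⟨a, b, c, d, hdet, hnv⟩ := gl_cases n
    rw [mul_inv_eq_iff_eq_mul] at hn
    have h1 := congrArg Units.val hn
    have hinv : ((gz⁻¹ : GL3) : M3) = !![0,1;1,2] := rfl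
    rw [Units.val_mul, Units.val_mul, gz_val, hnv, hinv] at h1
    exact m_nconj_z a b c d hdet h1
  · -- conj_w
    refine ⟨gmk !![1,0;0,2] !![1,0;0,2] (by decide) (by decide), ?_⟩
    rw [mul_inv_eq_iff_eq_mul]
    apply gl_ext
    have hinv : ((gw⁻¹ : GL3) : M3) = !![2,1;0,2] := rfl
    rw [Units.val_mul, Units.val_mul, hinv, gmk_val, gw_val]
    decide
  · -- ord8
    intro x h8 h4
    obtain ⟨a, b, c, d, -, hxv⟩ := gl_cases x
    have e8 : (!![a,b;c,d] : M3) ^ 8 = 1 := by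
      have h := congrArg Units.val h8
      rwa [Units.val_pow_eq_pow_val, hxv, Units.val_one] at h
    have e4 : (!![a,b;c,d] : M3) ^ 4 ≠ 1 := by
      intro h
      apply h4
      apply gl_ext
      rw [Units.val_pow_eq_pow_val, hxv, h, Units.val_one]
    apply gl_ext
    rw [Units.val_pow_eq_pow_val, hxv, m_ord8 a b c d e8 e4, gz_pow4]
  · -- invol
    intro u v hu1 hu2 hu3 hv1 hv2 hv3
    obtain ⟨n, hn⟩ := gl_invol_conj u hu1 hu2 hu3
    obtain ⟨m, hm⟩ := gl_invol_conj v hv1 hv2 hv3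
    refine ⟨m⁻¹ * n, ?_⟩
    have : n * u * n⁻¹ = m * v * m⁻¹ := hn.trans hm.symm
    calc m⁻¹ * n * u * (m⁻¹ * n)⁻¹ = m⁻¹ * (n * u * n⁻¹) * m := by group
      _ = m⁻¹ * (m * v * m⁻¹) * m := by rw [this]
      _ = v := by group
  · -- pairs
    exact gl_pairs_card

end Cfsg.Agent.Lib.helper72.S0197
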