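import Mathlib
import Cfsg.Prelude.Def_TwoFusion

/-!
# S1238 piece A1: a non-isolated central involution of a Sylow 2-subgroup `S` has another
conjugate in `S`.
-/

set_option autoImplicit false

namespace Cfsg.Agent.Lib.helper72.S1238

/-- An involution of a subgroup `K` containing the Sylow 2-subgroup `S` is `K`-conjugate into
`S`. -/
theorem h72_conj_into_sylow {G : Type*} [Group G] [Finite G] (S : Sylow 2 G)
    (K : Subgroup G) (hSK : (S : Subgroup G) ≤ K) (t : G) (htK : t ∈ K) (ht : t * t = 1) :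
    ∃ c ∈ K, c * t * c⁻¹ ∈ (S : Subgroup G) := by
  have : Fact (Nat.Prime 2) := ⟨Nat.prime_two⟩
  have ht2 : (⟨t, htK⟩ : ↥K) ^ 2 = 1 := by
    apply Subtype.ext
    simp [pow_two, ht]
  have hQ : IsPGroup 2 (Subgroup.zpowers (⟨t, htK⟩ : ↥K)) := by
    rintro ⟨g, hg⟩
    obtain ⟨i, rfl⟩ := Subgroup.mem_zpowers_iff.mp hg
    refine ⟨1, ?_⟩
    apply Subtype.ext
    simp only [pow_one, Subgroup.coe_pow, Subgroup.coe_one]
    rw [← zpow_natCast, ← zpow_mul, mul_comm, zpow_mul, zpow_natCast, ht2, one_zpow]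
  obtain ⟨R, hR⟩ := hQ.exists_le_sylow
  obtain ⟨c, hc⟩ := MulAction.exists_smul_eq ↥K R (S.subtype hSK)
  refine ⟨c, c.2, ?_⟩
  have h1 : (⟨t, htK⟩ : ↥K) ∈ (R : Subgroup ↥K) := hR (Subgroup.mem_zpowers _)
  have h2 : c * ⟨t, htK⟩ * c⁻¹ ∈ ((c • R : Sylow 2 ↥K) : Subgroup ↥K) := by
    rw [Sylow.coe_subgroup_smul]
    exact Subgroup.smul_mem_pointwise_smul _ _ _ h1
  rw [hc, Sylow.coe_subtype, Subgroup.mem_subgroupOf] at h2
  simpa using h2

/-- PIECE A1. A non-isolated central involution of `S` has another conjugate in `S`. -/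
theorem exists_conj_in_sylow {G : Type*} [Group G] [Finite G] (S : Sylow 2 G) (z : G)
    (hzS : z ∈ (S : Subgroup G)) (hzc : ∀ g ∈ (S : Subgroup G), g * z = z * g)
    (hz2 : orderOf z = 2) (hiso : ¬ Cfsg.IsIsolatedInvolution z) :
    ∃ h : G, h * z * h⁻¹ ∈ (S : Subgroup G) ∧ h * z * h⁻¹ ≠ z := by
  have hex : ∃ g : G, Commute z (g * z * g⁻¹) ∧ g * z * g⁻¹ ≠ z := by
    by_contra hcon
    push Not at hcon
    exact hiso ⟨hz2, hcon⟩
  obtain ⟨g, hcom, hne⟩ := hex
  have hzz : z * z = 1 := by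
    have := pow_orderOf_eq_one z
    rw [hz2, pow_two] at this
    exact this
  obtain ⟨t, ht⟩ : ∃ t : G, t = g * z * g⁻¹ := ⟨_, rfl⟩
  rw [← ht] at hcom hne
  have htt : t * t = 1 := by
    rw [ht]
    calc g * z * g⁻¹ * (g * z * g⁻¹) = g * (z * z) * g⁻¹ := by group
      _ = 1 := by rw [hzz]; group
  have hSK : (S : Subgroup G) ≤ Subgroup.centralizer {z} := by
    intro x hx
    rw [Subgroup.mem_centralizer_iff]
    intro y hy
    rw [Set.mem_singleton_iff] at hy
    rw [hy]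
    exact (hzc x hx).symm
  have htK : t ∈ Subgroup.centralizer {z} := by
    rw [Subgroup.mem_centralizer_iff]
    intro y hy
    rw [Set.mem_singleton_iff] at hy
    rw [hy]
    exact hcom.eq
  obtain ⟨c, hcK, hcS⟩ := h72_conj_into_sylow S (Subgroup.centralizer {z}) hSK t htK htt
  have e : c * g * z * (c * g)⁻¹ = c * t * c⁻¹ := by
    rw [ht]
    group
  refine ⟨c * g, ?_, ?_⟩
  · rw [e]
    exact hcS
  · rw [e]
    intro hEq
    have hcz : z * c = c * z :=
      (Subgroup.mem_centralizer_iff.mp hcK) z (Set.mem_singleton z)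
    apply hne
    have h3 : t = c⁻¹ * (c * t * c⁻¹) * c := by group
    rw [h3, hEq, mul_assoc, hcz, ← mul_assoc, inv_mul_cancel, one_mul]

end Cfsg.Agent.Lib.helper72.S1238
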