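import Mathlib

/-!
# S1238 piece A2 (Burnside): central elements of a Sylow subgroup conjugate in `G` are conjugate
in the normalizer.
-/

set_option autoImplicit false

namespace Cfsg.Agent.Lib.helper72.S1238

/-- PIECE A2 (Burnside). Central elements of `S` conjugate in `G` are conjugate in `N_G(S)`. -/
theorem burnside_central {G : Type*} [Group G] [Finite G] (S : Sylow 2 G) (a b : G)
    (hac : ∀ g ∈ (S : Subgroup G), g * a = a * g) (hbc : ∀ g ∈ (S : Subgroup G), g * b = b * g)
    (h : G) (hh : h * a * h⁻¹ = b) :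
    ∃ n : G, n ∈ Subgroup.normalizer ((S : Subgroup G) : Set G) ∧ n * a * n⁻¹ = b := by
  have : Fact (Nat.Prime 2) := ⟨Nat.prime_two⟩
  have hx : a ∈ Subgroup.centralizer ((S : Subgroup G) : Set G) := by
    rw [Subgroup.mem_centralizer_iff]
    intro g hg
    exact hac g hg
  have hy : (h⁻¹)⁻¹ * a * h⁻¹ ∈ Subgroup.centralizer ((S : Subgroup G) : Set G) := by
    rw [inv_inv, hh, Subgroup.mem_centralizer_iff]
    intro g hg
    exact hbc g hg
  obtain ⟨n, hn, e⟩ := Sylow.conj_eq_normalizer_conj_of_mem_centralizer S a h⁻¹ hx hy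
  refine ⟨n⁻¹, inv_mem hn, ?_⟩
  rw [inv_inv, ← e, inv_inv, hh]

end Cfsg.Agent.Lib.helper72.S1238
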