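import Mathlib
import Cfsg.Prelude.Def_TwoFusion
import Cfsg.Prelude.Def_CaseTheorems
import Cfsg.Agent.Lib.helper72.S1238A1
import Cfsg.Agent.Lib.helper72.S1238A2

/-!
# S1238 piece A3: two central involutions of a Sylow 2-subgroup `S` of a group of 2-rank 2
without isolated involutions give an automorphism of `S` whose powers are transitive on the
involutions of `S`.
-/

set_option autoImplicit false

namespace Cfsg.Agent.Lib.helper72.S1238

/-- A map permuting three points is fixed-point-free, the identity or a transposition. -/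
private theorem h72_perm3_class {X : Type*} {a b c : X} (hab : a ≠ b) (hac : a ≠ c) (hbc : b ≠ c)
    (f : X → X) (fa : f a = a ∨ f a = b ∨ f a = c) (fb : f b = a ∨ f b = b ∨ f b = c)
    (fc : f c = a ∨ f c = b ∨ f c = c) (hfab : f a ≠ f b) (hfac : f a ≠ f c) (hfbc : f b ≠ f c) :
    (f a ≠ a ∧ f b ≠ b ∧ f c ≠ c) ∨ (f a = a ∧ f b = b ∧ f c = c) ∨
      (f a = b ∧ f b = a ∧ f c = c) ∨ (f a = c ∧ f c = a ∧ f b = b) ∨
      (f b = c ∧ f c = b ∧ f a = a) := by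
  have hba := hab.symm
  have hca := hac.symm
  have hcb := hbc.symm
  rcases fa with h1 | h1 | h1 <;> rcases fb with h2 | h2 | h2 <;> rcases fc with h3 | h3 | h3 <;>
    simp_all

/-- A fixed-point-free map permuting three points is transitive on them. -/
private theorem h72_perm3_orbit {X : Type*} {a b c : X} (hab : a ≠ b) (hac : a ≠ c) (hbc : b ≠ c)
    (f : X → X) (fa : f a = a ∨ f a = b ∨ f a = c) (fb : f b = a ∨ f b = b ∨ f b = c)
    (fc : f c = a ∨ f c = b ∨ f c = c) (hfab : f a ≠ f b) (hfac : f a ≠ f c) (hfbc : f b ≠ f c)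
    (ha : f a ≠ a) (hb : f b ≠ b) (hc : f c ≠ c) (s t : X) (hs : s = a ∨ s = b ∨ s = c)
    (ht : t = a ∨ t = b ∨ t = c) : t = s ∨ t = f s ∨ t = f (f s) := by
  have hba := hab.symm
  have hca := hac.symm
  have hcb := hbc.symm
  have key : (f a = b ∧ f b = c ∧ f c = a) ∨ (f a = c ∧ f c = b ∧ f b = a) := by
    rcases fa with h1 | h1 | h1 <;> rcases fb with h2 | h2 | h2 <;>
      rcases fc with h3 | h3 | h3 <;> simp_all
  rcases key with ⟨k1, k2, k3⟩ | ⟨k1, k2, k3⟩ <;> rcases hs with rfl | rfl | rfl <;>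
    rcases ht with rfl | rfl | rfl <;> simp [k1, k2, k3]

/-- Among three permutations of three points moving the first, second and third point, one of
them or a product of two of them is fixed-point-free. -/
private theorem h72_perm3_fpf {X : Type*} {a b c : X} (hab : a ≠ b) (hac : a ≠ c) (hbc : b ≠ c)
    (f₁ f₂ f₃ : X → X)
    (k₁ : (f₁ a ≠ a ∧ f₁ b ≠ b ∧ f₁ c ≠ c) ∨ (f₁ a = a ∧ f₁ b = b ∧ f₁ c = c) ∨
      (f₁ a = b ∧ f₁ b = a ∧ f₁ c = c) ∨ (f₁ a = c ∧ f₁ c = a ∧ f₁ b = b) ∨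
      (f₁ b = c ∧ f₁ c = b ∧ f₁ a = a))
    (k₂ : (f₂ a ≠ a ∧ f₂ b ≠ b ∧ f₂ c ≠ c) ∨ (f₂ a = a ∧ f₂ b = b ∧ f₂ c = c) ∨
      (f₂ a = b ∧ f₂ b = a ∧ f₂ c = c) ∨ (f₂ a = c ∧ f₂ c = a ∧ f₂ b = b) ∨
      (f₂ b = c ∧ f₂ c = b ∧ f₂ a = a))
    (k₃ : (f₃ a ≠ a ∧ f₃ b ≠ b ∧ f₃ c ≠ c) ∨ (f₃ a = a ∧ f₃ b = b ∧ f₃ c = c) ∨
      (f₃ a = b ∧ f₃ b = a ∧ f₃ c = c) ∨ (f₃ a = c ∧ f₃ c = a ∧ f₃ b = b) ∨
      (f₃ b = c ∧ f₃ c = b ∧ f₃ a = a))
    (m₁ : f₁ a ≠ a) (m₂ : f₂ b ≠ b) (m₃ : f₃ c ≠ c) :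
    (f₁ a ≠ a ∧ f₁ b ≠ b ∧ f₁ c ≠ c) ∨ (f₂ a ≠ a ∧ f₂ b ≠ b ∧ f₂ c ≠ c) ∨
      (f₃ a ≠ a ∧ f₃ b ≠ b ∧ f₃ c ≠ c) ∨
      (f₁ (f₂ a) ≠ a ∧ f₁ (f₂ b) ≠ b ∧ f₁ (f₂ c) ≠ c) ∨
      (f₁ (f₃ a) ≠ a ∧ f₁ (f₃ b) ≠ b ∧ f₁ (f₃ c) ≠ c) := by
  rcases k₁ with h | ⟨h1, h2, h3⟩ | ⟨h1, h2, h3⟩ | ⟨h1, h2, h3⟩ | ⟨h1, h2, h3⟩
  · exact Or.inl h
  · exact absurd h1 m₁
  · -- f₁ = (a b): use f₃
    rcases k₃ with g | ⟨g1, g2, g3⟩ | ⟨g1, g2, g3⟩ | ⟨g1, g2, g3⟩ | ⟨g1, g2, g3⟩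
    · exact Or.inr (Or.inr (Or.inl g))
    · exact absurd g3 m₃
    · exact absurd g3 m₃
    · refine Or.inr (Or.inr (Or.inr (Or.inr ?_)))
      rw [g1, g2, g3, h1, h2, h3]
      exact ⟨hac.symm, hab, hbc⟩
    · refine Or.inr (Or.inr (Or.inr (Or.inr ?_)))
      rw [g1, g2, g3, h1, h2, h3]
      exact ⟨hab.symm, hbc.symm, hac⟩
  · -- f₁ = (a c): use f₂
    rcases k₂ with g | ⟨g1, g2, g3⟩ | ⟨g1, g2, g3⟩ | ⟨g1, g2, g3⟩ | ⟨g1, g2, g3⟩
    · exact Or.inr (Or.inl g)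
    · exact absurd g2 m₂
    · refine Or.inr (Or.inr (Or.inr (Or.inl ?_)))
      rw [g1, g2, g3, h1, h2, h3]
      exact ⟨hab.symm, hbc.symm, hac⟩
    · exact absurd g3 m₂
    · refine Or.inr (Or.inr (Or.inr (Or.inl ?_)))
      rw [g1, g2, g3, h1, h2, h3]
      exact ⟨hac.symm, hab, hbc⟩
  · exact absurd h3 m₁

/-- PIECE A3. Case I: two central involutions give an automorphism of `S` whose powers are
transitive on the involutions of `S`. -/
theorem central_aut {G : Type*} [Group G] [Finite G] (h2 : Cfsg.PRankLE 2 2 G)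
    (hiso : ∀ z : G, ¬ Cfsg.IsIsolatedInvolution z) (S : Sylow 2 G)
    (z₁ z₂ : G) (h₁ : z₁ ∈ (S : Subgroup G)) (h₂ : z₂ ∈ (S : Subgroup G))
    (hc₁ : ∀ g ∈ (S : Subgroup G), g * z₁ = z₁ * g) (hc₂ : ∀ g ∈ (S : Subgroup G), g * z₂ = z₂ * g)
    (ho₁ : orderOf z₁ = 2) (ho₂ : orderOf z₂ = 2) (hne : z₁ ≠ z₂) :
    ∃ φ : MulAut ↥(S : Subgroup G), ∀ s t : ↥(S : Subgroup G), orderOf s = 2 → orderOf t = 2 →
      ∃ k : ℕ, (φ ^ k) s = t := by
  classical
  have : Fact (Nat.Prime 2) := ⟨Nat.prime_two⟩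
  obtain ⟨hz1sq, hz1ne⟩ := orderOf_eq_prime_iff.mp ho₁
  obtain ⟨hz2sq, hz2ne⟩ := orderOf_eq_prime_iff.mp ho₂
  rw [pow_two] at hz1sq hz2sq
  obtain ⟨z₃, hz3⟩ : ∃ z₃ : G, z₃ = z₁ * z₂ := ⟨_, rfl⟩
  have h12 : z₁ * z₂ = z₂ * z₁ := hc₂ z₁ h₁
  have hz3sq : z₃ * z₃ = 1 := by
    rw [hz3]
    calc z₁ * z₂ * (z₁ * z₂) = z₁ * (z₂ * z₁) * z₂ := by group
      _ = z₁ * (z₁ * z₂) * z₂ := by rw [h12]
      _ = (z₁ * z₁) * (z₂ * z₂) := by group
      _ = 1 := by rw [hz1sq, hz2sq, one_mul]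
  have h13 : z₁ ≠ z₃ := by
    intro h
    apply hz2ne
    have h' : z₁ * 1 = z₁ * z₂ := by rw [mul_one, ← hz3]; exact h
    exact (mul_left_cancel h').symm
  have h23 : z₂ ≠ z₃ := by
    intro h
    apply hz1ne
    have h' : 1 * z₂ = z₁ * z₂ := by rw [one_mul, ← hz3]; exact h
    exact (mul_right_cancel h').symm
  have hz3ne : z₃ ≠ 1 := by
    intro h
    apply hne
    have h' : z₁ * z₂ = z₂ * z₂ := by rw [← hz3, h, hz2sq]
    exact mul_right_cancel h'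
  have h₃ : z₃ ∈ (S : Subgroup G) := by
    rw [hz3]
    exact mul_mem h₁ h₂
  have hc₃ : ∀ g ∈ (S : Subgroup G), g * z₃ = z₃ * g := by
    intro g hg
    rw [hz3, ← mul_assoc, hc₁ g hg, mul_assoc, hc₂ g hg, mul_assoc]
  -- the involutions of `S`
  have hV : ∀ x ∈ (S : Subgroup G), x * x = 1 → x = 1 ∨ x = z₁ ∨ x = z₂ ∨ x = z₃ := by
    intro x hx hxx
    by_contra hcon
    push Not at hcon
    obtain ⟨hx1, hxz1, hxz2, hxz3⟩ := hcon
    have hAc : IsMulCommutative (Subgroup.closure ({z₁, z₂, x} : Set G)) :=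
      Subgroup.isMulCommutative_closure (by
        intro a ha b hb
        simp only [Set.mem_insert_iff, Set.mem_singleton_iff] at ha hb
        rcases ha with ha | ha | ha <;> rcases hb with hb | hb | hb <;> subst ha <;> subst hb
        · rfl
        · exact h12
        · exact (hc₁ _ hx).symm
        · exact h12.symm
        · rfl
        · exact (hc₂ _ hx).symm
        · exact hc₁ _ hx
        · exact hc₂ _ hx
        · rfl)
    have hA2 : ∀ a ∈ Subgroup.closure ({z₁, z₂, x} : Set G), a ^ 2 = 1 := by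
      intro a ha
      induction ha using Subgroup.closure_induction with
      | mem y hy =>
        simp only [Set.mem_insert_iff, Set.mem_singleton_iff] at hy
        rcases hy with hy | hy | hy <;> subst hy <;> rw [pow_two] <;> assumption
      | one => simp
      | mul y w hy hw ihy ihw =>
        have hcomm : y * w = w * y := by
          have := hAc.is_comm.comm ⟨y, hy⟩ ⟨w, hw⟩
          exact congrArg Subtype.val this
        have hc : Commute y w := hcomm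
        rw [hc.mul_pow, ihy, ihw, one_mul]
      | inv y hy ihy => rw [inv_pow, ihy, inv_one]
    have hcard := h2 _ hAc hA2
    have hT : (({1, z₁, z₂, z₃, x} : Finset G) : Set G) ⊆
        ((Subgroup.closure ({z₁, z₂, x} : Set G) : Subgroup G) : Set G) := by
      intro y hy
      simp only [Finset.coe_insert, Finset.coe_singleton, Set.mem_insert_iff,
        Set.mem_singleton_iff] at hy
      rcases hy with hy | hy | hy | hy | hy
      · rw [hy]; exact Subgroup.one_mem _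
      · rw [hy]; exact Subgroup.subset_closure (by simp)
      · rw [hy]; exact Subgroup.subset_closure (by simp)
      · rw [hy, hz3]
        exact Subgroup.mul_mem _ (Subgroup.subset_closure (by simp))
          (Subgroup.subset_closure (by simp))
      · rw [hy]; exact Subgroup.subset_closure (by simp)
    have h5 : ({1, z₁, z₂, z₃, x} : Finset G).card = 5 := by
      rw [Finset.card_insert_of_notMem, Finset.card_insert_of_notMem,
        Finset.card_insert_of_notMem, Finset.card_insert_of_notMem, Finset.card_singleton]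
      · simp only [Finset.mem_singleton]
        exact fun h => hxz3 h.symm
      · simp only [Finset.mem_insert, Finset.mem_singleton, not_or]
        exact ⟨h23, fun h => hxz2 h.symm⟩
      · simp only [Finset.mem_insert, Finset.mem_singleton, not_or]
        exact ⟨hne, h13, fun h => hxz1 h.symm⟩
      · simp only [Finset.mem_insert, Finset.mem_singleton, not_or]
        exact ⟨fun h => hz1ne h.symm, fun h => hz2ne h.symm, fun h => hz3ne h.symm,
          fun h => hx1 h.symm⟩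
    have h6 := Set.ncard_le_ncard hT (Set.toFinite _)
    rw [Set.ncard_coe_finset, h5] at h6
    have h7 : ((Subgroup.closure ({z₁, z₂, x} : Set G) : Subgroup G) : Set G).ncard =
        Nat.card (Subgroup.closure ({z₁, z₂, x} : Set G)) := (Nat.card_coe_set_eq _).symm
    rw [h7] at h6
    omega
  -- involutions of `S` are central in `S`
  have hVc : ∀ x ∈ (S : Subgroup G), x * x = 1 → ∀ g ∈ (S : Subgroup G), g * x = x * g := by
    intro x hx hxx g hg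
    rcases hV x hx hxx with h | h | h | h
    · rw [h, mul_one, one_mul]
    · rw [h]; exact hc₁ g hg
    · rw [h]; exact hc₂ g hg
    · rw [h]; exact hc₃ g hg
  have hNmem : ∀ n ∈ Subgroup.normalizer ((S : Subgroup G) : Set G), ∀ x ∈ (S : Subgroup G),
      n * x * n⁻¹ ∈ (S : Subgroup G) := by
    intro n hn x hx
    exact (Subgroup.mem_normalizer_iff.mp hn x).mp hx
  have hconjsq : ∀ n x : G, x * x = 1 → (n * x * n⁻¹) * (n * x * n⁻¹) = 1 := by
    intro n x hxx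
    calc n * x * n⁻¹ * (n * x * n⁻¹) = n * (x * x) * n⁻¹ := by group
      _ = 1 := by rw [hxx]; group
  have hmove : ∀ t ∈ (S : Subgroup G), t * t = 1 → t ≠ 1 →
      ∃ n ∈ Subgroup.normalizer ((S : Subgroup G) : Set G), n * t * n⁻¹ ≠ t := by
    intro t ht htt ht1
    have hto : orderOf t = 2 := orderOf_eq_prime_iff.mpr ⟨by rw [pow_two]; exact htt, ht1⟩
    obtain ⟨h, hhS, hhne⟩ := exists_conj_in_sylow S t ht (hVc t ht htt) hto (hiso t)
    obtain ⟨n, hn, hnt⟩ := burnside_central S t (h * t * h⁻¹) (hVc t ht htt)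
      (hVc _ hhS (hconjsq h t htt)) h rfl
    exact ⟨n, hn, by rw [hnt]; exact hhne⟩
  have himg : ∀ n ∈ Subgroup.normalizer ((S : Subgroup G) : Set G), ∀ x ∈ (S : Subgroup G),
      x * x = 1 → x ≠ 1 → (n * x * n⁻¹ = z₁ ∨ n * x * n⁻¹ = z₂ ∨ n * x * n⁻¹ = z₃) := by
    intro n hn x hx hxx hx1
    rcases hV _ (hNmem n hn x hx) (hconjsq n x hxx) with h | h | h | h
    · exfalso
      apply hx1
      have e : x = n⁻¹ * (n * x * n⁻¹) * n := by group
      rw [e, h]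
      group
    · exact Or.inl h
    · exact Or.inr (Or.inl h)
    · exact Or.inr (Or.inr h)
  have hinj : ∀ n x y : G, x ≠ y → n * x * n⁻¹ ≠ n * y * n⁻¹ := by
    intro n x y hxy h
    apply hxy
    have e1 : x = n⁻¹ * (n * x * n⁻¹) * n := by group
    have e2 : y = n⁻¹ * (n * y * n⁻¹) * n := by group
    rw [e1, e2, h]
  have hcls : ∀ n ∈ Subgroup.normalizer ((S : Subgroup G) : Set G),
      (n * z₁ * n⁻¹ ≠ z₁ ∧ n * z₂ * n⁻¹ ≠ z₂ ∧ n * z₃ * n⁻¹ ≠ z₃) ∨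
      (n * z₁ * n⁻¹ = z₁ ∧ n * z₂ * n⁻¹ = z₂ ∧ n * z₃ * n⁻¹ = z₃) ∨
      (n * z₁ * n⁻¹ = z₂ ∧ n * z₂ * n⁻¹ = z₁ ∧ n * z₃ * n⁻¹ = z₃) ∨
      (n * z₁ * n⁻¹ = z₃ ∧ n * z₃ * n⁻¹ = z₁ ∧ n * z₂ * n⁻¹ = z₂) ∨
      (n * z₂ * n⁻¹ = z₃ ∧ n * z₃ * n⁻¹ = z₂ ∧ n * z₁ * n⁻¹ = z₁) := by
    intro n hn
    exact h72_perm3_class hne h13 h23 (fun x => n * x * n⁻¹)
      (himg n hn z₁ h₁ hz1sq hz1ne) (himg n hn z₂ h₂ hz2sq hz2ne) (himg n hn z₃ h₃ hz3sq hz3ne)
      (hinj n _ _ hne) (hinj n _ _ h13) (hinj n _ _ h23)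
  -- a fixed-point-free element of the normalizer
  have hfpf : ∃ n ∈ Subgroup.normalizer ((S : Subgroup G) : Set G),
      n * z₁ * n⁻¹ ≠ z₁ ∧ n * z₂ * n⁻¹ ≠ z₂ ∧ n * z₃ * n⁻¹ ≠ z₃ := by
    obtain ⟨n₁, hn₁, hm₁⟩ := hmove z₁ h₁ hz1sq hz1ne
    obtain ⟨n₂, hn₂, hm₂⟩ := hmove z₂ h₂ hz2sq hz2ne
    obtain ⟨n₃, hn₃, hm₃⟩ := hmove z₃ h₃ hz3sq hz3ne
    have hcomp : ∀ n m x : G, n * m * x * (n * m)⁻¹ = n * (m * x * m⁻¹) * n⁻¹ := by
      intro n m x
      group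
    rcases h72_perm3_fpf hne h13 h23 (fun x => n₁ * x * n₁⁻¹) (fun x => n₂ * x * n₂⁻¹)
      (fun x => n₃ * x * n₃⁻¹) (hcls n₁ hn₁) (hcls n₂ hn₂) (hcls n₃ hn₃) hm₁ hm₂ hm₃ with
      h | h | h | h | h
    · exact ⟨n₁, hn₁, h⟩
    · exact ⟨n₂, hn₂, h⟩
    · exact ⟨n₃, hn₃, h⟩
    · refine ⟨n₁ * n₂, mul_mem hn₁ hn₂, ?_⟩
      rw [hcomp, hcomp, hcomp]
      exact h
    · refine ⟨n₁ * n₃, mul_mem hn₁ hn₃, ?_⟩
      rw [hcomp, hcomp, hcomp]
      exact h
  obtain ⟨n, hn, hf1, hf2, hf3⟩ := hfpf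
  -- the automorphism
  let φ : MulAut ↥(S : Subgroup G) :=
    { toFun := fun x => ⟨n * x * n⁻¹, hNmem n hn x x.2⟩
      invFun := fun x => ⟨n⁻¹ * x * n, by
        have := hNmem n⁻¹ (inv_mem hn) x x.2
        rwa [inv_inv] at this⟩
      left_inv := fun x => by
        apply Subtype.ext
        show n⁻¹ * (n * (x : G) * n⁻¹) * n = x
        group
      right_inv := fun x => by
        apply Subtype.ext
        show n * (n⁻¹ * (x : G) * n) * n⁻¹ = x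
        group
      map_mul' := fun x y => by
        apply Subtype.ext
        show n * ((x : G) * (y : G)) * n⁻¹ = n * (x : G) * n⁻¹ * (n * (y : G) * n⁻¹)
        group }
  have hφ : ∀ x : ↥(S : Subgroup G), ((φ x : ↥(S : Subgroup G)) : G) = n * (x : G) * n⁻¹ :=
    fun x => rfl
  refine ⟨φ, ?_⟩
  intro s t hs ht
  have hsG : (s : G) = z₁ ∨ (s : G) = z₂ ∨ (s : G) = z₃ := by
    obtain ⟨hs2, hs1⟩ := orderOf_eq_prime_iff.mp hs
    have hss : (s : G) * (s : G) = 1 := by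
      have := congrArg Subtype.val hs2
      rwa [pow_two] at this
    rcases hV _ s.2 hss with h | h | h | h
    · exact absurd (Subtype.ext h) hs1
    · exact Or.inl h
    · exact Or.inr (Or.inl h)
    · exact Or.inr (Or.inr h)
  have htG : (t : G) = z₁ ∨ (t : G) = z₂ ∨ (t : G) = z₃ := by
    obtain ⟨ht2, ht1⟩ := orderOf_eq_prime_iff.mp ht
    have htt : (t : G) * (t : G) = 1 := by
      have := congrArg Subtype.val ht2
      rwa [pow_two] at this
    rcases hV _ t.2 htt with h | h | h | h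
    · exact absurd (Subtype.ext h) ht1
    · exact Or.inl h
    · exact Or.inr (Or.inl h)
    · exact Or.inr (Or.inr h)
  rcases h72_perm3_orbit hne h13 h23 (fun x => n * x * n⁻¹)
    (himg n hn z₁ h₁ hz1sq hz1ne) (himg n hn z₂ h₂ hz2sq hz2ne) (himg n hn z₃ h₃ hz3sq hz3ne)
    (hinj n _ _ hne) (hinj n _ _ h13) (hinj n _ _ h23) hf1 hf2 hf3 (s : G) (t : G) hsG htG with
    h | h | h
  · refine ⟨0, ?_⟩
    apply Subtype.ext
    rw [pow_zero, MulAut.one_apply]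
    exact h.symm
  · refine ⟨1, ?_⟩
    apply Subtype.ext
    rw [pow_one, hφ]
    exact h.symm
  · refine ⟨2, ?_⟩
    apply Subtype.ext
    rw [pow_two, MulAut.mul_apply, hφ, hφ]
    exact h.symm

end Cfsg.Agent.Lib.helper72.S1238
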