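/-
helper72: S2272 piece L3 (`exists_functional`), with a private copy of the L3a-type lemma
(`dot_functional`: a dot-product functional with prescribed values on an independent family).
-/
import Mathlib

set_option autoImplicit false

namespace Cfsg.Agent.Lib.helper72.S2272

open Matrix

variable {F : Type*} [Field F] {d : ℕ}

/-- Every linear functional on `Fin d → F` is a dot product. -/
theorem dot_of_linear (g : (Fin d → F) →ₗ[F] F) (x : Fin d → F) :
    (fun j : Fin d => g (fun k => if j = k then 1 else 0)) ⬝ᵥ x = g x := by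
  rw [LinearMap.pi_apply_eq_sum_univ g x]
  simp only [dotProduct, smul_eq_mul]
  exact Finset.sum_congr rfl (fun j _ => mul_comm _ _)

/-- A dot-product functional with prescribed values on an independent family. -/
theorem dot_functional {ι : Type*} (w : ι → Fin d → F) (hw : LinearIndependent F w)
    (a : ι → F) : ∃ f : Fin d → F, ∀ i, f ⬝ᵥ w i = a i := by
  classical
  let b := Module.Basis.span hw
  obtain ⟨g, hg⟩ := LinearMap.exists_extend (b.constr F a)
  refine ⟨fun j : Fin d => g (fun k => if j = k then 1 else 0), fun i => ?_⟩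
  rw [dot_of_linear]
  have h1 : g (w i) = (g.comp (Submodule.span F (Set.range w)).subtype) (b i) := by
    rw [LinearMap.comp_apply, Submodule.subtype_apply, Module.Basis.span_apply]
  rw [h1, hg, Module.Basis.constr_basis]

/-- L3 -/
theorem exists_functional (u v₁ v₂ c : Fin d → F) (hli : LinearIndependent F ![u, v₁, v₂])
    (τ : F) : ∃ f : Fin d → F, f ⬝ᵥ u = 0 ∧ (f ⬝ᵥ v₁) * (f ⬝ᵥ v₂) - f ⬝ᵥ c = τ := by
  by_cases hc : c ∈ Submodule.span F (Set.range ![u, v₁, v₂])
  · obtain ⟨k, hk⟩ := (Submodule.mem_span_range_iff_exists_fun F).1 hc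
    rw [Fin.sum_univ_three] at hk
    obtain ⟨f, hf⟩ := dot_functional ![u, v₁, v₂] hli ![0, k 2 + 1, k 1 + τ + k 1 * k 2]
    have h0 : f ⬝ᵥ u = 0 := hf 0
    have h1 : f ⬝ᵥ v₁ = k 2 + 1 := hf 1
    have h2 : f ⬝ᵥ v₂ = k 1 + τ + k 1 * k 2 := hf 2
    have hk' : k 0 • u + k 1 • v₁ + k 2 • v₂ = c := hk
    refine ⟨f, h0, ?_⟩
    rw [← hk', dotProduct_add, dotProduct_add, dotProduct_smul, dotProduct_smul,
      dotProduct_smul, h0, h1, h2]
    simp only [smul_eq_mul]
    ring
  · have hli4 : LinearIndependent F ![c, u, v₁, v₂] :=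
      linearIndependent_finCons.2 ⟨hli, hc⟩
    obtain ⟨f, hf⟩ := dot_functional ![c, u, v₁, v₂] hli4 ![-τ, 0, 0, 0]
    have h0 : f ⬝ᵥ c = -τ := hf 0
    have h1 : f ⬝ᵥ u = 0 := hf 1
    have h2 : f ⬝ᵥ v₁ = 0 := hf 2
    have h3 : f ⬝ᵥ v₂ = 0 := hf 3
    refine ⟨f, h1, ?_⟩
    rw [h2, h3, h0]
    ring

end Cfsg.Agent.Lib.helper72.S2272
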