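/-
helper72: S2272 piece L4 (`exists_sl_map_pair`): for `d ≥ 3`, `SL_d(F)` is transitive on
linearly independent pairs.
-/
import Mathlib
import Cfsg.Agent.Lib.helper72.S2272L3

set_option autoImplicit false

namespace Cfsg.Agent.Lib.helper72.S2272

open Matrix

variable {F : Type*} [Field F] {d : ℕ}

/-- `GL` is transitive on independent pairs: a linear automorphism with prescribed values. -/
theorem exists_linearEquiv_pair (w w' u z : Fin d → F)
    (h1 : LinearIndependent F ![w, w']) (h2 : LinearIndependent F ![u, z]) :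
    ∃ g : (Fin d → F) ≃ₗ[F] (Fin d → F), g w = u ∧ g w' = z := by
  let b1 := Module.Basis.span h1
  let b2 := Module.Basis.span h2
  let f := b1.equiv b2 (Equiv.refl _)
  obtain ⟨g, hg⟩ := Submodule.exists_linearEquiv_restrict_eq f
  have key : ∀ i : Fin 2, g (![w, w'] i) = ![u, z] i := by
    intro i
    have e1 : ((b1 i : Submodule.span F (Set.range ![w, w'])) : Fin d → F) = ![w, w'] i := by
      rw [Module.Basis.span_apply]
    have e2 : ((b2 i : Submodule.span F (Set.range ![u, z])) : Fin d → F) = ![u, z] i := by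
      rw [Module.Basis.span_apply]
    rw [← e1, ← hg (b1 i), Module.Basis.equiv_apply, Equiv.refl_apply, e2]
  exact ⟨g, key 0, key 1⟩

/-- L4 -/
theorem exists_sl_map_pair (hd : 3 ≤ d) (w w' u z : Fin d → F)
    (h1 : LinearIndependent F ![w, w']) (h2 : LinearIndependent F ![u, z]) :
    ∃ h : Matrix.SpecialLinearGroup (Fin d) F,
      (h : Matrix (Fin d) (Fin d) F) *ᵥ w = u ∧ (h : Matrix (Fin d) (Fin d) F) *ᵥ w' = z := by
  classical
  obtain ⟨g, hgw, hgw'⟩ := exists_linearEquiv_pair w w' u z h1 h2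
  -- the matrix of `g`
  let T : Matrix (Fin d) (Fin d) F := LinearMap.toMatrix' (g : (Fin d → F) →ₗ[F] (Fin d → F))
  have hT : ∀ x, T *ᵥ x = g x := fun x => by
    show LinearMap.toMatrix' (g : (Fin d → F) →ₗ[F] (Fin d → F)) *ᵥ x = g x
    rw [← Matrix.toLin'_apply, Matrix.toLin'_toMatrix']
    rfl
  have hdet : T.det ≠ 0 := by
    show (LinearMap.toMatrix' (g : (Fin d → F) →ₗ[F] (Fin d → F))).det ≠ 0
    rw [LinearMap.det_toMatrix']
    exact (LinearEquiv.isUnit_det' g).ne_zero
  -- a functional vanishing on `u`, `z`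
  have hlt : Submodule.span F (Set.range ![u, z]) < ⊤ := by
    rw [lt_top_iff_ne_top]
    intro e
    have h3 : (Set.range ![u, z]).finrank F ≤ Fintype.card (Fin 2) := finrank_range_le_card _
    have h4 : (Set.range ![u, z]).finrank F = d := by
      show Module.finrank F (Submodule.span F (Set.range ![u, z])) = d
      rw [e, finrank_top, Module.finrank_fin_fun]
    rw [h4, Fintype.card_fin] at h3
    omega
  obtain ⟨φ, hφ0, hφ⟩ := Submodule.exists_le_ker_of_lt_top _ hlt
  have hφu : φ u = 0 := by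
    have : u ∈ Submodule.span F (Set.range ![u, z]) := Submodule.subset_span ⟨0, rfl⟩
    exact LinearMap.mem_ker.1 (hφ this)
  have hφz : φ z = 0 := by
    have : z ∈ Submodule.span F (Set.range ![u, z]) := Submodule.subset_span ⟨1, rfl⟩
    exact LinearMap.mem_ker.1 (hφ this)
  obtain ⟨v₀, hv₀⟩ : ∃ v₀, φ v₀ ≠ 0 := by
    by_contra hcon
    push Not at hcon
    exact hφ0 (LinearMap.ext hcon)
  -- the correcting matrix
  let f : Fin d → F := fun j => φ (fun k => if j = k then 1 else 0)
  have hf : ∀ x, f ⬝ᵥ x = φ x := fun x => dot_of_linear φ x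
  let c : Fin d → F := (T.det⁻¹ - 1) • ((φ v₀)⁻¹ • v₀)
  let E : Matrix (Fin d) (Fin d) F := 1 + replicateCol Unit c * replicateRow Unit f
  have hEdet : E.det = T.det⁻¹ := by
    show (1 + replicateCol Unit c * replicateRow Unit f).det = T.det⁻¹
    rw [det_one_add_replicateCol_mul_replicateRow, hf]
    show 1 + φ ((T.det⁻¹ - 1) • ((φ v₀)⁻¹ • v₀)) = T.det⁻¹
    rw [map_smul, map_smul, smul_eq_mul, smul_eq_mul, inv_mul_cancel₀ hv₀]
    ring
  have hE : ∀ x, φ x = 0 → E *ᵥ x = x := by
    intro x hx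
    show (1 + replicateCol Unit c * replicateRow Unit f) *ᵥ x = x
    rw [← vecMulVec_eq, add_mulVec, one_mulVec, vecMulVec_mulVec, hf, hx]
    simp
  have hdetET : (E * T).det = 1 := by
    rw [det_mul, hEdet, inv_mul_cancel₀ hdet]
  refine ⟨⟨E * T, hdetET⟩, ?_, ?_⟩
  · show (E * T) *ᵥ w = u
    rw [← mulVec_mulVec, hT, hgw, hE u hφu]
  · show (E * T) *ᵥ w' = z
    rw [← mulVec_mulVec, hT, hgw', hE z hφz]

end Cfsg.Agent.Lib.helper72.S2272
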