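/-
helper72: S3626 piece C10 (`finite_affGrp`, `card_affGrp_gt`): the affine group `affGrp K k`
is finite, of order larger than `k`.
-/
import Mathlib
import Cfsg.Agent.Lib.helper44.CubeDefs

set_option autoImplicit false

namespace Cfsg.Agent.Lib.helper72.Cube

open Cfsg.Agent.Lib.helper44.Cube

theorem finite_affGrp {K : Type*} [Field K] [Finite K] [ExpChar K 3] (k : ℕ) :
    Finite ↥(affGrp K k) := by
  have h1 : Finite (Matrix (Fin 2) (Fin 2) K) := by
    unfold Matrix
    infer_instance
  infer_instance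

theorem card_affGrp_gt {K : Type*} [Field K] [Finite K] [ExpChar K 3] (k : ℕ) :
    k < Nat.card ↥(affGrp K k) := by
  have h1 : Finite (Matrix (Fin 2) (Fin 2) K) := by
    unfold Matrix
    infer_instance
  have hfin : Finite ↥(affGrp K k) := finite_affGrp k
  -- translations
  let tr : (Fin k → Matrix (Fin 2) (Fin 2) K) → ↥(affGrp K k) := fun B =>
    ⟨affPerm (1 : K) (Or.inl rfl) 1 B, affPerm_mem _ _ _ _⟩
  have hinj : Function.Injective tr := by
    intro B B' h
    have h2 : affPerm (1 : K) (Or.inl rfl) 1 B = affPerm (1 : K) (Or.inl rfl) 1 B' :=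
      congrArg Subtype.val h
    funext i
    have h3 := congrFun (congrArg (fun f => f (0 : Fin k → Matrix (Fin 2) (Fin 2) K)) h2) i
    simp only [affPerm_apply, Pi.zero_apply, twL_zero, zero_add] at h3
    exact h3
  have hle : Nat.card (Fin k → Matrix (Fin 2) (Fin 2) K) ≤ Nat.card ↥(affGrp K k) :=
    Nat.card_le_card_of_injective tr hinj
  have hcard : Nat.card (Fin k → Matrix (Fin 2) (Fin 2) K) =
      Nat.card (Matrix (Fin 2) (Fin 2) K) ^ k := by
    rw [Nat.card_fun, Nat.card_fin]
  have h2 : 2 ≤ Nat.card (Matrix (Fin 2) (Fin 2) K) := by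
    have hnt : Nontrivial (Matrix (Fin 2) (Fin 2) K) := inferInstance
    exact Finite.one_lt_card
  calc k < 2 ^ k := Nat.lt_two_pow_self
    _ ≤ Nat.card (Matrix (Fin 2) (Fin 2) K) ^ k := Nat.pow_le_pow_left h2 k
    _ = Nat.card (Fin k → Matrix (Fin 2) (Fin 2) K) := hcard.symm
    _ ≤ _ := hle

end Cfsg.Agent.Lib.helper72.Cube
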