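/-
helper72: S3626 piece C6 (`exists_order_nine`, `exists_order_six`): the affine group
`affGrp K k` (`k > 0`, characteristic 3) has elements of order 9 and 6.
-/
import Mathlib
import Cfsg.Agent.Lib.helper44.CubeDefs

set_option autoImplicit false

namespace Cfsg.Agent.Lib.helper72.Cube

open Cfsg.Agent.Lib.helper44.Cube

variable {K : Type*} [Field K] [ExpChar K 3]

/-- The unipotent element `[[1,1],[0,1]]`. -/
def c6u (K : Type*) [Field K] : Matrix.SpecialLinearGroup (Fin 2) K :=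
  ⟨!![1, 1; 0, 1], by simp [Matrix.det_fin_two]⟩

/-- The element `[[0,1],[-1,0]]`. -/
def c6s (K : Type*) [Field K] : Matrix.SpecialLinearGroup (Fin 2) K :=
  ⟨!![0, 1; -1, 0], by simp [Matrix.det_fin_two]⟩

theorem c6_frob_coe (g : Matrix.SpecialLinearGroup (Fin 2) K) (i j : Fin 2) :
    (frobSL K g).1 i j = (g.1 i j) ^ 3 := rfl

theorem c6_frob_u : ((frobSL K (c6u K))⁻¹ : Matrix.SpecialLinearGroup (Fin 2) K).1 =
    !![1, -1; 0, 1] := by
  rw [Matrix.SpecialLinearGroup.coe_inv, Matrix.adjugate_fin_two]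
  simp only [c6_frob_coe]
  ext i j
  fin_cases i <;> fin_cases j <;>
    simp [c6u]

theorem c6_frob_s : ((frobSL K (c6s K))⁻¹ : Matrix.SpecialLinearGroup (Fin 2) K).1 =
    !![0, -1; 1, 0] := by
  rw [Matrix.SpecialLinearGroup.coe_inv, Matrix.adjugate_fin_two]
  simp only [c6_frob_coe]
  ext i j
  fin_cases i <;> fin_cases j <;>
    simp [c6s] <;> ring

theorem c6_twL_u (X : Matrix (Fin 2) (Fin 2) K) :
    twL 1 (c6u K) X = !![1, 1; 0, 1] * X * !![1, -1; 0, 1] := by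
  rw [twL_def, one_smul, c6_frob_u]
  rfl

theorem c6_twL_s (X : Matrix (Fin 2) (Fin 2) K) :
    twL 1 (c6s K) X = !![0, 1; -1, 0] * X * !![0, -1; 1, 0] := by
  rw [twL_def, one_smul, c6_frob_s]
  rfl

omit [ExpChar K 3] in
theorem c6_three (h3 : (3 : K) = 0) (M : Matrix (Fin 2) (Fin 2) K) : M + M + M = 0 := by
  ext i j
  simp only [Matrix.add_apply, Matrix.zero_apply]
  linear_combination (M i j) * h3

omit [ExpChar K 3] in
theorem c6_u_cube (h3 : (3 : K) = 0) (Y : Matrix (Fin 2) (Fin 2) K) :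
    !![1, 1; 0, 1] * (!![1, 1; 0, 1] * (!![1, 1; 0, 1] * Y * !![1, -1; 0, 1] + !![0, 0; 1, 0]) *
      !![1, -1; 0, 1] + !![0, 0; 1, 0]) * !![1, -1; 0, 1] + !![0, 0; 1, 0] =
    Y + !![0, 1; 0, 0] := by
  obtain ⟨a, b, c, d, rfl⟩ : ∃ a b c d : K, Y = !![a, b; c, d] :=
    ⟨_, _, _, _, Matrix.eta_fin_two Y⟩
  ext i j
  fin_cases i <;> fin_cases j <;> simp <;>
    first
      | linear_combination (c + 1) * h3
      | linear_combination (d - a - 3 * c - 2) * h3
      | linear_combination h3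
      | linear_combination (-c - 1) * h3

theorem exists_order_nine {K : Type*} [Field K] [ExpChar K 3] (h3 : (3 : K) = 0) (k : ℕ)
    (hk : 0 < k) : ∃ f ∈ affGrp K k, orderOf f = 9 := by
  let f : Equiv.Perm (Fin k → Matrix (Fin 2) (Fin 2) K) :=
    affPerm 1 (Or.inl rfl) (c6u K) (fun _ => !![0, 0; 1, 0])
  have hf : ∀ X i, f X i = !![1, 1; 0, 1] * X i * !![1, -1; 0, 1] + !![0, 0; 1, 0] := by
    intro X i
    rw [affPerm_apply, c6_twL_u]
  have hf3 : ∀ X i, (f ^ 3) X i = X i + !![0, 1; 0, 0] := by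
    intro X i
    have h : f ^ 3 = f * f * f := by rw [pow_succ, pow_two]
    rw [h, Equiv.Perm.mul_apply, Equiv.Perm.mul_apply, hf, hf, hf, c6_u_cube h3]
  have hf9 : f ^ 9 = 1 := by
    have h : f ^ 9 = f ^ 3 * f ^ 3 * f ^ 3 := by
      rw [← pow_add, ← pow_add]
    rw [h]
    apply Equiv.ext
    intro X
    funext i
    rw [Equiv.Perm.mul_apply, Equiv.Perm.mul_apply, hf3, hf3, hf3, Equiv.Perm.one_apply,
      add_assoc, add_assoc, ← add_assoc (!![0, 1; 0, 0] : Matrix (Fin 2) (Fin 2) K),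
      c6_three h3, add_zero]
  have hne : ¬ f ^ 3 = 1 := by
    intro h
    have h1 := hf3 0 ⟨0, hk⟩
    rw [h, Equiv.Perm.one_apply, Pi.zero_apply, zero_add] at h1
    have h2 := congrFun (congrFun h1 0) 1
    simp at h2
  refine ⟨f, affPerm_mem _ _ _ _, ?_⟩
  have : Fact (Nat.Prime 3) := ⟨Nat.prime_three⟩
  have h := orderOf_eq_prime_pow (x := f) (p := 3) (n := 1) (by simpa using hne)
    (by simpa using hf9)
  simpa using h

omit [ExpChar K 3] in
theorem c6_s_sq (Y : Matrix (Fin 2) (Fin 2) K) :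
    !![0, 1; -1, 0] * (!![0, 1; -1, 0] * Y * !![0, -1; 1, 0] + 1) * !![0, -1; 1, 0] + 1 =
    Y + !![2, 0; 0, 2] := by
  obtain ⟨a, b, c, d, rfl⟩ : ∃ a b c d : K, Y = !![a, b; c, d] :=
    ⟨_, _, _, _, Matrix.eta_fin_two Y⟩
  simp only [Matrix.one_fin_two]
  ext i j
  fin_cases i <;> fin_cases j <;> simp <;> ring

omit [ExpChar K 3] in
theorem c6_s_e11 :
    !![0, 1; -1, 0] * (!![1, 0; 0, 0] + !![2, 0; 0, 2]) * !![0, -1; 1, 0] + 1 =
    (!![3, 0; 0, 4] : Matrix (Fin 2) (Fin 2) K) := by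
  simp only [Matrix.one_fin_two]
  ext i j
  fin_cases i <;> fin_cases j <;> simp <;> ring

theorem exists_order_six {K : Type*} [Field K] [ExpChar K 3] (h3 : (3 : K) = 0) (k : ℕ)
    (hk : 0 < k) : ∃ f ∈ affGrp K k, orderOf f = 6 := by
  let f : Equiv.Perm (Fin k → Matrix (Fin 2) (Fin 2) K) :=
    affPerm 1 (Or.inl rfl) (c6s K) (fun _ => 1)
  have hf : ∀ X i, f X i = !![0, 1; -1, 0] * X i * !![0, -1; 1, 0] + 1 := by
    intro X i
    rw [affPerm_apply, c6_twL_s]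
  have hf2 : ∀ X i, (f ^ 2) X i = X i + !![2, 0; 0, 2] := by
    intro X i
    rw [pow_two, Equiv.Perm.mul_apply, hf, hf, c6_s_sq]
  have hf6 : f ^ 6 = 1 := by
    have h : f ^ 6 = f ^ 2 * f ^ 2 * f ^ 2 := by
      rw [← pow_add, ← pow_add]
    rw [h]
    apply Equiv.ext
    intro X
    funext i
    rw [Equiv.Perm.mul_apply, Equiv.Perm.mul_apply, hf2, hf2, hf2, Equiv.Perm.one_apply,
      add_assoc, add_assoc, ← add_assoc (!![2, 0; 0, 2] : Matrix (Fin 2) (Fin 2) K),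
      c6_three h3, add_zero]
  have h10 : (1 : K) ≠ 0 := one_ne_zero
  have hne2 : ¬ f ^ 2 = 1 := by
    intro h
    have h1 := hf2 0 ⟨0, hk⟩
    rw [h, Equiv.Perm.one_apply, Pi.zero_apply, zero_add] at h1
    have h2 := congrFun (congrFun h1 0) 0
    simp at h2
    exact h10 (by linear_combination h3 + h2)
  have hne3 : ¬ f ^ 3 = 1 := by
    intro h
    have h' : f ^ 3 = f * f ^ 2 := pow_succ' f 2
    have h1 : (f ^ 3) (fun _ => !![1, 0; 0, 0]) ⟨0, hk⟩ = (!![3, 0; 0, 4] : Matrix (Fin 2) (Fin 2) K) := by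
      rw [h', Equiv.Perm.mul_apply, hf, hf2, c6_s_e11]
    rw [h, Equiv.Perm.one_apply] at h1
    have h2 := congrFun (congrFun h1 0) 0
    simp at h2
    exact h10 (by linear_combination h3 + h2)
  refine ⟨f, affPerm_mem _ _ _ _, ?_⟩
  have hdvd : orderOf f ∣ 6 := orderOf_dvd_of_pow_eq_one hf6
  have hle : orderOf f ≤ 6 := Nat.le_of_dvd (by norm_num) hdvd
  have hpow := pow_orderOf_eq_one f
  generalize orderOf f = n at hdvd hle hpow
  interval_cases n
  · simp at hdvd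
  · exact absurd (by rw [pow_two, ← pow_one f, hpow, one_mul]) hne2
  · exact absurd hpow hne2
  · exact absurd hpow hne3
  · exact absurd hdvd (by decide)
  · exact absurd hdvd (by decide)
  · rfl

end Cfsg.Agent.Lib.helper72.Cube
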