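/-
helper72: S3626 piece C9 (`exists_type_zero_model`): a finite group has a model in `Type`
with the same order and the same set of element orders.
-/
import Mathlib

set_option autoImplicit false

namespace Cfsg.Agent.Lib.helper72.Cube

/-- A copy of `Fin n` without any algebraic structure. -/
structure C9Fin (n : ℕ) : Type where
  /-- the underlying element -/
  val : Fin n

/-- `C9Fin n ≃ Fin n`. -/
def c9FinEquiv (n : ℕ) : C9Fin n ≃ Fin n where
  toFun x := x.val
  invFun x := ⟨x⟩
  left_inv _ := rfl
  right_inv _ := rfl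

theorem exists_type_zero_model {G : Type*} [Group G] [Finite G] :
    ∃ (H : Type) (_ : Group H) (_ : Fintype H), Fintype.card H = Nat.card G ∧
      Set.range (orderOf : H → ℕ) = Set.range (orderOf : G → ℕ) := by
  let e : C9Fin (Nat.card G) ≃ G := (c9FinEquiv (Nat.card G)).trans (Finite.equivFin G).symm
  let iG : Group (C9Fin (Nat.card G)) := e.group
  let iF : Fintype (C9Fin (Nat.card G)) := Fintype.ofEquiv _ (c9FinEquiv (Nat.card G)).symm
  let e' : C9Fin (Nat.card G) ≃* G := e.mulEquiv
  refine ⟨C9Fin (Nat.card G), iG, iF, ?_, ?_⟩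
  · rw [Fintype.card_congr (c9FinEquiv (Nat.card G)), Fintype.card_fin]
  · ext n
    constructor
    · rintro ⟨x, rfl⟩
      exact ⟨e' x, MulEquiv.orderOf_eq e' x⟩
    · rintro ⟨y, rfl⟩
      refine ⟨e'.symm y, ?_⟩
      have h := MulEquiv.orderOf_eq e' (e'.symm y)
      rw [MulEquiv.apply_symm_apply] at h
      exact h.symm

end Cfsg.Agent.Lib.helper72.Cube
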