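import Mathlib
import Cfsg.Agent.Lib.helper44.SUWDefs

/-!
# S2335 piece R1COUNT (core): the orbit of a rank one skew-Hermitian matrix is large

The piece SLTR (transitivity of `SL_m` on non-zero vectors) enters as a hypothesis.
-/

set_option autoImplicit false

namespace Cfsg.Agent.Lib.helper44.SUW

open Matrix

/-- R1COUNT with SLTR as a hypothesis. -/
theorem h72_rank_one_count_core {K : Type*} [Field K] [Fintype K] [DecidableEq K] {q m : ℕ}
    (hK : Fintype.card K = q ^ 2) (σ : K →+* K) (hσ : ∀ x, σ x = x ^ q)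
    (hSL : ∀ x y : Fin m → K, x ≠ 0 → y ≠ 0 →
      ∃ B : Matrix (Fin m) (Fin m) K, B.det = 1 ∧ B *ᵥ x = y)
    (S : Set (Matrix (Fin m) (Fin m) K))
    (hstab : ∀ Y ∈ S, ∀ B : Matrix (Fin m) (Fin m) K, B.det = 1 → (B.map σ)ᵀ * Y * B ∈ S)
    (c : K) (z : Fin m → K) (hc : c ≠ 0) (hz : z ≠ 0)
    (hmem : c • Matrix.vecMulVec z (fun j => σ (z j)) ∈ S) :
    (q ^ (m + m) - 1) / (q + 1) ≤ Nat.card S := by
  classical
  have hσσ : ∀ x, σ (σ x) = x := fun x => by
    rw [hσ, hσ, ← pow_mul, ← sq, ← hK, FiniteField.pow_card]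
  have hall : ∀ w : Fin m → K, w ≠ 0 → c • Matrix.vecMulVec w (fun j => σ (w j)) ∈ S := by
    intro w hw
    obtain ⟨A, hA, hAz⟩ := hSL z w hz hw
    have hB : ((A.map σ)ᵀ).det = 1 := by
      rw [Matrix.det_transpose, ← RingHom.mapMatrix_apply, ← RingHom.map_det, hA, map_one]
    have h := hstab _ hmem _ hB
    have hAA : (((A.map σ)ᵀ).map σ)ᵀ = A := by
      ext i j
      simp [Matrix.transpose_apply, Matrix.map_apply, hσσ]
    rw [hAA] at h
    have e : A * (c • Matrix.vecMulVec z (fun j => σ (z j))) * (A.map σ)ᵀ =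
        c • Matrix.vecMulVec w (fun j => σ (w j)) := by
      rw [Matrix.mul_smul, Matrix.smul_mul, Matrix.mul_vecMulVec, Matrix.vecMulVec_mul, hAz]
      congr 2
      ext j
      rw [Matrix.vecMul_transpose, ← hAz]
      exact (RingHom.map_mulVec σ A z j).symm
    rw [e] at h
    exact h
  have hfin : Nat.card S = (S.toFinset).card := by
    rw [Nat.card_eq_fintype_card, Set.toFinset_card]
  have himg : ((Finset.univ.filter (fun w : Fin m → K => w ≠ 0)).image
      (fun w : Fin m → K => c • Matrix.vecMulVec w (fun j => σ (w j)))).card ≤ Nat.card S := by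
    rw [hfin]
    apply Finset.card_le_card
    intro Y hY
    rw [Finset.mem_image] at hY
    obtain ⟨w, hw, rfl⟩ := hY
    rw [Set.mem_toFinset]
    exact hall w (Finset.mem_filter.1 hw).2
  have hT : (Finset.univ.filter (fun ζ : K => ζ * σ ζ = 1)).card ≤ q + 1 := by
    have hsub : Finset.univ.filter (fun ζ : K => ζ * σ ζ = 1) ⊆
        (Polynomial.nthRoots (q + 1) (1 : K)).toFinset := by
      intro ζ hζ
      rw [Multiset.mem_toFinset, Polynomial.mem_nthRoots (Nat.succ_pos q)]
      have h := (Finset.mem_filter.1 hζ).2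
      rw [hσ] at h
      rw [pow_succ']
      exact h
    exact (Finset.card_le_card hsub).trans
      ((Multiset.toFinset_card_le _).trans (Polynomial.card_nthRoots _ _))
  have hfib : ∀ a ∈ (Finset.univ.filter (fun w : Fin m → K => w ≠ 0)).image
      (fun w : Fin m → K => c • Matrix.vecMulVec w (fun j => σ (w j))),
      ((Finset.univ.filter (fun w : Fin m → K => w ≠ 0)).filter
        (fun x => c • Matrix.vecMulVec x (fun j => σ (x j)) = a)).card ≤ q + 1 := by
    intro a ha
    rw [Finset.mem_image] at ha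
    obtain ⟨w₀, hw₀, rfl⟩ := ha
    have hw₀' : w₀ ≠ 0 := (Finset.mem_filter.1 hw₀).2
    obtain ⟨i₀, hi₀⟩ : ∃ i₀, w₀ i₀ ≠ 0 := by
      by_contra h
      push Not at h
      exact hw₀' (funext h)
    have hent : ∀ w' : Fin m → K,
        c • Matrix.vecMulVec w' (fun j => σ (w' j)) =
          c • Matrix.vecMulVec w₀ (fun j => σ (w₀ j)) →
        ∀ i j, w' i * σ (w' j) = w₀ i * σ (w₀ j) := by
      intro w' h i j
      have h1 := congrFun (congrFun h i) j
      simp only [Matrix.smul_apply, Matrix.vecMulVec_apply, smul_eq_mul] at h1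
      exact mul_left_cancel₀ hc h1
    have hσne : σ (w₀ i₀) ≠ 0 := (map_ne_zero σ).2 hi₀
    refine le_trans (Finset.card_le_card_of_injOn (fun w' => w' i₀ / w₀ i₀) ?_ ?_) hT
    · intro w' hw'
      have hw'2 := (Finset.mem_filter.1 (Finset.mem_coe.1 hw')).2
      have h00 := hent w' hw'2 i₀ i₀
      simp only [Finset.coe_filter, Finset.mem_univ, true_and, Set.mem_ofPred_eq]
      rw [map_div₀, div_mul_div_comm, h00]
      exact div_self (mul_ne_zero hi₀ hσne)
    · intro w' hw' w'' hw'' heq
      have hw'2 := (Finset.mem_filter.1 (Finset.mem_coe.1 hw')).2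
      have hw''2 := (Finset.mem_filter.1 (Finset.mem_coe.1 hw'')).2
      have hi : w' i₀ = w'' i₀ := by
        have h := congrArg (fun t => t * w₀ i₀) heq
        simp only [div_mul_cancel₀ _ hi₀] at h
        exact h
      have h00 := hent w' hw'2 i₀ i₀
      have hne : w' i₀ ≠ 0 := by
        intro h0
        rw [h0, zero_mul] at h00
        exact mul_ne_zero hi₀ hσne h00.symm
      funext i
      have h1 := hent w' hw'2 i i₀
      have h2 := hent w'' hw''2 i i₀
      rw [← h2, ← hi] at h1
      exact mul_right_cancel₀ ((map_ne_zero σ).2 hne) h1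
  have hcount := Finset.card_le_mul_card_image
    (Finset.univ.filter (fun w : Fin m → K => w ≠ 0)) (q + 1) hfib
  have hscard : (Finset.univ.filter (fun w : Fin m → K => w ≠ 0)).card = q ^ (m + m) - 1 := by
    have h1 : Finset.univ.filter (fun w : Fin m → K => w ≠ 0) =
        Finset.univ.erase (0 : Fin m → K) := by
      ext w
      simp
    rw [h1, Finset.card_erase_of_mem (Finset.mem_univ _), Finset.card_univ, Fintype.card_fun,
      Fintype.card_fin, hK, ← pow_mul, two_mul]
  rw [hscard] at hcount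
  calc (q ^ (m + m) - 1) / (q + 1)
      ≤ ((q + 1) * ((Finset.univ.filter (fun w : Fin m → K => w ≠ 0)).image
          (fun w : Fin m → K => c • Matrix.vecMulVec w (fun j => σ (w j)))).card) / (q + 1) :=
        Nat.div_le_div_right hcount
    _ = ((Finset.univ.filter (fun w : Fin m → K => w ≠ 0)).image
          (fun w : Fin m → K => c • Matrix.vecMulVec w (fun j => σ (w j)))).card :=
        Nat.mul_div_cancel_left _ (Nat.succ_pos q)
    _ ≤ Nat.card S := himg

end Cfsg.Agent.Lib.helper44.SUW
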