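import Mathlib
import Cfsg.Agent.Lib.helper44.SUWDefs
import Cfsg.Agent.Lib.helper75.SUWSLTR
import Cfsg.Agent.Lib.helper72.SUWR1COUNTcore

/-!
# S2335 piece R1COUNT (racing copy, prefixed name)
-/

set_option autoImplicit false

namespace Cfsg.Agent.Lib.helper44.SUW

open Matrix

/-- R1COUNT (L) -/
theorem h72_rank_one_count {K : Type*} [Field K] [Fintype K] [DecidableEq K] {q m : ℕ}
    (hK : Fintype.card K = q ^ 2) (hm : 2 ≤ m) (σ : K →+* K) (hσ : ∀ x, σ x = x ^ q)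
    (S : Set (Matrix (Fin m) (Fin m) K))
    (hstab : ∀ Y ∈ S, ∀ B : Matrix (Fin m) (Fin m) K, B.det = 1 → (B.map σ)ᵀ * Y * B ∈ S)
    (c : K) (z : Fin m → K) (hc : c ≠ 0) (hz : z ≠ 0)
    (hmem : c • Matrix.vecMulVec z (fun j => σ (z j)) ∈ S) :
    (q ^ (m + m) - 1) / (q + 1) ≤ Nat.card S :=
  h72_rank_one_count_core hK σ hσ (fun x y hx hy => sl_trans hm x y hx hy) S hstab c z hc hz hmem

end Cfsg.Agent.Lib.helper44.SUW
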