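import Mathlib
import Cfsg.Agent.Lib.helper24.SfoDefs

/-!
# S5981 piece OLB (core): lower bound for the `r`-part of the order of an isometry group

The three pieces used (OORB, CNTE, CNTO) enter as hypotheses.
-/

set_option autoImplicit false

namespace Cfsg.Agent.Lib.helper24

open Module Matrix Cfsg.Geo

/-- Valuation step: if `N = a (x - ε)` with `r ∤ a`, `ε = ± 1` and `r ∣ x - ε`, then
`v_r (x ^ 2 - 1) ≤ v_r N`. -/
theorem h72_olb_val {r : ℕ} [hrp : Fact r.Prime] (hr2 : r ≠ 2) {x a N : ℕ} (hx : 2 ≤ x)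
    (ha : ¬ r ∣ a) {ε : ℤ} (hε : ε = 1 ∨ ε = -1) (hN : (N : ℤ) = (a : ℤ) * ((x : ℤ) - ε))
    (hr : (r : ℤ) ∣ (x : ℤ) - ε) :
    0 < N ∧ padicValNat r (x ^ 2 - 1) ≤ padicValNat r N := by
  have ha0 : 0 < a := Nat.pos_of_ne_zero (fun h => ha (h ▸ dvd_zero r))
  have hx' : (2 : ℤ) ≤ (x : ℤ) := by exact_mod_cast hx
  have hxε : (0 : ℤ) < (x : ℤ) - ε := by
    rcases hε with rfl | rfl <;> linarith
  have hNpos : 0 < N := by
    have h : (0 : ℤ) < (N : ℤ) := by
      rw [hN]
      exact mul_pos (by exact_mod_cast ha0) hxε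
    exact_mod_cast h
  refine ⟨hNpos, ?_⟩
  have hprime : Prime (r : ℤ) := Nat.prime_iff_prime_int.1 hrp.out
  have hnd : ¬ (r : ℤ) ∣ (x : ℤ) + ε := by
    intro h
    have h2 : (r : ℤ) ∣ 2 * ε := by
      have h' := dvd_sub h hr
      have e : (x : ℤ) + ε - ((x : ℤ) - ε) = 2 * ε := by ring
      rwa [e] at h'
    have h3 : (r : ℤ) ∣ 2 := by
      rcases hε with rfl | rfl
      · simpa using h2
      · have h' : (r : ℤ) ∣ -(2 * (-1)) := (dvd_neg).2 h2
        simpa using h'
    have h4 : r ∣ 2 := by exact_mod_cast h3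
    exact hr2 ((Nat.prime_dvd_prime_iff_eq hrp.out Nat.prime_two).1 h4)
  have hcop : IsCoprime ((r : ℤ) ^ padicValNat r (x ^ 2 - 1)) ((x : ℤ) + ε) :=
    IsCoprime.pow_left ((Prime.irreducible hprime).coprime_iff_not_dvd.2 hnd)
  have h1 : (r : ℤ) ^ padicValNat r (x ^ 2 - 1) ∣ ((x : ℤ) - ε) * ((x : ℤ) + ε) := by
    have h := pow_padicValNat_dvd (p := r) (n := x ^ 2 - 1)
    have h' : ((r ^ padicValNat r (x ^ 2 - 1) : ℕ) : ℤ) ∣ ((x ^ 2 - 1 : ℕ) : ℤ) :=
      Int.natCast_dvd_natCast.2 h
    have hx1 : 1 ≤ x ^ 2 := Nat.one_le_pow _ _ (by omega)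
    rw [Nat.cast_sub hx1] at h'
    push_cast at h'
    have e : ((x : ℤ) - ε) * ((x : ℤ) + ε) = (x : ℤ) ^ 2 - 1 := by
      rcases hε with rfl | rfl <;> ring
    rw [e]
    exact h'
  have h2 : (r : ℤ) ^ padicValNat r (x ^ 2 - 1) ∣ (x : ℤ) - ε :=
    hcop.dvd_of_dvd_mul_right h1
  have h3 : ((r ^ padicValNat r (x ^ 2 - 1) : ℕ) : ℤ) ∣ (N : ℤ) := by
    rw [hN]
    push_cast
    exact Dvd.dvd.mul_left h2 _
  have h4 : r ^ padicValNat r (x ^ 2 - 1) ∣ N := Int.natCast_dvd_natCast.1 h3
  exact (padicValNat_dvd_iff_le hNpos.ne').1 h4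

/-- OLB with the pieces OORB, CNTE, CNTO as hypotheses. -/
theorem h72_sfo_card_lb_core {F : Type*} [Field F] [Fintype F] (h2 : (2 : F) ≠ 0)
    (hOORB : ∀ (m : ℕ) (Q : (Fin (m + 1) → F) → F), IsNondegenerateQuadraticForm Q →
      ∀ c : F, c ≠ 0 → 0 < sfoCount Q c →
      ∃ Q' : (Fin m → F) → F, IsNondegenerateQuadraticForm Q' ∧
        Nat.card (sfoIsom Q) = sfoCount Q c * Nat.card (sfoIsom Q'))
    (hCNTE : ∀ (d k : ℕ), d = 2 * k → ∀ (Q : (Fin d → F) → F), IsNondegenerateQuadraticForm Q →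
      ∃ ε : ℤ, (ε = 1 ∨ ε = -1) ∧ ∀ c : F, c ≠ 0 →
        (sfoCount Q c : ℤ) = (Fintype.card F : ℤ) ^ (k - 1) * ((Fintype.card F : ℤ) ^ k - ε))
    (hCNTO : ∀ (d k : ℕ), d = 2 * k + 1 → ∀ (Q : (Fin d → F) → F),
      IsNondegenerateQuadraticForm Q →
      ∃ E : ℤ, (E = 1 ∨ E = -1) ∧
        (∀ c : F, c ≠ 0 → IsSquare c →
          (sfoCount Q c : ℤ) = (Fintype.card F : ℤ) ^ k * ((Fintype.card F : ℤ) ^ k + E)) ∧
        (∀ c : F, c ≠ 0 → ¬ IsSquare c →
          (sfoCount Q c : ℤ) = (Fintype.card F : ℤ) ^ k * ((Fintype.card F : ℤ) ^ k - E)))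
    (r : ℕ) [hrp : Fact r.Prime]
    (hr2 : r ≠ 2) (hrF : (r : F) ≠ 0)
    (hi : Even (orderOf ((Fintype.card F : ℕ) : ZMod r)))
    (d : ℕ) (Q : (Fin d → F) → F) (hQ : IsNondegenerateQuadraticForm Q) :
    (∑ t ∈ (Finset.range d).filter (fun t => orderOf ((Fintype.card F : ℕ) : ZMod r) ∣ t),
        padicValNat r (Fintype.card F ^ t - 1)) +
      (if orderOf ((Fintype.card F : ℕ) : ZMod r) ∣ d ∧ r ∣ sfoCount Q 1 then
        padicValNat r (Fintype.card F ^ d - 1) else 0)
      ≤ padicValNat r (Nat.card (sfoIsom Q)) := by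
  have hq2 : 2 ≤ Fintype.card F := Fintype.one_lt_card
  have hrq : ¬ r ∣ Fintype.card F := by
    intro h
    obtain ⟨p, hp⟩ := CharP.exists F
    obtain ⟨n, hpprime, hcard⟩ := FiniteField.card F p
    rw [hcard] at h
    have h' := (Nat.prime_dvd_prime_iff_eq hrp.out hpprime).1 (hrp.out.dvd_of_dvd_pow h)
    apply hrF
    rw [h']
    exact CharP.cast_eq_zero F p
  have hrqk : ∀ k, ¬ r ∣ Fintype.card F ^ k := fun k h => hrq (hrp.out.dvd_of_dvd_pow h)
  have hdvd : ∀ t, orderOf ((Fintype.card F : ℕ) : ZMod r) ∣ t → r ∣ Fintype.card F ^ t - 1 := by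
    intro t ht
    have h1 : ((Fintype.card F : ℕ) : ZMod r) ^ t = 1 := orderOf_dvd_iff_pow_eq_one.1 ht
    have h2' : ((Fintype.card F ^ t - 1 : ℕ) : ZMod r) = 0 := by
      rw [Nat.cast_sub (Nat.one_le_pow _ _ (by omega)), Nat.cast_pow, h1]
      simp
    exact (ZMod.natCast_eq_zero_iff _ _).1 h2'
  have heven : ∀ t, orderOf ((Fintype.card F : ℕ) : ZMod r) ∣ t → Even t := fun t ht =>
    even_iff_two_dvd.2 ((even_iff_two_dvd.1 hi).trans ht)
  have hcardpos : ∀ (m : ℕ) (Q' : (Fin m → F) → F), 0 < Nat.card (sfoIsom Q') :=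
    fun m Q' => Nat.card_pos
  have hxk : ∀ k, 1 ≤ k → 2 ≤ Fintype.card F ^ k := fun k hk =>
    le_trans hq2 (Nat.le_self_pow (by omega) _)
  have hstep : ∀ m,
      (∑ t ∈ (Finset.range (m + 1)).filter
          (fun t => orderOf ((Fintype.card F : ℕ) : ZMod r) ∣ t),
        padicValNat r (Fintype.card F ^ t - 1)) =
      (∑ t ∈ (Finset.range m).filter (fun t => orderOf ((Fintype.card F : ℕ) : ZMod r) ∣ t),
        padicValNat r (Fintype.card F ^ t - 1)) +
      (if orderOf ((Fintype.card F : ℕ) : ZMod r) ∣ m then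
        padicValNat r (Fintype.card F ^ m - 1) else 0) := by
    intro m
    rw [Finset.range_add_one, Finset.filter_insert]
    split_ifs with h
    · rw [Finset.sum_insert (by simp), add_comm]
    · simp
  induction d with
  | zero => simp
  | succ m ih =>
    rw [hstep m]
    rcases Nat.even_or_odd (m + 1) with hev | hodd
    · -- `m + 1 = 2 k`
      obtain ⟨k, hk⟩ := hev
      have hk1 : 1 ≤ k := by omega
      obtain ⟨ε, hε, hcnt⟩ := hCNTE (m + 1) k (by omega) Q hQ
      have hN1 := hcnt 1 one_ne_zero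
      have him : ¬ orderOf ((Fintype.card F : ℕ) : ZMod r) ∣ m := fun h => by
        obtain ⟨j, hj⟩ := heven m h
        omega
      rw [if_neg him, add_zero]
      have hxk' : (2 : ℤ) ≤ (Fintype.card F : ℤ) ^ k := by exact_mod_cast hxk k hk1
      have hNpos : 0 < sfoCount Q 1 := by
        have h : (0 : ℤ) < (sfoCount Q 1 : ℤ) := by
          rw [hN1]
          apply mul_pos (by positivity)
          rcases hε with rfl | rfl <;> linarith
        exact_mod_cast h
      obtain ⟨Q', hQ', hcard⟩ := hOORB m Q hQ 1 one_ne_zero hNpos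
      have hih := ih Q' hQ'
      rw [hcard, padicValNat.mul hNpos.ne' (hcardpos m Q').ne']
      have hT : (if orderOf ((Fintype.card F : ℕ) : ZMod r) ∣ m + 1 ∧ r ∣ sfoCount Q 1 then
          padicValNat r (Fintype.card F ^ (m + 1) - 1) else 0) ≤
          padicValNat r (sfoCount Q 1) := by
        split_ifs with h
        · obtain ⟨_, hrN⟩ := h
          have hrN' : (r : ℤ) ∣ (Fintype.card F : ℤ) ^ (k - 1) *
              ((Fintype.card F : ℤ) ^ k - ε) := by
            rw [← hN1]
            exact_mod_cast hrN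
          have hr' : (r : ℤ) ∣ ((Fintype.card F ^ k : ℕ) : ℤ) - ε := by
            rcases (Nat.prime_iff_prime_int.1 hrp.out).dvd_or_dvd hrN' with h | h
            · exfalso
              exact hrqk (k - 1) (by exact_mod_cast h)
            · exact_mod_cast h
          have h3 := (h72_olb_val hr2 (hxk k hk1) (hrqk (k - 1)) hε
            (by rw [hN1]; push_cast; ring) hr').2
          have e : Fintype.card F ^ (m + 1) = (Fintype.card F ^ k) ^ 2 := by
            rw [hk, ← two_mul, pow_mul']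
          rw [e]
          exact h3
        · exact Nat.zero_le _
      omega
    · -- `m + 1 = 2 k + 1`
      obtain ⟨k, hk⟩ := hodd
      have hmk : m = 2 * k := by omega
      obtain ⟨E, hE, hsq, hnsq⟩ := hCNTO (m + 1) k hk Q hQ
      have hid : ¬ orderOf ((Fintype.card F : ℕ) : ZMod r) ∣ m + 1 := fun h => by
        obtain ⟨j, hj⟩ := heven _ h
        omega
      have hT0 : (if orderOf ((Fintype.card F : ℕ) : ZMod r) ∣ m + 1 ∧ r ∣ sfoCount Q 1 then
          padicValNat r (Fintype.card F ^ (m + 1) - 1) else 0) = 0 :=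
        if_neg (fun h => hid h.1)
      rw [hT0, add_zero]
      have hchar : ringChar F ≠ 2 := by
        intro h
        apply h2
        have h' := ringChar.Nat.cast_ringChar (R := F)
        rw [h] at h'
        exact_mod_cast h'
      obtain ⟨cns, hcns⟩ := FiniteField.exists_nonsquare hchar
      have hcns0 : cns ≠ 0 := fun h => hcns (h ▸ IsSquare.zero)
      have h1sq := hsq 1 one_ne_zero IsSquare.one
      have hnsq' := hnsq cns hcns0 hcns
      have hclaim : ∃ c : F, c ≠ 0 ∧ 0 < sfoCount Q c ∧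
          (if orderOf ((Fintype.card F : ℕ) : ZMod r) ∣ m then
            padicValNat r (Fintype.card F ^ m - 1) else 0) ≤ padicValNat r (sfoCount Q c) := by
        by_cases hik : orderOf ((Fintype.card F : ℕ) : ZMod r) ∣ m ∧ 1 ≤ k
        · obtain ⟨him, hk1⟩ := hik
          rw [if_pos him]
          have hrm : r ∣ Fintype.card F ^ m - 1 := hdvd m him
          have e : Fintype.card F ^ m = (Fintype.card F ^ k) ^ 2 := by
            rw [hmk, pow_mul']
          have hrm' : (r : ℤ) ∣ (((Fintype.card F ^ k : ℕ) : ℤ) - 1) *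
              (((Fintype.card F ^ k : ℕ) : ℤ) + 1) := by
            have h : ((r : ℕ) : ℤ) ∣ ((Fintype.card F ^ m - 1 : ℕ) : ℤ) :=
              Int.natCast_dvd_natCast.2 hrm
            rw [e, Nat.cast_sub (Nat.one_le_pow _ _ (Nat.pow_pos (by omega)))] at h
            push_cast at h ⊢
            have e2 : ((Fintype.card F : ℤ) ^ k - 1) * ((Fintype.card F : ℤ) ^ k + 1) =
                ((Fintype.card F : ℤ) ^ k) ^ 2 - 1 := by ring
            rw [e2]
            exact h
          rw [e]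
          rcases (Nat.prime_iff_prime_int.1 hrp.out).dvd_or_dvd hrm' with h | h
          · rcases hE with rfl | rfl
            · have h3 := h72_olb_val hr2 (hxk k hk1) (hrqk k) (Or.inl rfl)
                (by rw [hnsq']; push_cast; ring) h
              exact ⟨cns, hcns0, h3.1, h3.2⟩
            · have h3 := h72_olb_val hr2 (hxk k hk1) (hrqk k) (Or.inl rfl)
                (by rw [h1sq]; push_cast; ring) h
              exact ⟨1, one_ne_zero, h3.1, h3.2⟩
          · have h' : (r : ℤ) ∣ ((Fintype.card F ^ k : ℕ) : ℤ) - (-1) := by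
              rw [sub_neg_eq_add]
              exact h
            rcases hE with rfl | rfl
            · have h3 := h72_olb_val hr2 (hxk k hk1) (hrqk k) (Or.inr rfl)
                (by rw [h1sq]; push_cast; ring) h'
              exact ⟨1, one_ne_zero, h3.1, h3.2⟩
            · have h3 := h72_olb_val hr2 (hxk k hk1) (hrqk k) (Or.inr rfl)
                (by rw [hnsq']; push_cast; ring) h'
              exact ⟨cns, hcns0, h3.1, h3.2⟩
        · have hzero : (if orderOf ((Fintype.card F : ℕ) : ZMod r) ∣ m then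
              padicValNat r (Fintype.card F ^ m - 1) else 0) = 0 := by
            split_ifs with him
            · have hm0 : m = 0 := by
                by_contra hm0
                exact hik ⟨him, by omega⟩
              rw [hm0]
              simp
            · rfl
          rw [hzero]
          have hqk : (0 : ℤ) < (Fintype.card F : ℤ) ^ k := by positivity
          by_cases hp : 0 < sfoCount Q 1
          · exact ⟨1, one_ne_zero, hp, Nat.zero_le _⟩
          · refine ⟨cns, hcns0, ?_, Nat.zero_le _⟩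
            have h0 : (sfoCount Q 1 : ℤ) = 0 := by
              exact_mod_cast Nat.eq_zero_of_not_pos hp
            rw [h1sq] at h0
            have hE' : (Fintype.card F : ℤ) ^ k + E = 0 := by
              rcases mul_eq_zero.1 h0 with h | h
              · exact absurd h hqk.ne'
              · exact h
            have h : (0 : ℤ) < (sfoCount Q cns : ℤ) := by
              rw [hnsq']
              apply mul_pos hqk
              linarith
            exact_mod_cast h
      obtain ⟨c, hc0, hcpos, hcv⟩ := hclaim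
      obtain ⟨Q', hQ', hcard⟩ := hOORB m Q hQ c hc0 hcpos
      have hih := ih Q' hQ'
      rw [hcard, padicValNat.mul hcpos.ne' (hcardpos m Q').ne']
      omega

end Cfsg.Agent.Lib.helper24
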