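import Cfsg.Agent.Lib.helper72.BruhatLe
import Cfsg.Agent.Lib.helper53.TIBruhat

set_option autoImplicit false

namespace Cfsg.Agent.Lib.helper72

/-- Hand-off AL8 for S2149: TI Sylow 5-subgroups in the central quotient, from Bruhat-type
data upstairs. -/
theorem ti5_central_quotient {E : Type*} [Group E] [Finite E] (hG : Nat.card (E ⧸ Subgroup.center E) = 126000) (U : Subgroup E) (w : E) (hU : Nat.card U = 125) (hUZ : ∀ z ∈ Subgroup.center E, z ∈ U → z = 1) (hdisj : ∀ u ∈ U, w * u * w⁻¹ ∈ Subgroup.normalizer (U : Set E) → u = 1) (hcard : Nat.card E ≤ Nat.card (Subgroup.normalizer (U : Set E)) * 126) : (∀ P Q : Sylow 5 (E ⧸ Subgroup.center E), P ≠ Q → ((P : Subgroup (E ⧸ Subgroup.center E)) ⊓ (Q : Subgroup (E ⧸ Subgroup.center E))) = ⊥) ∧ ∃ P Q : Sylow 5 (E ⧸ Subgroup.center E), P ≠ Q := by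
  classical
  have : Fact (Nat.Prime 5) := ⟨by norm_num⟩
  set Z : Subgroup E := Subgroup.center E with hZ
  set B : Subgroup E := Subgroup.normalizer (U : Set E) with hB
  set π : E →* E ⧸ Z := QuotientGroup.mk' Z with hπ
  have hUB : U ≤ B := Subgroup.le_normalizer
  have hUne : U ≠ ⊥ := by
    intro h
    rw [h, Subgroup.card_bot] at hU
    norm_num at hU
  have hZB : Z ≤ B := by
    intro z hz
    rw [hB, Subgroup.mem_normalizer_iff]
    intro h
    have hc : z * h * z⁻¹ = h := by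
      have := (Subgroup.mem_center_iff.mp hz) h
      rw [← this]; group
    rw [hc]
  -- Bruhat upstairs
  have hbrE : ∀ g : E, g ∈ B ∨ ∃ b ∈ B, ∃ u ∈ U, g = b * w * u := by
    apply bruhat_of_card_le B U w hUB hUne hdisj
    rw [hU]
    exact hcard
  -- downstairs
  have hcardU' : Nat.card (U.map π) = 125 := by
    rw [← hU]
    have hinj : Function.Injective (π.subgroupMap U) := by
      rw [injective_iff_map_eq_one]
      intro u hu
      have h1 : π (u : E) = 1 := by
        have := congrArg Subtype.val hu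
        simpa using this
      have h2 : (u : E) ∈ Z := by
        have : ((u : E) : E ⧸ Z) = 1 := h1
        exact (QuotientGroup.eq_one_iff _).mp this
      exact Subtype.ext (hUZ _ h2 u.2)
    exact (Nat.card_congr (Equiv.ofBijective _ ⟨hinj, π.subgroupMap_surjective U⟩)).symm
  have hfac : (126000 : ℕ).factorization 5 = 3 := by
    have h1 : (126000 : ℕ) = 5 ^ 3 * 1008 := by norm_num
    rw [h1, Nat.factorization_mul (by norm_num) (by norm_num), Nat.Prime.factorization_pow Nat.prime_five]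
    have h2 : (1008 : ℕ).factorization 5 = 0 :=
      Nat.factorization_eq_zero_of_not_dvd (by norm_num)
    simp [h2]
  have hsyl : Nat.card (U.map π) = 5 ^ (Nat.card (E ⧸ Z)).factorization 5 := by
    rw [hcardU', hG, hfac]
    norm_num
  have hBN : ∀ b ∈ B.map π, ∀ u ∈ U.map π, b * u * b⁻¹ ∈ U.map π := by
    rintro _ ⟨b, hb, rfl⟩ _ ⟨u, hu, rfl⟩
    refine ⟨b * u * b⁻¹, ?_, by simp⟩
    exact (Subgroup.mem_normalizer_iff.mp hb u).mp hu
  have hbr : ∀ g : E ⧸ Z, g ∈ B.map π ∨ ∃ b ∈ B.map π, ∃ u ∈ U.map π, g = b * π w * u := by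
    intro g
    obtain ⟨g, rfl⟩ := QuotientGroup.mk'_surjective Z g
    rcases hbrE g with hg | ⟨b, hb, u, hu, rfl⟩
    · exact Or.inl ⟨g, hg, rfl⟩
    · exact Or.inr ⟨π b, ⟨b, hb, rfl⟩, π u, ⟨u, hu, rfl⟩, by
        show π (b * w * u) = π b * π w * π u
        rw [map_mul, map_mul]⟩
  have hdisj' : ∀ u ∈ U.map π, π w * u * (π w)⁻¹ ∈ U.map π → u = 1 := by
    rintro _ ⟨u, hu, rfl⟩ ⟨u', hu', hEq⟩
    have h1 : π u' = π (w * u * w⁻¹) := by rw [hEq]; simp
    have h2 : u'⁻¹ * (w * u * w⁻¹) ∈ Z := QuotientGroup.eq.mp h1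
    have h3 : w * u * w⁻¹ ∈ B := by
      have : w * u * w⁻¹ = u' * (u'⁻¹ * (w * u * w⁻¹)) := by group
      rw [this]
      exact B.mul_mem (hUB hu') (hZB h2)
    rw [hdisj u hu h3]
    simp
  have hU' : U.map π ≠ ⊥ := by
    intro h
    rw [h, Subgroup.card_bot] at hcardU'
    norm_num at hcardU'
  exact Cfsg.Agent.Lib.helper53.ti_of_bruhat 5 (U.map π) (B.map π) (π w) hsyl hBN hbr hdisj' hU'

end Cfsg.Agent.Lib.helper72
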