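import Mathlib
import Cfsg.Prelude.Def_CaseTheorems
import Cfsg.Prelude.Def_EvenType

/-!
# Three involutions (pure 2-group / automorphism form of S1238 piece A3, for S5213 step FB)

`P` a finite group of 2-rank `≤ 2` with two distinct central involutions `z₁`, `z₂`: the
involutions of `P` are `z₁`, `z₂`, `z₁ * z₂`, all central.  If `A` is a set of automorphisms of
`P` closed under multiplication such that every central involution is moved by some element of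
`A`, then some `φ ∈ A` has powers transitive on the involutions of `P`.
-/

set_option autoImplicit false

namespace Cfsg.Agent.Lib.helper72.ThreeInv

/-- A map permuting three points is fixed-point-free, the identity or a transposition. -/
theorem h72_p3_class {X : Type*} {a b c : X} (hab : a ≠ b) (hac : a ≠ c) (hbc : b ≠ c)
    (f : X → X) (fa : f a = a ∨ f a = b ∨ f a = c) (fb : f b = a ∨ f b = b ∨ f b = c)
    (fc : f c = a ∨ f c = b ∨ f c = c) (hfab : f a ≠ f b) (hfac : f a ≠ f c) (hfbc : f b ≠ f c) :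
    (f a ≠ a ∧ f b ≠ b ∧ f c ≠ c) ∨ (f a = a ∧ f b = b ∧ f c = c) ∨
      (f a = b ∧ f b = a ∧ f c = c) ∨ (f a = c ∧ f c = a ∧ f b = b) ∨
      (f b = c ∧ f c = b ∧ f a = a) := by
  have hba := hab.symm
  have hca := hac.symm
  have hcb := hbc.symm
  rcases fa with h1 | h1 | h1 <;> rcases fb with h2 | h2 | h2 <;> rcases fc with h3 | h3 | h3 <;>
    simp_all

/-- A fixed-point-free map permuting three points is transitive on them. -/
theorem h72_p3_orbit {X : Type*} {a b c : X} (hab : a ≠ b) (hac : a ≠ c) (hbc : b ≠ c)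
    (f : X → X) (fa : f a = a ∨ f a = b ∨ f a = c) (fb : f b = a ∨ f b = b ∨ f b = c)
    (fc : f c = a ∨ f c = b ∨ f c = c) (hfab : f a ≠ f b) (hfac : f a ≠ f c) (hfbc : f b ≠ f c)
    (ha : f a ≠ a) (hb : f b ≠ b) (hc : f c ≠ c) (s t : X) (hs : s = a ∨ s = b ∨ s = c)
    (ht : t = a ∨ t = b ∨ t = c) : t = s ∨ t = f s ∨ t = f (f s) := by
  have hba := hab.symm
  have hca := hac.symm
  have hcb := hbc.symm
  have key : (f a = b ∧ f b = c ∧ f c = a) ∨ (f a = c ∧ f c = b ∧ f b = a) := by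
    rcases fa with h1 | h1 | h1 <;> rcases fb with h2 | h2 | h2 <;>
      rcases fc with h3 | h3 | h3 <;> simp_all
  rcases key with ⟨k1, k2, k3⟩ | ⟨k1, k2, k3⟩ <;> rcases hs with rfl | rfl | rfl <;>
    rcases ht with rfl | rfl | rfl <;> simp [k1, k2, k3]

/-- Among three permutations of three points moving the first, second and third point, one of
them or a product of two of them is fixed-point-free. -/
theorem h72_p3_fpf {X : Type*} {a b c : X} (hab : a ≠ b) (hac : a ≠ c) (hbc : b ≠ c)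
    (f₁ f₂ f₃ : X → X)
    (k₁ : (f₁ a ≠ a ∧ f₁ b ≠ b ∧ f₁ c ≠ c) ∨ (f₁ a = a ∧ f₁ b = b ∧ f₁ c = c) ∨
      (f₁ a = b ∧ f₁ b = a ∧ f₁ c = c) ∨ (f₁ a = c ∧ f₁ c = a ∧ f₁ b = b) ∨
      (f₁ b = c ∧ f₁ c = b ∧ f₁ a = a))
    (k₂ : (f₂ a ≠ a ∧ f₂ b ≠ b ∧ f₂ c ≠ c) ∨ (f₂ a = a ∧ f₂ b = b ∧ f₂ c = c) ∨
      (f₂ a = b ∧ f₂ b = a ∧ f₂ c = c) ∨ (f₂ a = c ∧ f₂ c = a ∧ f₂ b = b) ∨
      (f₂ b = c ∧ f₂ c = b ∧ f₂ a = a))
    (k₃ : (f₃ a ≠ a ∧ f₃ b ≠ b ∧ f₃ c ≠ c) ∨ (f₃ a = a ∧ f₃ b = b ∧ f₃ c = c) ∨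
      (f₃ a = b ∧ f₃ b = a ∧ f₃ c = c) ∨ (f₃ a = c ∧ f₃ c = a ∧ f₃ b = b) ∨
      (f₃ b = c ∧ f₃ c = b ∧ f₃ a = a))
    (m₁ : f₁ a ≠ a) (m₂ : f₂ b ≠ b) (m₃ : f₃ c ≠ c) :
    (f₁ a ≠ a ∧ f₁ b ≠ b ∧ f₁ c ≠ c) ∨ (f₂ a ≠ a ∧ f₂ b ≠ b ∧ f₂ c ≠ c) ∨
      (f₃ a ≠ a ∧ f₃ b ≠ b ∧ f₃ c ≠ c) ∨
      (f₁ (f₂ a) ≠ a ∧ f₁ (f₂ b) ≠ b ∧ f₁ (f₂ c) ≠ c) ∨
      (f₁ (f₃ a) ≠ a ∧ f₁ (f₃ b) ≠ b ∧ f₁ (f₃ c) ≠ c) := by
  rcases k₁ with h | ⟨h1, h2, h3⟩ | ⟨h1, h2, h3⟩ | ⟨h1, h2, h3⟩ | ⟨h1, h2, h3⟩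
  · exact Or.inl h
  · exact absurd h1 m₁
  · rcases k₃ with g | ⟨g1, g2, g3⟩ | ⟨g1, g2, g3⟩ | ⟨g1, g2, g3⟩ | ⟨g1, g2, g3⟩
    · exact Or.inr (Or.inr (Or.inl g))
    · exact absurd g3 m₃
    · exact absurd g3 m₃
    · refine Or.inr (Or.inr (Or.inr (Or.inr ?_)))
      rw [g1, g2, g3, h1, h2, h3]
      exact ⟨hac.symm, hab, hbc⟩
    · refine Or.inr (Or.inr (Or.inr (Or.inr ?_)))
      rw [g1, g2, g3, h1, h2, h3]
      exact ⟨hab.symm, hbc.symm, hac⟩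
  · rcases k₂ with g | ⟨g1, g2, g3⟩ | ⟨g1, g2, g3⟩ | ⟨g1, g2, g3⟩ | ⟨g1, g2, g3⟩
    · exact Or.inr (Or.inl g)
    · exact absurd g2 m₂
    · refine Or.inr (Or.inr (Or.inr (Or.inl ?_)))
      rw [g1, g2, g3, h1, h2, h3]
      exact ⟨hab.symm, hbc.symm, hac⟩
    · exact absurd g3 m₂
    · refine Or.inr (Or.inr (Or.inr (Or.inl ?_)))
      rw [g1, g2, g3, h1, h2, h3]
      exact ⟨hac.symm, hab, hbc⟩
  · exact absurd h3 m₁

/-- In a finite group of 2-rank `≤ 2` with two distinct central involutions `z₁`, `z₂`, every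
element of square `1` is `1`, `z₁`, `z₂` or `z₁ * z₂`. -/
theorem h72_involutions_of_rank_two {P : Type*} [Group P] [Finite P] (h2 : Cfsg.PRankLE 2 2 P)
    (z₁ z₂ : P) (hc₁ : ∀ g : P, g * z₁ = z₁ * g) (hc₂ : ∀ g : P, g * z₂ = z₂ * g)
    (ho₁ : orderOf z₁ = 2) (ho₂ : orderOf z₂ = 2) (hne : z₁ ≠ z₂) (x : P) (hxx : x * x = 1) :
    x = 1 ∨ x = z₁ ∨ x = z₂ ∨ x = z₁ * z₂ := by
  classical
  have : Fact (Nat.Prime 2) := ⟨Nat.prime_two⟩
  obtain ⟨hz1sq, hz1ne⟩ := orderOf_eq_prime_iff.mp ho₁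
  obtain ⟨hz2sq, hz2ne⟩ := orderOf_eq_prime_iff.mp ho₂
  rw [pow_two] at hz1sq hz2sq
  obtain ⟨z₃, hz3⟩ : ∃ z₃ : P, z₃ = z₁ * z₂ := ⟨_, rfl⟩
  rw [← hz3]
  have h12 : z₁ * z₂ = z₂ * z₁ := hc₂ z₁
  have h13 : z₁ ≠ z₃ := by
    intro h
    apply hz2ne
    have h' : z₁ * 1 = z₁ * z₂ := by rw [mul_one, ← hz3]; exact h
    exact (mul_left_cancel h').symm
  have h23 : z₂ ≠ z₃ := by
    intro h
    apply hz1ne
    have h' : 1 * z₂ = z₁ * z₂ := by rw [one_mul, ← hz3]; exact h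
    exact (mul_right_cancel h').symm
  have hz3ne : z₃ ≠ 1 := by
    intro h
    apply hne
    have h' : z₁ * z₂ = z₂ * z₂ := by rw [← hz3, h, hz2sq]
    exact mul_right_cancel h'
  by_contra hcon
  push Not at hcon
  obtain ⟨hx1, hxz1, hxz2, hxz3⟩ := hcon
  have hAc : IsMulCommutative (Subgroup.closure ({z₁, z₂, x} : Set P)) :=
    Subgroup.isMulCommutative_closure (by
      intro a ha b hb
      simp only [Set.mem_insert_iff, Set.mem_singleton_iff] at ha hb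
      rcases ha with ha | ha | ha <;> rcases hb with hb | hb | hb <;> subst ha <;> subst hb
      · rfl
      · exact h12
      · exact (hc₁ _).symm
      · exact h12.symm
      · rfl
      · exact (hc₂ _).symm
      · exact hc₁ _
      · exact hc₂ _
      · rfl)
  have hA2 : ∀ a ∈ Subgroup.closure ({z₁, z₂, x} : Set P), a ^ 2 = 1 := by
    intro a ha
    induction ha using Subgroup.closure_induction with
    | mem y hy =>
      simp only [Set.mem_insert_iff, Set.mem_singleton_iff] at hy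
      rcases hy with hy | hy | hy <;> subst hy <;> rw [pow_two] <;> assumption
    | one => simp
    | mul y w hy hw ihy ihw =>
      have hcomm : y * w = w * y := by
        have := hAc.is_comm.comm ⟨y, hy⟩ ⟨w, hw⟩
        exact congrArg Subtype.val this
      have hc : Commute y w := hcomm
      rw [hc.mul_pow, ihy, ihw, one_mul]
    | inv y hy ihy => rw [inv_pow, ihy, inv_one]
  have hcard := h2 _ hAc hA2
  have hT : (({1, z₁, z₂, z₃, x} : Finset P) : Set P) ⊆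
      ((Subgroup.closure ({z₁, z₂, x} : Set P) : Subgroup P) : Set P) := by
    intro y hy
    simp only [Finset.coe_insert, Finset.coe_singleton, Set.mem_insert_iff,
      Set.mem_singleton_iff] at hy
    rcases hy with hy | hy | hy | hy | hy
    · rw [hy]; exact Subgroup.one_mem _
    · rw [hy]; exact Subgroup.subset_closure (by simp)
    · rw [hy]; exact Subgroup.subset_closure (by simp)
    · rw [hy, hz3]
      exact Subgroup.mul_mem _ (Subgroup.subset_closure (by simp))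
        (Subgroup.subset_closure (by simp))
    · rw [hy]; exact Subgroup.subset_closure (by simp)
  have h5 : ({1, z₁, z₂, z₃, x} : Finset P).card = 5 := by
    rw [Finset.card_insert_of_notMem, Finset.card_insert_of_notMem,
      Finset.card_insert_of_notMem, Finset.card_insert_of_notMem, Finset.card_singleton]
    · simp only [Finset.mem_singleton]
      exact fun h => hxz3 h.symm
    · simp only [Finset.mem_insert, Finset.mem_singleton, not_or]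
      exact ⟨h23, fun h => hxz2 h.symm⟩
    · simp only [Finset.mem_insert, Finset.mem_singleton, not_or]
      exact ⟨hne, h13, fun h => hxz1 h.symm⟩
    · simp only [Finset.mem_insert, Finset.mem_singleton, not_or]
      exact ⟨fun h => hz1ne h.symm, fun h => hz2ne h.symm, fun h => hz3ne h.symm,
        fun h => hx1 h.symm⟩
  have h6 := Set.ncard_le_ncard hT (Set.toFinite _)
  rw [Set.ncard_coe_finset, h5] at h6
  have h7 : ((Subgroup.closure ({z₁, z₂, x} : Set P) : Subgroup P) : Set P).ncard =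
      Nat.card (Subgroup.closure ({z₁, z₂, x} : Set P)) := (Nat.card_coe_set_eq _).symm
  rw [h7] at h6
  omega

/-- **Three involutions.** `P` a finite group of 2-rank `≤ 2` with two distinct central
involutions; `A` a set of automorphisms of `P` closed under multiplication such that every
central involution is moved by some element of `A`.  Then some `φ ∈ A` has powers transitive on
the involutions of `P`. -/
theorem h72_aut_transitive_involutions {P : Type*} [Group P] [Finite P]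
    (h2 : Cfsg.PRankLE 2 2 P) (z₁ z₂ : P) (hc₁ : ∀ g : P, g * z₁ = z₁ * g)
    (hc₂ : ∀ g : P, g * z₂ = z₂ * g) (ho₁ : orderOf z₁ = 2) (ho₂ : orderOf z₂ = 2)
    (hne : z₁ ≠ z₂) (A : Set (MulAut P)) (hmul : ∀ α ∈ A, ∀ β ∈ A, α * β ∈ A)
    (hmove : ∀ t : P, orderOf t = 2 → (∀ g : P, g * t = t * g) → ∃ α ∈ A, α t ≠ t) :
    ∃ φ ∈ A, ∀ s t : P, orderOf s = 2 → orderOf t = 2 → ∃ k : ℕ, (φ ^ k) s = t := by
  classical
  have : Fact (Nat.Prime 2) := ⟨Nat.prime_two⟩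
  obtain ⟨hz1sq, hz1ne⟩ := orderOf_eq_prime_iff.mp ho₁
  obtain ⟨hz2sq, hz2ne⟩ := orderOf_eq_prime_iff.mp ho₂
  rw [pow_two] at hz1sq hz2sq
  have hV := h72_involutions_of_rank_two h2 z₁ z₂ hc₁ hc₂ ho₁ ho₂ hne
  obtain ⟨z₃, hz3⟩ : ∃ z₃ : P, z₃ = z₁ * z₂ := ⟨_, rfl⟩
  rw [← hz3] at hV
  have h12 : z₁ * z₂ = z₂ * z₁ := hc₂ z₁
  have hz3sq : z₃ * z₃ = 1 := by
    rw [hz3]
    calc z₁ * z₂ * (z₁ * z₂) = z₁ * (z₂ * z₁) * z₂ := by group
      _ = z₁ * (z₁ * z₂) * z₂ := by rw [h12]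
      _ = (z₁ * z₁) * (z₂ * z₂) := by group
      _ = 1 := by rw [hz1sq, hz2sq, one_mul]
  have h13 : z₁ ≠ z₃ := by
    intro h
    apply hz2ne
    have h' : z₁ * 1 = z₁ * z₂ := by rw [mul_one, ← hz3]; exact h
    exact (mul_left_cancel h').symm
  have h23 : z₂ ≠ z₃ := by
    intro h
    apply hz1ne
    have h' : 1 * z₂ = z₁ * z₂ := by rw [one_mul, ← hz3]; exact h
    exact (mul_right_cancel h').symm
  have hz3ne : z₃ ≠ 1 := by
    intro h
    apply hne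
    have h' : z₁ * z₂ = z₂ * z₂ := by rw [← hz3, h, hz2sq]
    exact mul_right_cancel h'
  have hc₃ : ∀ g : P, g * z₃ = z₃ * g := by
    intro g
    rw [hz3, ← mul_assoc, hc₁ g, mul_assoc, hc₂ g, mul_assoc]
  have ho₃ : orderOf z₃ = 2 := orderOf_eq_prime_iff.mpr ⟨by rw [pow_two]; exact hz3sq, hz3ne⟩
  have himg : ∀ α : MulAut P, ∀ x : P, x * x = 1 → x ≠ 1 →
      (α x = z₁ ∨ α x = z₂ ∨ α x = z₃) := by
    intro α x hxx hx1
    have hsq : α x * α x = 1 := by rw [← map_mul, hxx, map_one]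
    rcases hV _ hsq with h | h | h | h
    · exfalso
      apply hx1
      have := α.injective (h.trans (map_one α).symm)
      exact this
    · exact Or.inl h
    · exact Or.inr (Or.inl h)
    · exact Or.inr (Or.inr h)
  have hinj : ∀ α : MulAut P, ∀ x y : P, x ≠ y → α x ≠ α y :=
    fun α x y hxy h => hxy (α.injective h)
  have hcls : ∀ α : MulAut P,
      (α z₁ ≠ z₁ ∧ α z₂ ≠ z₂ ∧ α z₃ ≠ z₃) ∨ (α z₁ = z₁ ∧ α z₂ = z₂ ∧ α z₃ = z₃) ∨
      (α z₁ = z₂ ∧ α z₂ = z₁ ∧ α z₃ = z₃) ∨ (α z₁ = z₃ ∧ α z₃ = z₁ ∧ α z₂ = z₂) ∨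
      (α z₂ = z₃ ∧ α z₃ = z₂ ∧ α z₁ = z₁) := by
    intro α
    exact h72_p3_class hne h13 h23 (fun x => α x)
      (himg α z₁ hz1sq hz1ne) (himg α z₂ hz2sq hz2ne) (himg α z₃ hz3sq hz3ne)
      (hinj α _ _ hne) (hinj α _ _ h13) (hinj α _ _ h23)
  have hfpf : ∃ α ∈ A, α z₁ ≠ z₁ ∧ α z₂ ≠ z₂ ∧ α z₃ ≠ z₃ := by
    obtain ⟨n₁, hn₁, hm₁⟩ := hmove z₁ ho₁ hc₁
    obtain ⟨n₂, hn₂, hm₂⟩ := hmove z₂ ho₂ hc₂
    obtain ⟨n₃, hn₃, hm₃⟩ := hmove z₃ ho₃ hc₃
    rcases h72_p3_fpf hne h13 h23 (fun x => n₁ x) (fun x => n₂ x) (fun x => n₃ x)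
      (hcls n₁) (hcls n₂) (hcls n₃) hm₁ hm₂ hm₃ with h | h | h | h | h
    · exact ⟨n₁, hn₁, h⟩
    · exact ⟨n₂, hn₂, h⟩
    · exact ⟨n₃, hn₃, h⟩
    · exact ⟨n₁ * n₂, hmul n₁ hn₁ n₂ hn₂, h⟩
    · exact ⟨n₁ * n₃, hmul n₁ hn₁ n₃ hn₃, h⟩
  obtain ⟨φ, hφA, hf1, hf2, hf3⟩ := hfpf
  refine ⟨φ, hφA, ?_⟩
  intro s t hs ht
  have hsG : s = z₁ ∨ s = z₂ ∨ s = z₃ := by
    obtain ⟨hs2, hs1⟩ := orderOf_eq_prime_iff.mp hs
    rw [pow_two] at hs2
    rcases hV _ hs2 with h | h | h | h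
    · exact absurd h hs1
    · exact Or.inl h
    · exact Or.inr (Or.inl h)
    · exact Or.inr (Or.inr h)
  have htG : t = z₁ ∨ t = z₂ ∨ t = z₃ := by
    obtain ⟨ht2, ht1⟩ := orderOf_eq_prime_iff.mp ht
    rw [pow_two] at ht2
    rcases hV _ ht2 with h | h | h | h
    · exact absurd h ht1
    · exact Or.inl h
    · exact Or.inr (Or.inl h)
    · exact Or.inr (Or.inr h)
  rcases h72_p3_orbit hne h13 h23 (fun x => φ x)
    (himg φ z₁ hz1sq hz1ne) (himg φ z₂ hz2sq hz2ne) (himg φ z₃ hz3sq hz3ne)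
    (hinj φ _ _ hne) (hinj φ _ _ h13) (hinj φ _ _ h23) hf1 hf2 hf3 s t hsG htG with
    h | h | h
  · refine ⟨0, ?_⟩
    rw [pow_zero, MulAut.one_apply]
    exact h.symm
  · refine ⟨1, ?_⟩
    rw [pow_one]
    exact h.symm
  · refine ⟨2, ?_⟩
    rw [pow_two, MulAut.mul_apply]
    exact h.symm

/-- Bridge: a finite group without an elementary abelian 2-subgroup of order `≥ 8` has 2-rank
`≤ 2` in the sense of `PRankLE`. -/
theorem h72_pRankLE_of_not_atLeast {X : Type*} [Group X] [Finite X]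
    (h : ¬ Cfsg.PRankAtLeast 2 3 X) : Cfsg.PRankLE 2 2 X := by
  have : Fact (Nat.Prime 2) := ⟨Nat.prime_two⟩
  intro A hA hA2
  by_contra hlt
  push Not at hlt
  apply h
  refine ⟨A, hA, hA2, ?_⟩
  have hp : IsPGroup 2 A := fun a => ⟨1, by
    rw [pow_one]
    exact Subtype.ext (by simpa using hA2 a a.2)⟩
  obtain ⟨n, hn⟩ := IsPGroup.iff_card.mp hp
  rw [hn] at hlt ⊢
  have h3 : 2 < n := (Nat.pow_lt_pow_iff_right (by norm_num)).mp hlt
  exact Nat.pow_le_pow_right (by norm_num) h3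

end Cfsg.Agent.Lib.helper72.ThreeInv
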